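import Groth.Agent.HTLib.Annihilator
import Groth.Prelude.Def_Formal2

/-!
Stabilisation of local cohomology with supports meeting `V(I)` in `V(J) ∩ V(I)`.
-/

set_option autoImplicit false
set_option maxHeartbeats 1000000
set_option backward.isDefEq.respectTransparency false
set_option backward.isDefEq.respectTransparency.types false

universe u

namespace Groth.Agent.HTLib

open CategoryTheory CategoryTheory.Limits Groth.Agent.DualCx Groth.Agent.LocH

attribute [local instance] HasDerivedCategory.standard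

noncomputable section

variable {A : Type u} [CommRing A] [IsNoetherianRing A] {ω : Dual.D A} (hω : Dual.IsDualizing A ω)
  (M : Type u) [AddCommGroup M] [Module A M] [Module.Finite A M]

omit [IsNoetherianRing A] in
theorem dimBetween_eq_krullDim {p q : PrimeSpectrum A} :
    Formal2.dimBetween A p.asIdeal q.asIdeal = Order.krullDim (Set.Icc p q) := by
  let B := Localization.AtPrime q.asIdeal
  let e := IsLocalization.AtPrime.primeSpectrumOrderIso B q.asIdeal
  have hcomap : ∀ w, (e w : PrimeSpectrum A).asIdeal = w.asIdeal.comap (algebraMap A B) := fun w => rfl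
  rw [Formal2.dimBetween, ringKrullDim_quotient]
  exact Order.krullDim_eq_of_orderIso
    { toFun := fun w => ⟨(e w.1).1, show p.asIdeal ≤ _ by rw [hcomap]; exact Ideal.map_le_iff_le_comap.1 w.2, (e w.1).2⟩
      invFun := fun r => ⟨e.symm ⟨r.1, r.2.2⟩, show p.asIdeal.map (algebraMap A B) ≤ (e.symm ⟨r.1, r.2.2⟩).asIdeal by
        rw [Ideal.map_le_iff_le_comap, ← hcomap, OrderIso.apply_symm_apply]
        exact r.2.1⟩
      left_inv := fun w => Subtype.ext (e.symm_apply_apply w.1)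
      right_inv := fun r => Subtype.ext (show ((e (e.symm ⟨r.1, r.2.2⟩) : PrimeSpectrum A)) = r.1 by
        rw [e.apply_symm_apply])
      map_rel_iff' := fun {a b} => e.le_iff_le }

include hω in
omit [Module.Finite A M] in
theorem dimBetween_eq {p q : PrimeSpectrum A} (hpq : p ≤ q) :
    Formal2.dimBetween A p.asIdeal q.asIdeal = (((del hω p - del hω q).toNat : ℕ) : WithBot ℕ∞) :=
  dimBetween_eq_krullDim.trans (krullDim_Icc hω hpq)

include hω in
theorem vanish_of_depth (res : InjectiveResolution (ModuleCat.of A M)) (q : PrimeSpectrum A) (j : ℕ)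
    (h : ∀ n : ℕ, n ≤ j → Van ω q.asIdeal M (-del hω q - n)) :
    Vanish (localizeRes q.asIdeal.primeCompl res) (IsLocalRing.maximalIdeal (Localization q.asIdeal.primeCompl)) j := by
  rw [← IsLocalization.AtPrime.map_eq_maximalIdeal q.asIdeal (Localization q.asIdeal.primeCompl)]
  refine vanish_localizeRes_of_exists q.asIdeal.primeCompl res fun x hx hd => ?_
  have hk : KillAt hω q M j 1 := fun y => by
    obtain ⟨t, ht, hty⟩ := h j le_rfl y
    exact ⟨t, ht, by rw [one_smul]; exact hty⟩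
  obtain ⟨u, hu, hux⟩ := (killLocal_iff_killAt hω M res q j 1).2 hk x hx hd
  rw [one_smul] at hux
  exact ⟨⟨u, hu⟩, hux⟩

include hω in
theorem van_of_lt_depth {p : PrimeSpectrum A} {s : ℕ}
    (h : (s : ℕ∞) < LocCoh.depth (Localization.AtPrime p.asIdeal) (LocalizedModule p.asIdeal.primeCompl M))
    (n : ℕ) (hn : n ≤ s) : Van ω p.asIdeal M (-del hω p - n) := by
  by_contra hv
  exact not_le.2 h ((DualCx.depth_le_iff hω p s).2 ⟨n, hn, hv⟩)

include hω in
theorem van_shift_of_lt_depth {p q : PrimeSpectrum A} (hpq : p ≤ q) {s : ℕ}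
    (h : (s : ℕ∞) < LocCoh.depth (Localization.AtPrime p.asIdeal) (LocalizedModule p.asIdeal.primeCompl M))
    (i : ℕ) (hi : i ≤ s) : Van ω p.asIdeal M (-del hω q - i) := by
  have h1 := del_le hω hpq
  by_cases h2 : (i : ℤ) < del hω p - del hω q
  · exact van_gt hω (by lia)
  · rw [show -del hω q - (i : ℤ) = -del hω p - ((i - (del hω p - del hω q).toNat : ℕ) : ℤ) by lia]
    exact van_of_lt_depth hω M h _ (by omega)

omit hω [Module.Finite A M] in
theorem bijective_of_vanish (res : InjectiveResolution (ModuleCat.of A M)) {J₀ J' : Ideal A} (h : J' ≤ J₀) (i : ℕ)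
    (hv : ∀ (q : Ideal A) [q.IsPrime], J' ≤ q → ¬ J₀ ≤ q → ∀ j, j ≤ i →
      Vanish (localizeRes q.primeCompl res) (IsLocalRing.maximalIdeal (Localization q.primeCompl)) j) :
    Function.Bijective ((Dual2.HmapOfLE h i).app (ModuleCat.of A M)).hom :=
  ⟨HmapOfLE_injective_of_vanish h res i fun q _ h1 h2 j hj => hv q h1 h2 j (by omega),
    HmapOfLE_surjective_of_vanish h res i fun q _ h1 h2 => hv q h1 h2 i le_rfl⟩

omit hω [Module.Finite A M] in
theorem theta_injective_of_vanish {T : Set (PrimeSpectrum A)} (res : InjectiveResolution (ModuleCat.of A M))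
    (J : Ideal A) (hJ : PrimeSpectrum.zeroLocus (J : Set A) ⊆ T) (i : ℕ)
    (hv : ∀ q : PrimeSpectrum A, q ∈ T → ¬ J ≤ q.asIdeal → ∀ j, j + 1 = i →
      Vanish (localizeRes q.asIdeal.primeCompl res) (IsLocalRing.maximalIdeal (Localization q.asIdeal.primeCompl)) j) :
    Function.Injective (theta J hJ i (ModuleCat.of A M)) :=
  (injective_iff_map_eq_zero _).2 fun y hy => by
    obtain ⟨K, hK, hKJ, h0⟩ := theta_eq_zero J hJ i _ y hy
    exact HmapOfLE_injective_of_vanish hKJ res i (fun q hq h1 h2 j hj => hv ⟨q, hq⟩ (hK h1) h2 j hj)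
      (h0.trans (map_zero _).symm)

variable (I J : Ideal A) (s d : ℕ) {T : Set (PrimeSpectrum A)}
  (hT : ∀ p : PrimeSpectrum A, p ∈ T ↔ ∀ q : PrimeSpectrum A, p ≤ q → I ≤ q.asIdeal → J ≤ q.asIdeal)

include hT

omit hω [Module.Finite A M] [IsNoetherianRing A] in
theorem stable_T : StableUnderSpecialization T := fun p r hpr hp =>
  (hT r).2 fun q hrq => (hT p).1 hp q (((PrimeSpectrum.le_iff_specializes p r).2 hpr).trans hrq)

omit hω [Module.Finite A M] [IsNoetherianRing A] in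
theorem mem_T_of_le {p : PrimeSpectrum A} (h : J ≤ p.asIdeal) : p ∈ T :=
  (hT p).2 fun _ hpq _ => h.trans hpq

omit hω [Module.Finite A M] [IsNoetherianRing A] in
theorem J_le_of_mem {p : PrimeSpectrum A} (hp : p ∈ T) (hI : I ≤ p.asIdeal) : J ≤ p.asIdeal :=
  (hT p).1 hp p le_rfl hI

omit hω [Module.Finite A M] [IsNoetherianRing A] in
theorem zeroLocus_subset_T {J' : Ideal A}
    (h : PrimeSpectrum.zeroLocus (J' : Set A) ∩ PrimeSpectrum.zeroLocus (I : Set A) =
      PrimeSpectrum.zeroLocus (J : Set A) ∩ PrimeSpectrum.zeroLocus (I : Set A)) :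
    PrimeSpectrum.zeroLocus (J' : Set A) ⊆ T := fun p hp => (hT p).2 fun q hpq hIq => by
  have h1 : q ∈ PrimeSpectrum.zeroLocus (J' : Set A) ∩ PrimeSpectrum.zeroLocus (I : Set A) :=
    ⟨(show J' ≤ p.asIdeal from hp).trans hpq, hIq⟩
  rw [h] at h1
  exact h1.1

variable (h3 : ∀ p : PrimeSpectrum A, ¬ I ≤ p.asIdeal → p ∈ T → ∃ q : PrimeSpectrum A, p ≤ q ∧ J ≤ q.asIdeal ∧
    I ≤ q.asIdeal ∧ Formal2.dimBetween A p.asIdeal q.asIdeal ≤ ((d : ℕ∞) : WithBot ℕ∞))
  (h4 : ∀ p : PrimeSpectrum A, ¬ I ≤ p.asIdeal → p ∉ T → ∀ q : PrimeSpectrum A, p ≤ q → J ≤ q.asIdeal → I ≤ q.asIdeal →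
    (s : ℕ∞) ≤ LocCoh.depth (Localization.AtPrime p.asIdeal) (LocalizedModule p.asIdeal.primeCompl M) ∨
      (((d + s : ℕ) : ℕ∞) : WithBot ℕ∞) < ((LocCoh.depth (Localization.AtPrime p.asIdeal)
        (LocalizedModule p.asIdeal.primeCompl M) : ℕ∞) : WithBot ℕ∞) + Formal2.dimBetween A p.asIdeal q.asIdeal)

include hω h3 h4

/-- The vanishing needed off `V(I)` and `T`. -/
theorem van_outside {p q : PrimeSpectrum A} (hIp : ¬ I ≤ p.asIdeal) (hp : p ∉ T) (hq : q ∈ T) (hpq : p ≤ q)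
    (i : ℕ) (hi : i ≤ s) : Van ω p.asIdeal M (-del hω q - i) := by
  have hne : p < q := lt_of_le_of_ne hpq fun h => hp (h.symm ▸ hq)
  obtain ⟨r, hqr, hJr, hIr, hdr⟩ : ∃ r : PrimeSpectrum A, q ≤ r ∧ J ≤ r.asIdeal ∧ I ≤ r.asIdeal ∧
      del hω q - del hω r ≤ d := by
    by_cases hIq : I ≤ q.asIdeal
    · exact ⟨q, le_rfl, J_le_of_mem I J hT hq hIq, hIq, by lia⟩
    · obtain ⟨r, hqr, hJr, hIr, hdr⟩ := h3 q hIq hq
      rw [dimBetween_eq hω hqr] at hdr
      have h1 : (del hω q - del hω r).toNat ≤ d := by exact_mod_cast hdr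
      exact ⟨r, hqr, hJr, hIr, by lia⟩
  rcases h4 p hIp hp r (hpq.trans hqr) hJr hIr with h | h
  · by_cases h2 : (i : ℤ) < del hω p - del hω q
    · exact van_gt hω (by lia)
    · by_contra hv
      have h1 := del_lt hω hne
      have h5 := (DualCx.depth_le_iff hω p (i - (del hω p - del hω q).toNat)).2 ⟨_, le_rfl, fun h' => hv (by
        rwa [show -del hω q - (i : ℤ) = -del hω p - ((i - (del hω p - del hω q).toNat : ℕ) : ℤ) by lia])⟩
      have h6 : s ≤ i - (del hω p - del hω q).toNat := by exact_mod_cast h.trans h5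
      omega
  · rw [dimBetween_eq hω (hpq.trans hqr), ← krullDim_Icc hω (hpq.trans hqr), WithBot.coe_natCast,
      cond_iff hω M (hpq.trans hqr) (d + s)] at h
    have h1 := del_le hω hqr
    rw [show -del hω q - (i : ℤ) = -del hω r - ((i + (del hω q - del hω r).toNat : ℕ) : ℤ) by lia]
    exact h _ (by lia)

/-- The stabilising ideal. -/
theorem exists_stable (res : InjectiveResolution (ModuleCat.of A M)) :
    ∃ J₀ : Ideal A, J₀ ≤ J ∧ PrimeSpectrum.zeroLocus (J₀ : Set A) ∩ PrimeSpectrum.zeroLocus (I : Set A) =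
        PrimeSpectrum.zeroLocus (J : Set A) ∩ PrimeSpectrum.zeroLocus (I : Set A) ∧
      (∀ q : PrimeSpectrum A, q ∈ T → ¬ J₀ ≤ q.asIdeal → ∀ j, j ≤ s →
        Vanish (localizeRes q.asIdeal.primeCompl res) (IsLocalRing.maximalIdeal (Localization q.asIdeal.primeCompl)) j) ∧
      (∀ (J' : Ideal A) (hJ' : J' ≤ J₀), PrimeSpectrum.zeroLocus ((J' : Ideal A) : Set A) ∩
          PrimeSpectrum.zeroLocus ((I : Ideal A) : Set A) =
          PrimeSpectrum.zeroLocus ((J : Ideal A) : Set A) ∩ PrimeSpectrum.zeroLocus ((I : Ideal A) : Set A) →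
        ∀ i : ℕ, i ≤ s → Function.Bijective ((Dual2.HmapOfLE hJ' i).app (ModuleCat.of A M)).hom) ∧
      (∃ n : ℕ, ∀ a ∈ (J₀ * I) ^ n, ∀ i : ℕ, i ≤ s → ∀ x : LocCoh.H J₀ i M, a • x = 0) := by
  classical
  have hTs := stable_T I J hT
  have hT' : StableUnderSpecialization (T ∪ PrimeSpectrum.zeroLocus (I : Set A)) := fun p r hpr hp =>
    hp.imp (hTs hpr) fun h => (show I ≤ p.asIdeal from h).trans ((PrimeSpectrum.le_iff_specializes p r).2 hpr)
  obtain ⟨K, hK, hk⟩ := exists_killer_of_van hω M (T := T) hT' s fun p q hp hq hpq i hi =>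
    van_outside hω M I J s d hT h3 h4 (fun h => hp (Or.inr h)) (fun h => hp (Or.inl h)) hq hpq i hi
  have hfin : K.minimalPrimes.Finite := Ideal.finite_minimalPrimes_of_isNoetherianRing A K
  let G := hfin.toFinset.filter fun w => ¬ I ≤ w
  let J₁ : Ideal A := G.inf id
  have hJ₁ : PrimeSpectrum.zeroLocus (J₁ : Set A) ⊆ T := fun p hp => by
    obtain ⟨w, hw, hwp⟩ := (p.isPrime.inf_le').1 (show J₁ ≤ p.asIdeal from hp)
    obtain ⟨h1, h2⟩ := Finset.mem_filter.1 hw
    have hw' := hfin.mem_toFinset.1 h1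
    exact hTs ((PrimeSpectrum.le_iff_specializes ⟨w, hw'.1.1⟩ p).1 hwp) ((hK hw'.1.2).resolve_right h2)
  have hle : J₁ * I ≤ K.radical := by
    rw [← Ideal.sInf_minimalPrimes (I := K)]
    refine le_sInf fun w hw => ?_
    by_cases h : I ≤ w
    · exact Ideal.mul_le_right.trans h
    · exact Ideal.mul_le_left.trans (Finset.inf_le (f := id) (Finset.mem_filter.2 ⟨hfin.mem_toFinset.2 hw, h⟩))
  obtain ⟨n, hn⟩ := Ideal.exists_pow_le_of_le_radical_of_fg hle (IsNoetherian.noetherian _)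
  have hJ₀T : PrimeSpectrum.zeroLocus ((J₁ * J : Ideal A) : Set A) ⊆ T := fun p hp =>
    (p.isPrime.mul_le.1 (show J₁ * J ≤ p.asIdeal from hp)).elim (fun h => hJ₁ h) (mem_T_of_le I J hT)
  have hHT : ∀ i : ℕ, i ≤ s → ∀ a ∈ K, ∀ x : Dual2.HT T i M, a • x = 0 := fun i hi a ha x => by
    obtain ⟨L, hL, y, rfl⟩ := exists_theta i (ModuleCat.of A M) x
    show a • theta L hL i (ModuleCat.of A M) y = 0
    rw [← map_smul]
    exact (congrArg _ (hk i hi a ha L hL y)).trans (map_zero _)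
  have hv : ∀ q : PrimeSpectrum A, q ∈ T → ¬ J₁ * J ≤ q.asIdeal → ∀ j, j ≤ s →
      Vanish (localizeRes q.asIdeal.primeCompl res) (IsLocalRing.maximalIdeal (Localization q.asIdeal.primeCompl)) j :=
    fun q hq hJq => vanish_of_killed hTs res K s hHT q hq fun hKq => by
      have hIq : ¬ I ≤ q.asIdeal := fun h => hJq (Ideal.mul_le_right.trans (J_le_of_mem I J hT hq h))
      have h1 := q.isPrime.le_of_pow_le (hn.trans hKq)
      exact hJq (Ideal.mul_le_left.trans ((q.isPrime.mul_le.1 h1).resolve_right hIq))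
  refine ⟨J₁ * J, Ideal.mul_le_right, ?_, hv, fun J' hJ' heq i hi => ?_, n, fun a ha i hi x => ?_⟩
  · refine Set.Subset.antisymm (fun p hp => ⟨J_le_of_mem I J hT (hJ₀T hp.1) hp.2, hp.2⟩) fun p hp => ⟨?_, hp.2⟩
    exact Ideal.mul_le_right.trans (show J ≤ p.asIdeal from hp.1)
  · exact bijective_of_vanish M res hJ' i fun q hq h1 h2 j hj =>
      hv ⟨q, hq⟩ (zeroLocus_subset_T I J hT heq h1) h2 j (hj.trans hi)
  · refine theta_injective_of_vanish M res (J₁ * J) hJ₀T i (fun q hq hJq j hj => hv q hq hJq j (by omega)) ?_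
    rw [map_smul, map_zero]
    exact hHT i hi a (hn (Ideal.pow_right_mono (Ideal.mul_mono_left Ideal.mul_le_left) n ha)) _

/-- With the condition on `V(I)`, the modules are finite. -/
theorem finite_of_cond (res : InjectiveResolution (ModuleCat.of A M))
    (h2 : ∀ p : PrimeSpectrum A, I ≤ p.asIdeal → ¬ J ≤ p.asIdeal → ∀ q : PrimeSpectrum A, p ≤ q → J ≤ q.asIdeal →
      I ≤ q.asIdeal → ((s : ℕ∞) : WithBot ℕ∞) < ((LocCoh.depth (Localization.AtPrime p.asIdeal)
        (LocalizedModule p.asIdeal.primeCompl M) : ℕ∞) : WithBot ℕ∞) + Formal2.dimBetween A p.asIdeal q.asIdeal)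
    {J₀ : Ideal A} (hJ₀ : PrimeSpectrum.zeroLocus (J₀ : Set A) ⊆ T)
    (hv : ∀ q : PrimeSpectrum A, q ∈ T → ¬ J₀ ≤ q.asIdeal → ∀ j, j ≤ s →
      Vanish (localizeRes q.asIdeal.primeCompl res) (IsLocalRing.maximalIdeal (Localization q.asIdeal.primeCompl)) j)
    (i : ℕ) (hi : i ≤ s) : Module.Finite A (LocCoh.H J₀ i M) := by
  have hTs := stable_T I J hT
  obtain ⟨K, hK, hk⟩ := exists_killer_of_van hω M (T := T) hTs s fun p q hp hq hpq j hj => by
    by_cases hIp : I ≤ p.asIdeal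
    · have hIq : I ≤ q.asIdeal := hIp.trans hpq
      have h := h2 p hIp (fun h => hp (mem_T_of_le I J hT h)) q hpq (J_le_of_mem I J hT hq hIq) hIq
      rw [dimBetween_eq hω hpq, ← krullDim_Icc hω hpq, WithBot.coe_natCast, cond_iff hω M hpq s] at h
      exact h j hj
    · exact van_outside hω M I J s d hT h3 h4 hIp hp hq hpq j hj
  haveI := finite_of_killed_HT hTs M hK s (fun j hj a ha x => by
    obtain ⟨L, hL, y, rfl⟩ := exists_theta j (ModuleCat.of A M) x
    show a • theta L hL j (ModuleCat.of A M) y = 0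
    rw [← map_smul]
    exact (congrArg _ (hk j hj a ha L hL y)).trans (map_zero _)) i hi
  exact Module.Finite.of_injective (theta J₀ hJ₀ i (ModuleCat.of A M))
    (theta_injective_of_vanish M res J₀ hJ₀ i fun q hq hJq j hj => hv q hq hJq j (by omega))

/-- With depth `> s` on `T ∖ V(I)`, `H^i_J` is killed by a power of `I`. -/
theorem pow_kill_of_depth (res : InjectiveResolution (ModuleCat.of A M))
    (h6 : ∀ p : PrimeSpectrum A, ¬ I ≤ p.asIdeal → p ∈ T →
      (s : ℕ∞) < LocCoh.depth (Localization.AtPrime p.asIdeal) (LocalizedModule p.asIdeal.primeCompl M)) :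
    ∃ n : ℕ, ∀ a ∈ I ^ n, ∀ i : ℕ, i ≤ s → ∀ x : LocCoh.H J i M, a • x = 0 := by
  have hT' : StableUnderSpecialization (PrimeSpectrum.zeroLocus (I : Set A)) := fun p r hpr hp =>
    (show I ≤ p.asIdeal from hp).trans ((PrimeSpectrum.le_iff_specializes p r).2 hpr)
  obtain ⟨K, hK, hk⟩ := exists_killer_of_van hω M (T := T) hT' s fun p q hp hq hpq i hi => by
    by_cases hpT : p ∈ T
    · exact van_shift_of_lt_depth hω M hpq (h6 p hp hpT) i hi
    · exact van_outside hω M I J s d hT h3 h4 hp hpT hq hpq i hi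
  obtain ⟨n, hn⟩ := Ideal.exists_pow_le_of_le_radical_of_fg
    ((PrimeSpectrum.zeroLocus_subset_zeroLocus_iff K I).1 hK) (IsNoetherian.noetherian I)
  exact ⟨n, fun a ha i hi x => hk i hi a (hn ha) J (fun p hp => mem_T_of_le I J hT hp) x⟩

end

end Groth.Agent.HTLib
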