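import Groth.Agent.HTLib.UDevT
import Groth.Agent.LocH.Sequence
import Groth.Agent.LocH.CompareLE

/-!
Pieces of the long exact sequence of `H^i_T`.
-/

set_option autoImplicit false
set_option maxHeartbeats 1000000
set_option backward.isDefEq.respectTransparency false

namespace Groth.Agent.HTLib

universe u

open CategoryTheory CategoryTheory.Limits CategoryTheory.Abelian Groth.Agent.LocH

variable {R : Type u} [CommRing R] [IsNoetherianRing R] {S S₁ S₂ : ShortComplex (ModuleCat.{u} R)} {T : Set (PrimeSpectrum R)}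

theorem HmapOfLE_delta (hS : S.ShortExact) {I J : Ideal R} (h : I ≤ J) (i : ℕ)
    (w : ↑((localCohomology J i).obj S.X₃)) :
    (Dual2.HmapOfLE h (i + 1)).app S.X₁ (delta hS i w) = delta hS i ((Dual2.HmapOfLE h i).app S.X₃ w) := by
  obtain ⟨n, α, rfl⟩ := exists_hι w
  rw [delta_hι, HmapOfLE_hι, HmapOfLE_hι, delta_hι, assoc₁]

theorem delta_natural (h₁ : S₁.ShortExact) (h₂ : S₂.ShortExact) (τ : S₁ ⟶ S₂) (I : Ideal R) (i : ℕ)
    (w : ↑((localCohomology I i).obj S₁.X₃)) :
    (localCohomology I (i + 1)).map τ.τ₁ (delta h₁ i w) = delta h₂ i ((localCohomology I i).map τ.τ₃ w) := by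
  obtain ⟨n, α, rfl⟩ := exists_hι w
  rw [delta_hι, map_hι, map_hι, delta_hι, Ext.comp_assoc_of_second_deg_zero,
    Ext.comp_assoc_of_third_deg_zero, ShortComplex.ShortExact.extClass_naturality h₁ h₂ τ]

theorem exact₂_T (hS : S.ShortExact) (i : ℕ)
    {x : ↑((localCohomology.ofDiagram (Dual2.idealsInDiagram T) i).obj S.X₂)}
    (hx : (localCohomology.ofDiagram (Dual2.idealsInDiagram T) i).map S.g x = 0) :
    ∃ y, (localCohomology.ofDiagram (Dual2.idealsInDiagram T) i).map S.f y = x := by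
  obtain ⟨K, hK, w, rfl⟩ := exists_theta i _ x
  rw [← theta_map] at hx
  obtain ⟨K', hK', hle, h0⟩ := theta_eq_zero K hK i _ _ hx
  have h1 : (localCohomology K' i).map S.g ((Dual2.HmapOfLE hle i).app _ w) = 0 := by
    rw [← h0]
    exact (congrArg (fun g => g.hom w) ((Dual2.HmapOfLE hle i).naturality S.g)).symm
  obtain ⟨y, hy⟩ := exact₂ hS i h1
  exact ⟨theta K' hK' i _ y, by rw [← theta_map, hy, theta_HmapOfLE]⟩

/-- If `H^{i+1}_T` of the first map is zero, classes on the third lift after pushing. -/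
theorem exact₃_natural (h₁ : S₁.ShortExact) (h₂ : S₂.ShortExact) (τ : S₁ ⟶ S₂) (i : ℕ)
    (hτ : (localCohomology.ofDiagram (Dual2.idealsInDiagram T) (i + 1)).map τ.τ₁ = 0)
    (x : ↑((localCohomology.ofDiagram (Dual2.idealsInDiagram T) i).obj S₁.X₃)) :
    ∃ z, (localCohomology.ofDiagram (Dual2.idealsInDiagram T) i).map S₂.g z =
      (localCohomology.ofDiagram (Dual2.idealsInDiagram T) i).map τ.τ₃ x := by
  obtain ⟨K, hK, w, rfl⟩ := exists_theta i _ x
  have h0 : theta K hK (i + 1) _ ((localCohomology K (i + 1)).map τ.τ₁ (delta h₁ i w)) = 0 := by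
    rw [theta_map, hτ]
    rfl
  obtain ⟨K', hK', hle, h0⟩ := theta_eq_zero K hK (i + 1) _ _ h0
  let w' := (Dual2.HmapOfLE hle i).app _ w
  have h1 : delta h₂ i ((localCohomology K' i).map τ.τ₃ w') = 0 := by
    rw [← delta_natural h₁ h₂ τ, ← HmapOfLE_delta h₁ hle, ← h0]
    exact (congrArg (fun g => g.hom (delta h₁ i w)) ((Dual2.HmapOfLE hle (i + 1)).naturality τ.τ₁)).symm
  obtain ⟨y, hy⟩ := exact₃ h₂ i h1
  exact ⟨theta K' hK' i _ y, by rw [← theta_map, hy, theta_map, theta_HmapOfLE]⟩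

end Groth.Agent.HTLib
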