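import Groth.Agent.LocH.Devissage
import Groth.Agent.LocH.CompareLE

/-!
A dévissage around a prime `P`: only primes below `P` matter after multiplying by an element outside `P`.
-/

set_option autoImplicit false

namespace Groth.Agent.HTLib

universe u

open CategoryTheory CategoryTheory.Limits Groth.Agent.LocH

variable {R : Type u} [CommRing R] [IsNoetherianRing R] {M : ModuleCat.{u} R} (J : InjectiveResolution M)

theorem exists_smul_mem_sup_boundary_aux {I I' P : Ideal R} [P.IsPrime] (j : ℕ)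
    (hv : ∀ (p : Ideal R) [p.IsPrime], I ≤ p → ¬ I' ≤ p → p ≤ P →
      Vanish (localizeRes p.primeCompl J) (IsLocalRing.maximalIdeal (Localization p.primeCompl)) j) :
    ∀ L : Ideal R, I ≤ L → ∀ z ∈ DRing.torsionSub I (J.cocomplex.X j),
      J.cocomplex.d j (j + 1) z ∈ DRing.torsionSub I' (J.cocomplex.X (j + 1)) → L ≤ torsionColon I' z →
      ∃ s ∉ P, s • z ∈ DRing.torsionSub I' (J.cocomplex.X j) ⊔ boundary J I j := by
  intro L
  induction L using WellFoundedGT.induction with
  | ind L ih =>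
  intro hIL z hzI hdz hL
  by_cases hgood : ∀ p ∈ L.minimalPrimes, I' ≤ p ∨ ¬ p ≤ P
  · classical
    have hfin : L.minimalPrimes.Finite := Ideal.finite_minimalPrimes_of_isNoetherianRing R L
    have ht : ∀ p : hfin.toFinset.filter (fun p => ¬ I' ≤ p), ∃ t, t ∈ p.1 ∧ t ∉ P := fun p => by
      obtain ⟨h1, h2⟩ := Finset.mem_filter.1 p.2
      exact SetLike.not_le_iff_exists.1 ((hgood p.1 (hfin.mem_toFinset.1 h1)).resolve_left h2)
    choose t htp htP using ht
    let u := ∏ p, t p
    have huP : u ∉ P := fun h => by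
      obtain ⟨p, -, hp⟩ := (Ideal.IsPrime.prod_mem_iff).1 h
      exact htP p hp
    have hle : I' * Ideal.span {u} ≤ torsionColon I' z := by
      refine le_trans ?_ ((Ideal.radical_mono hL).trans (le_of_eq (Ideal.radical_idem _)))
      rw [← Ideal.sInf_minimalPrimes (I := L)]
      refine le_sInf fun p hp => ?_
      by_cases h : I' ≤ p
      · exact Ideal.mul_le_left.trans h
      · refine Ideal.mul_le_right.trans ((Ideal.span_singleton_le_iff_mem p).2 ?_)
        exact p.mem_of_dvd (Finset.dvd_prod_of_mem t (Finset.mem_univ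
          ⟨p, Finset.mem_filter.2 ⟨hfin.mem_toFinset.2 hp, h⟩⟩)) (htp ⟨p, Finset.mem_filter.2 ⟨hfin.mem_toFinset.2 hp, h⟩⟩)
    obtain ⟨e, he⟩ := Ideal.exists_pow_le_of_le_radical_of_fg hle (IsNoetherian.noetherian _)
    refine ⟨u ^ e, fun h => huP (Ideal.IsPrime.mem_of_pow_mem ‹_› e h), Submodule.mem_sup_left
      (mem_torsionSub_of_le_torsionColon fun a ha => mem_torsionColon.2 ⟨e, ?_⟩)⟩
    rw [← mul_smul, ← mul_pow]
    exact he (Ideal.pow_mem_pow (Ideal.mul_mem_mul ha (Ideal.mem_span_singleton_self u)) e)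
  push Not at hgood
  obtain ⟨p, hp, hI'p, hpP⟩ := hgood
  have := hp.1.1
  obtain ⟨b, hb, hbp⟩ := SetLike.not_le_iff_exists.1 hI'p
  have floc_zero : ∀ {n : ℕ} {x : J.cocomplex.X n}, x ∈ DRing.torsionSub I' (J.cocomplex.X n) →
      floc p.primeCompl J n x = 0 := fun {n} {x} ⟨k, hk⟩ =>
    (IsLocalizedModule.eq_zero_iff p.primeCompl (floc p.primeCompl J n)).2
      ⟨⟨b ^ k, pow_mem (S := p.primeCompl) hbp k⟩, hk _ (Ideal.pow_mem_pow hb k)⟩
  have hcyc : dloc p.primeCompl J j (j + 1) (floc p.primeCompl J j z) = 0 := by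
    rw [dloc_floc, floc_zero hdz]
  have hmax : floc p.primeCompl J j z ∈ DRing.torsionSub
      (IsLocalRing.maximalIdeal (Localization p.primeCompl)) ((J.cocomplex.X j).localizedModule p.primeCompl) := by
    apply mem_torsionSub_of_le_torsionColon
    rw [← IsLocalization.AtPrime.map_eq_maximalIdeal p (Localization p.primeCompl),
      ← IsLocalization.AtPrime.radical_map_of_mem_minimalPrimes (Localization p.primeCompl) p L hp]
    refine (Ideal.radical_mono (Ideal.map_le_iff_le_comap.2 fun a ha => ?_)).trans (le_of_eq (Ideal.radical_idem _))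
    obtain ⟨N, hN⟩ := mem_torsionColon.1 (hL ha)
    refine mem_torsionColon.2 ⟨N, ?_⟩
    rw [← map_pow, algebraMap_smul, ← map_smul, floc_zero hN]
    exact Submodule.zero_mem _
  have hbd := hv p (hIL.trans hp.1.2) hI'p hpP _ hmax hcyc
  rw [← IsLocalization.AtPrime.map_eq_maximalIdeal p (Localization p.primeCompl)] at hbd
  obtain ⟨u, hu⟩ := exists_smul_mem_boundary p.primeCompl J hbd
  obtain ⟨c, hc, m, hm⟩ := exists_boundary_killed_correction J hu
  have hcI : c ∈ boundary J I j := boundary_anti J (hIL.trans hp.1.2) j hc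
  have hlt : L < L ⊔ Ideal.span {(u : R)} :=
    lt_of_le_of_ne le_sup_left fun e => u.2 (hp.1.2 (e ▸ Submodule.mem_sup_right (Ideal.mem_span_singleton_self _)))
  obtain ⟨s, hs, key⟩ := ih _ hlt (hIL.trans le_sup_left) (z - c)
    (Submodule.sub_mem _ hzI (boundary_le_torsionSub J I j hcI))
    (by rw [map_sub, d_boundary J I hcI, sub_zero]; exact hdz)
    (sup_le (fun a ha => by
      obtain ⟨N, hN⟩ := mem_torsionColon.1 (hL ha)
      obtain ⟨k, hk⟩ := boundary_le_torsionSub J p j hc
      refine mem_torsionColon.2 ⟨k + N, ?_⟩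
      rw [smul_sub, pow_add, mul_smul, mul_comm, mul_smul _ _ c, hk _ (Ideal.pow_mem_pow (hp.1.2 ha) k),
        smul_zero, sub_zero]
      exact Submodule.smul_mem _ _ hN)
    (Ideal.span_le.2 (Set.singleton_subset_iff.2 (mem_torsionColon.2
      ⟨m, by rw [hm]; exact Submodule.zero_mem _⟩))))
  refine ⟨s, hs, ?_⟩
  have := Submodule.add_mem _ key (Submodule.mem_sup_right (Submodule.smul_mem _ s hcI))
  rwa [← smul_add, sub_add_cancel] at this

/-- An `I`-boundary that is an `I'`-torsion cycle is, up to an element outside `P`, an `I'`-boundary. -/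
theorem exists_smul_mem_boundary_of_boundary {I I' P : Ideal R} [P.IsPrime] (hII' : I ≤ I') {j : ℕ}
    (hv : ∀ (p : Ideal R) [p.IsPrime], I ≤ p → ¬ I' ≤ p → p ≤ P → ∀ k, k + 1 = j →
      Vanish (localizeRes p.primeCompl J) (IsLocalRing.maximalIdeal (Localization p.primeCompl)) k)
    {x : J.cocomplex.X j} (hx : x ∈ DRing.torsionSub I' (J.cocomplex.X j)) (hb : x ∈ boundary J I j) :
    ∃ s ∉ P, s • x ∈ boundary J I' j := by
  cases j with
  | zero =>
    refine ⟨1, fun h => Ideal.IsPrime.ne_top ‹_› ((Ideal.eq_top_iff_one P).2 h), ?_⟩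
    rw [one_smul]
    exact hb
  | succ k =>
    obtain ⟨w, ⟨n, hn⟩, rfl⟩ := hb
    obtain ⟨s, hs, hw⟩ := exists_smul_mem_sup_boundary_aux J (P := P) k
      (fun p _ h1 h2 h3 => hv p h1 h2 h3 k rfl) I le_rfl w ⟨n, hn⟩ hx
      (fun a ha => mem_torsionColon.2 ⟨n, by rw [hn _ (Ideal.pow_mem_pow ha n)]; exact Submodule.zero_mem _⟩)
    obtain ⟨t, ht, b, hb, htb⟩ := Submodule.mem_sup.1 hw
    refine ⟨s, hs, t, ht, ?_⟩
    rw [← map_smul, ← htb, map_add, d_boundary J I hb, add_zero]

end Groth.Agent.HTLib
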