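import Groth.Agent.HTLib.Basic
import Groth.Agent.HTLib.Vanish
import Groth.Agent.LocH.FiniteH
import Groth.Agent.LocH.DepthPrimes

/-!
`H^i_T(M)` is finite for all `i ≤ n` iff an ideal with zero locus in `T` kills it.
-/

set_option autoImplicit false
set_option backward.isDefEq.respectTransparency false
set_option backward.isDefEq.respectTransparency.types false

namespace Groth.Agent.HTLib

universe u

open CategoryTheory CategoryTheory.Limits Groth.Agent.LocH

variable {A : Type u} [CommRing A] [IsNoetherianRing A] {T : Set (PrimeSpectrum A)}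

theorem zeroLocus_subset (hT : StableUnderSpecialization T) {p : PrimeSpectrum A} (hp : p ∈ T) :
    PrimeSpectrum.zeroLocus (p.asIdeal : Set A) ⊆ T := fun q hq =>
  hT ((PrimeSpectrum.le_iff_specializes p q).1 hq) hp

/-- Off `V(J)`, the points of `T` do not carry local cohomology in degrees `≤ n`. -/
theorem vanish_of_killed (hT : StableUnderSpecialization T) {M : ModuleCat.{u} A} (res : InjectiveResolution M)
    (J : Ideal A) (n : ℕ)
    (hk : ∀ i, i ≤ n → ∀ a ∈ J, ∀ x : ↑((localCohomology.ofDiagram.{u, u} (Dual2.idealsInDiagram T) i).obj M), a • x = 0)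
    (p : PrimeSpectrum A) (hpT : p ∈ T) (hJp : ¬ J ≤ p.asIdeal) (j : ℕ) (hj : j ≤ n) :
    Vanish (localizeRes p.asIdeal.primeCompl res) (IsLocalRing.maximalIdeal (Localization p.asIdeal.primeCompl)) j := by
  induction he : p.asIdeal.height using WellFoundedLT.induction generalizing p j with
  | ind e ih =>
  subst he
  obtain ⟨a, haJ, hap⟩ := SetLike.not_le_iff_exists.1 hJp
  rw [← IsLocalization.AtPrime.map_eq_maximalIdeal p.asIdeal (Localization p.asIdeal.primeCompl)]
  refine vanish_localizeRes_of_exists p.asIdeal.primeCompl res fun x hx hd => ?_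
  obtain ⟨z, hz⟩ := exists_cycle (I := p.asIdeal) res j x hx hd
  subst hz
  have hpV := zeroLocus_subset hT hpT
  obtain ⟨K, hK, hKp, hK0⟩ := theta_eq_zero p.asIdeal hpV j M (cyclesToH res j (a • z))
    (by rw [map_smul, map_smul]; exact hk j hj a haJ _)
  have e : cycleVal res j (a • z) = a • cycleVal res j z := (congrArg _ (map_smul _ a z)).trans (map_smul _ _ _)
  obtain ⟨z', hz'⟩ := exists_cycle (I := K) res j (cycleVal res j (a • z))
    (torsionSub_anti hKp _ ((gammaComplex res p.asIdeal).iCycles j (a • z)).2) (d_cycleVal res j (a • z))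
  rw [HmapOfLE_cyclesToH hKp res j (a • z) z' hz', cyclesToH_eq_zero_iff_mem, hz', e] at hK0
  have hv : ∀ (q : Ideal A) [q.IsPrime], K ≤ q → ¬ p.asIdeal ≤ q → q ≤ p.asIdeal → ∀ k, k + 1 = j →
      Vanish (localizeRes q.primeCompl res) (IsLocalRing.maximalIdeal (Localization q.primeCompl)) k :=
    fun q hq h1 h2 h3 k hk' => ih _
      (Ideal.height_strict_mono_of_isPrime (lt_of_le_of_ne h3 fun h => h2 (h ▸ le_rfl))) ⟨q, hq⟩
      (hK h1) (fun hJ => hJp (hJ.trans h3)) k (by omega) rfl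
  obtain ⟨s, hs, hsx⟩ := exists_smul_mem_boundary_of_boundary res (P := p.asIdeal) hKp hv
    (Submodule.smul_mem _ a hx) hK0
  refine ⟨⟨s * a, fun h => (p.2.mem_or_mem h).elim hs hap⟩, ?_⟩
  rw [mul_smul]
  exact hsx

variable (hT : StableUnderSpecialization T) (M : Type u) [AddCommGroup M] [Module A M] [Module.Finite A M]

include hT in
theorem finite_of_killed_HT {J : Ideal A} (hJ : PrimeSpectrum.zeroLocus (J : Set A) ⊆ T) (n : ℕ)
    (hk : ∀ i, i ≤ n → ∀ a ∈ J, ∀ x : Dual2.HT T i M, a • x = 0) (i : ℕ) (hi : i ≤ n) :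
    Module.Finite A (Dual2.HT T i M) := by
  let res : InjectiveResolution (ModuleCat.of A M) := injectiveResolution _
  have hv : ∀ {K : Ideal A}, PrimeSpectrum.zeroLocus (K : Set A) ⊆ T → ∀ (q : Ideal A) [q.IsPrime],
      K ≤ q → ¬ J ≤ q → ∀ j, j ≤ n →
      Vanish (localizeRes q.primeCompl res) (IsLocalRing.maximalIdeal (Localization q.primeCompl)) j :=
    fun hK q hq h1 h2 j hj => vanish_of_killed hT res J n hk ⟨q, hq⟩ (hK h1) h2 j hj
  have hinj : ∀ j, j ≤ n → Function.Injective (theta J hJ j (ModuleCat.of A M)) := fun j hj =>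
    (injective_iff_map_eq_zero _).2 fun y hy => by
      obtain ⟨K, hK, hKJ, h0⟩ := theta_eq_zero J hJ j _ y hy
      exact (HmapOfLE_injective_of_vanish hKJ res j fun q _ h1 h2 k hk' => hv hK q h1 h2 k (by omega))
        (h0.trans (map_zero _).symm)
  have hfin : Module.Finite A (LocCoh.H J i M) :=
    LocH.finite_of_killed J M n (fun j hj => ⟨1, fun a ha x => hinj j hj (by
      rw [pow_one] at ha
      rw [map_smul, map_zero]
      exact hk j hj a ha _)⟩) i hi
  refine Module.Finite.of_surjective (theta J hJ i (ModuleCat.of A M)) fun x => ?_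
  obtain ⟨K₀, hK₀, y, rfl⟩ := exists_theta i (ModuleCat.of A M) x
  have hK := mul_in hJ hK₀
  obtain ⟨w, hw⟩ := HmapOfLE_surjective_of_vanish (Ideal.mul_le_left : J * K₀ ≤ J) res i
    (fun q _ h1 h2 => hv hK q h1 h2 i hi) ((Dual2.HmapOfLE (Ideal.mul_le_right : J * K₀ ≤ K₀) i).app _ y)
  refine ⟨w, ?_⟩
  rw [← theta_HmapOfLE J hJ hK Ideal.mul_le_left i _ w, hw, theta_HmapOfLE]

omit hT in
theorem exists_killer (n : ℕ) (h : ∀ i, i ≤ n → Module.Finite A (Dual2.HT T i M)) :
    ∃ J : Ideal A, PrimeSpectrum.zeroLocus (J : Set A) ⊆ T ∧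
      ∀ i, i ≤ n → ∀ a ∈ J, ∀ x : Dual2.HT T i M, a • x = 0 := by
  classical
  refine ⟨(Finset.range (n + 1)).inf fun i => Module.annihilator A (Dual2.HT T i M), fun p hp => ?_,
    fun i hi a ha x => Module.mem_annihilator.1
      (Finset.inf_le (f := fun i => Module.annihilator A (Dual2.HT T i M)) (Finset.mem_range.2 (Nat.lt_succ_of_le hi)) ha) x⟩
  by_contra hpT
  obtain ⟨i, hi, hle⟩ := (p.2.inf_le').1 (show _ ≤ p.asIdeal from hp)
  haveI := h i (Nat.lt_succ_iff.1 (Finset.mem_range.1 hi))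
  obtain ⟨G, hG⟩ := Module.Finite.fg_top (R := A) (M := Dual2.HT T i M)
  have hb : ∀ g : G, ∃ b, b ∉ p.asIdeal ∧ b • g.1 = 0 := fun g => by
    obtain ⟨K, hK, y, hy⟩ := exists_theta i (ModuleCat.of A M) g.1
    obtain ⟨b, hbK, hbp⟩ := SetLike.not_le_iff_exists.1 (fun h : K ≤ p.asIdeal => hpT (hK h))
    obtain ⟨m, hm⟩ := isPowerTorsion K i (ModuleCat.of A M) y
    refine ⟨b ^ m, fun h => hbp (p.2.mem_of_pow_mem m h), ?_⟩
    rw [← hy, ← map_smul, hm _ (Ideal.pow_mem_pow hbK m), map_zero]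
  choose b hbp hb using hb
  have hmem : ∏ g, b g ∈ Module.annihilator A (Dual2.HT T i M) := Module.mem_annihilator.2 fun x => by
    have hx : x ∈ Submodule.span A (G : Set (Dual2.HT T i M)) := hG ▸ Submodule.mem_top
    induction hx using Submodule.span_induction with
    | mem g hg =>
      rw [← Finset.prod_erase_mul _ b (Finset.mem_univ ⟨g, hg⟩), mul_smul, hb ⟨g, hg⟩, smul_zero]
    | zero => rw [smul_zero]
    | add c d _ _ hc hd => rw [smul_add, hc, hd, add_zero]
    | smul r c _ hc => rw [smul_comm, hc, smul_zero]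
  obtain ⟨g, -, hg⟩ := (p.2.prod_mem_iff).1 (hle hmem)
  exact hbp g hg

end Groth.Agent.HTLib
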