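import Groth.Agent.HTLib.LocalDual
import Groth.Agent.HTLib.Main
import Groth.Agent.DualCx.Depth

/-!
The annihilator theorem over a ring with a dualizing complex.
-/

set_option autoImplicit false
set_option maxHeartbeats 1000000
set_option backward.isDefEq.respectTransparency false
set_option backward.isDefEq.respectTransparency.types false

universe u

namespace Groth.Agent.HTLib

open CategoryTheory CategoryTheory.Limits Groth.Agent.DualCx Groth.Agent.LocH

attribute [local instance] HasDerivedCategory.standard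

noncomputable section

variable {A : Type u} [CommRing A] [IsNoetherianRing A] {ω : Dual.D A} (hω : Dual.IsDualizing A ω)
  (M : Type u) [AddCommGroup M] [Module A M] [Module.Finite A M]

include hω in
omit [Module.Finite A M] in
theorem krullDim_Icc {p q : PrimeSpectrum A} (hpq : p ≤ q) :
    Order.krullDim (Set.Icc p q) = (((del hω p - del hω q).toNat : ℕ) : WithBot ℕ∞) := by
  have hS : ∀ ⦃a b : PrimeSpectrum A⦄, a ≤ b → a ∈ {r | p ≤ r} → b ∈ {r | p ≤ r} := fun a b h h' => h'.trans h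
  refine le_antisymm ((DualCx.krullDim_le_iff hω hS q _).2 fun r hr hrq => ?_)
    (DualCx.le_krullDim hω hS (le_refl p) hpq _ ?_)
  · have := del_le hω (show p ≤ r from hr)
    lia
  · have := del_le hω hpq
    lia

include hω in
theorem cond_iff {p q : PrimeSpectrum A} (hpq : p ≤ q) (s : ℕ) :
    (s : WithBot ℕ∞) < ((LocCoh.depth (Localization.AtPrime p.asIdeal) (LocalizedModule p.asIdeal.primeCompl M) : ℕ∞) :
        WithBot ℕ∞) + Order.krullDim (Set.Icc p q) ↔
      ∀ i : ℕ, i ≤ s → Van ω p.asIdeal M (-del hω q - i) := by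
  have hdel := del_le hω hpq
  rw [krullDim_Icc hω hpq]
  generalize hd : (del hω p - del hω q).toNat = d
  have key := DualCx.depth_le_iff hω (M := M) p
  generalize LocCoh.depth (Localization.AtPrime p.asIdeal) (LocalizedModule p.asIdeal.primeCompl M) = D at key ⊢
  refine ⟨fun h i hi => ?_, fun h => ?_⟩
  · rcases lt_or_ge i d with hid | hid
    · exact van_gt hω (by lia)
    · by_contra hv
      have h1 := (key (i - d)).2 ⟨i - d, le_rfl, by rwa [show -del hω p - ((i - d : ℕ) : ℤ) = -del hω q - i by lia]⟩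
      induction D using ENat.recTopCoe with
      | top => exact absurd h1 (by simp)
      | coe n =>
        have h2 : s < n + d := by exact_mod_cast h
        have h3 : n ≤ i - d := by exact_mod_cast h1
        omega
  · induction D using ENat.recTopCoe with
    | top =>
      rw [← WithBot.coe_natCast d, ← WithBot.coe_add, top_add]
      exact WithBot.coe_lt_coe.2 (ENat.natCast_lt_top s)
    | coe n =>
      suffices hs : s < n + d by exact_mod_cast hs
      by_contra hn
      obtain ⟨j, hj, hv⟩ := (key n).1 le_rfl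
      exact hv (by rw [show -del hω p - (j : ℤ) = -del hω q - ((j + d : ℕ) : ℤ) by lia]; exact h _ (by omega))

omit [Module.Finite A M] in
theorem exists_killLocal_pow {T : Set (PrimeSpectrum A)} (hT : StableUnderSpecialization T)
    (res : InjectiveResolution (ModuleCat.of A M)) (s : ℕ) (a : A)
    (hk : ∀ i : ℕ, i ≤ s → ∀ x : Dual2.HT T i M, a • x = 0) :
    ∀ h : ℕ, ∃ N : ℕ, ∀ q : PrimeSpectrum A, q ∈ T → hgt q.asIdeal < h → ∀ i, i ≤ s →
      KillLocal res q.asIdeal i (a ^ N)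
  | 0 => ⟨0, fun q _ hq => absurd hq (Nat.not_lt_zero _)⟩
  | h + 1 => by
    obtain ⟨N, hN⟩ := exists_killLocal_pow hT res s a hk h
    refine ⟨N * (h + 1) + 1, fun q hqT hqh j hj x hx hd => ?_⟩
    obtain ⟨z, hz⟩ := exists_cycle (I := q.asIdeal) res j x hx hd
    subst hz
    obtain ⟨K, hK, hKq, hK0⟩ := theta_eq_zero q.asIdeal (zeroLocus_subset hT hqT) j (ModuleCat.of A M)
      (cyclesToH res j (a • z)) (by rw [map_smul, map_smul]; exact hk j hj _)
    have e : cycleVal res j (a • z) = a • cycleVal res j z := (congrArg _ (map_smul _ a z)).trans (map_smul _ _ _)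
    obtain ⟨z', hz'⟩ := exists_cycle (I := K) res j (cycleVal res j (a • z))
      (torsionSub_anti hKq _ ((gammaComplex res q.asIdeal).iCycles j (a • z)).2) (d_cycleVal res j (a • z))
    rw [HmapOfLE_cyclesToH hKq res j (a • z) z' hz', cyclesToH_eq_zero_iff_mem, hz', e] at hK0
    obtain ⟨u, hu, hux⟩ := exists_smul_pow_mem_boundary res (P := q.asIdeal) (a ^ N) (h + 1) hqh
      (fun p hp h1 h2 h3 i hij => hN ⟨p, hp⟩ (hK h1)
        (lt_of_lt_of_le (hgt_lt (lt_of_le_of_ne h3 fun h => h2 (h ▸ le_rfl))) (Nat.le_of_lt_succ hqh)) i (by omega))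
      (Submodule.smul_mem _ a hx) hK0
    refine ⟨u, hu, ?_⟩
    rw [pow_succ, pow_mul, mul_smul]
    exact hux

include hω in
theorem killLocal_iff_killAt (res : InjectiveResolution (ModuleCat.of A M)) (q : PrimeSpectrum A) (i : ℕ) (a : A) :
    KillLocal res q.asIdeal i a ↔ KillAt hω q M i a :=
  (killLocal_iff res q.asIdeal i a).symm.trans (killed_H_iff hω q M i a)

include hω in
theorem cond_of_killed {T T' : Set (PrimeSpectrum A)} (hT : StableUnderSpecialization T) (s : ℕ) {J : Ideal A}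
    (hJ : PrimeSpectrum.zeroLocus (J : Set A) ⊆ T') (hk : ∀ i : ℕ, i ≤ s → ∀ a ∈ J, ∀ x : Dual2.HT T i M, a • x = 0)
    {p q : PrimeSpectrum A} (hp : p ∉ T') (hq : q ∈ T) (hpq : p ≤ q) (i : ℕ) (hi : i ≤ s) :
    Van ω p.asIdeal M (-del hω q - i) := fun x => by
  obtain ⟨a, haJ, hap⟩ := SetLike.not_le_iff_exists.1 (fun h : J ≤ p.asIdeal => hp (hJ h))
  obtain ⟨N, hN⟩ := exists_killLocal_pow M hT (injectiveResolution _) s a (fun j hj => hk j hj a haJ)
    (hgt q.asIdeal + 1)
  obtain ⟨t, ht, htx⟩ := (killLocal_iff_killAt hω M _ q i (a ^ N)).1 (hN q hq (Nat.lt_succ_self _) i hi) x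
  refine ⟨t * a ^ N, fun h => ?_, by rw [mul_smul]; exact htx⟩
  rcases p.isPrime.mem_or_mem h with h1 | h1
  · exact ht (hpq h1)
  · exact hap (p.isPrime.mem_of_pow_mem N h1)

/-- Elements vanishing off `T'`. -/
def offSub (T' : Set (PrimeSpectrum A)) (N : Type*) [AddCommGroup N] [Module A N] : Submodule A N where
  carrier := {x | ∀ p : PrimeSpectrum A, p ∉ T' → ∃ t ∉ p.asIdeal, t • x = 0}
  zero_mem' := fun p _ => ⟨1, fun h => p.isPrime.ne_top ((Ideal.eq_top_iff_one _).2 h), smul_zero _⟩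
  add_mem' := fun {x y} hx hy p hp => by
    obtain ⟨t, ht, htx⟩ := hx p hp
    obtain ⟨t', ht', hty⟩ := hy p hp
    refine ⟨t * t', fun h => (p.isPrime.mem_or_mem h).elim ht ht', ?_⟩
    rw [smul_add, mul_smul t t' y, hty, smul_zero, add_zero, mul_comm, mul_smul, htx, smul_zero]
  smul_mem' := fun c x hx p hp => by
    obtain ⟨t, ht, htx⟩ := hx p hp
    exact ⟨t, ht, by rw [smul_comm, htx, smul_zero]⟩

theorem zeroLocus_offSub (T' : Set (PrimeSpectrum A)) (N : Type*) [AddCommGroup N] [Module A N] [Module.Finite A N] :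
    PrimeSpectrum.zeroLocus (Module.annihilator A (offSub T' N) : Set A) ⊆ T' := fun p hp => by
  by_contra hpT
  rw [← Module.support_eq_zeroLocus] at hp
  refine Module.notMem_support_iff'.2 (fun x => ?_) hp
  obtain ⟨t, ht, htx⟩ := x.2 p hpT
  exact ⟨t, ht, Subtype.ext htx⟩

/-- A multiple by an element off `q` vanishes off `T'`. -/
theorem exists_smul_mem_offSub {T' : Set (PrimeSpectrum A)} (hT' : StableUnderSpecialization T') {N : Type*}
    [AddCommGroup N] [Module A N] (q : Ideal A) [q.IsPrime] (x : N)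
    (hx : ∀ p : PrimeSpectrum A, p ∉ T' → p.asIdeal ≤ q → ∃ t ∉ p.asIdeal, t • x = 0) :
    ∃ t ∉ q, t • x ∈ offSub T' N := by
  classical
  let 𝔞 : Ideal A := LinearMap.ker (LinearMap.toSpanSingleton A N x)
  have hfin : 𝔞.minimalPrimes.Finite := Ideal.finite_minimalPrimes_of_isNoetherianRing A 𝔞
  let good : Ideal A → Prop := fun w => ∃ h : w.IsPrime, (⟨w, h⟩ : PrimeSpectrum A) ∈ T'
  let F := hfin.toFinset.filter fun w => ¬ good w
  let G := hfin.toFinset.filter good
  have hF : ∀ w : F, ∃ b, b ∈ w.1 ∧ b ∉ q := fun w => by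
    obtain ⟨h1, h2⟩ := Finset.mem_filter.1 w.2
    have hw := hfin.mem_toFinset.1 h1
    refine SetLike.not_le_iff_exists.1 fun hle => ?_
    obtain ⟨t, ht, htx⟩ := hx ⟨w.1, hw.1.1⟩ (fun h => h2 ⟨hw.1.1, h⟩) hle
    exact ht (hw.1.2 htx)
  choose b hbw hbq using hF
  let u := ∏ w, b w
  have huq : u ∉ q := fun h => by
    obtain ⟨w, -, hw⟩ := (Ideal.IsPrime.prod_mem_iff).1 h
    exact hbq w hw
  let I' : Ideal A := G.inf id
  have hle : I' * Ideal.span {u} ≤ 𝔞.radical := by
    rw [← Ideal.sInf_minimalPrimes (I := 𝔞)]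
    refine le_sInf fun w hw => ?_
    by_cases h : good w
    · exact Ideal.mul_le_left.trans (Finset.inf_le (f := id) (Finset.mem_filter.2 ⟨hfin.mem_toFinset.2 hw, h⟩))
    · refine Ideal.mul_le_right.trans ((Ideal.span_singleton_le_iff_mem w).2 ?_)
      exact w.mem_of_dvd (Finset.dvd_prod_of_mem b (Finset.mem_univ
        ⟨w, Finset.mem_filter.2 ⟨hfin.mem_toFinset.2 hw, h⟩⟩)) (hbw ⟨w, Finset.mem_filter.2 ⟨hfin.mem_toFinset.2 hw, h⟩⟩)
  obtain ⟨e, he⟩ := Ideal.exists_pow_le_of_le_radical_of_fg hle (IsNoetherian.noetherian _)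
  refine ⟨u ^ e, fun h => huq (Ideal.IsPrime.mem_of_pow_mem ‹_› e h), fun p hp => ?_⟩
  have hnle : ¬ I' ≤ p.asIdeal := fun h => by
    obtain ⟨w, hw, hwp⟩ := (p.isPrime.inf_le').1 h
    obtain ⟨-, hwp', hwT⟩ := Finset.mem_filter.1 hw
    exact hp (hT' ((PrimeSpectrum.le_iff_specializes ⟨w, hwp'⟩ p).1 hwp) hwT)
  obtain ⟨c, hc, hcp⟩ := SetLike.not_le_iff_exists.1 hnle
  refine ⟨c ^ e, fun h => hcp (p.isPrime.mem_of_pow_mem e h), ?_⟩
  rw [← mul_smul, ← mul_pow]
  exact he (Ideal.pow_mem_pow (Ideal.mul_mem_mul hc (Ideal.mem_span_singleton_self u)) e)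

omit hω [Module.Finite A M] in
theorem exists_height_bound (h : ringKrullDim A < ⊤) : ∃ k : ℕ, ∀ m : Ideal A, m.IsPrime → hgt m < k := by
  induction hd : ringKrullDim A with
  | bot =>
    refine ⟨0, fun m hm => absurd (Ideal.height_le_ringKrullDim_of_ne_top (I := m) hm.ne_top) ?_⟩
    rw [hd]
    simp
  | coe d =>
    induction d using ENat.recTopCoe with
    | top => rw [hd] at h; exact absurd h (lt_irrefl _)
    | coe n =>
      refine ⟨n + 1, fun m hm => ?_⟩
      have h1 := Ideal.height_le_ringKrullDim_of_ne_top (I := m) hm.ne_top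
      rw [hd, WithBot.coe_le_coe] at h1
      exact Nat.lt_succ_of_le (ENat.toNat_le_of_le_coe h1)

include hω in
theorem exists_killer_of_van {T T' : Set (PrimeSpectrum A)} (hT' : StableUnderSpecialization T') (s : ℕ)
    (hvan : ∀ p q : PrimeSpectrum A, p ∉ T' → q ∈ T → p ≤ q → ∀ i : ℕ, i ≤ s → Van ω p.asIdeal M (-del hω q - i)) :
    ∃ J : Ideal A, PrimeSpectrum.zeroLocus (J : Set A) ⊆ T' ∧
      ∀ i : ℕ, i ≤ s → ∀ a ∈ J, ∀ (I : Ideal A), PrimeSpectrum.zeroLocus (I : Set A) ⊆ T →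
        ∀ y : LocCoh.H I i M, a • y = 0 := by
  classical
  obtain ⟨lo, hi, hb⟩ := exists_bound hω
  haveI : ∀ j, Module.Finite A (DualCx.T ω M j) := fun j => finite_T hω M j
  let J₀ : Ideal A := (Finset.Icc lo hi).inf fun j => Module.annihilator A (offSub T' (DualCx.T ω M j))
  have hJ₀ : PrimeSpectrum.zeroLocus (J₀ : Set A) ⊆ T' := fun p hp => by
    obtain ⟨j, -, hle⟩ := (p.isPrime.inf_le').1 (show J₀ ≤ p.asIdeal from hp)
    exact zeroLocus_offSub T' _ hle
  have hat : ∀ a ∈ J₀, ∀ q ∈ T, ∀ i : ℕ, i ≤ s → KillAt hω q M i a := fun a ha q hq i hi' x => by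
    by_cases hj : -del hω q - (i : ℤ) ∈ Finset.Icc lo hi
    · obtain ⟨t, ht, htx⟩ := exists_smul_mem_offSub hT' q.asIdeal x fun p hp hpq => hvan p q hp hq hpq i hi' x
      refine ⟨t, ht, ?_⟩
      rw [smul_comm]
      exact congrArg Subtype.val (Module.mem_annihilator.1 (Finset.inf_le
        (f := fun j => Module.annihilator A (offSub T' (DualCx.T ω M j))) hj ha) ⟨_, htx⟩)
    · rw [Finset.mem_Icc] at hj
      haveI := hb M (-del hω q - i) (by lia)
      exact ⟨1, q.asIdeal.primeCompl.one_mem, Subsingleton.elim _ _⟩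
  obtain ⟨k, hk⟩ := exists_height_bound (ringKrullDim_lt_top hω)
  let res : InjectiveResolution (ModuleCat.of A M) := injectiveResolution _
  refine ⟨Ideal.span ((fun a => a ^ k) '' (J₀ : Set A)), fun p hp => hJ₀ ?_, fun i hi' b hb' I hI y =>
    Module.mem_annihilator.1 ((Ideal.span_le (I := Module.annihilator A (LocCoh.H I i M))).2 ?_ hb') y⟩
  · exact fun a ha => p.isPrime.mem_of_pow_mem k (hp (Ideal.subset_span ⟨a, ha, rfl⟩))
  rintro _ ⟨a, ha, rfl⟩
  refine Module.mem_annihilator.2 fun y => ?_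
  obtain ⟨c, rfl⟩ := cyclesToH_surjective res i y
  have h0 : cyclesToH res i (a ^ k • c) = 0 := by
    rw [cyclesToH_eq_zero_iff_mem, show cycleVal res i (a ^ k • c) = a ^ k • cycleVal res i c from
      (congrArg _ (map_smul _ _ c)).trans (map_smul _ _ _)]
    exact pow_smul_mem_boundary res a k hk
      (fun p hp h1 => (killLocal_iff_killAt hω M res ⟨p, hp⟩ i a).2 (hat a ha ⟨p, hp⟩ (hI h1) i hi'))
      ((gammaComplex res I).iCycles i c).2 (d_cycleVal res i c)
  show a ^ k • cyclesToH res i c = 0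
  rw [← map_smul, h0]

include hω in
/-- The annihilator theorem. -/
theorem exists_killer_iff {T T' : Set (PrimeSpectrum A)} (hT : StableUnderSpecialization T)
    (hT' : StableUnderSpecialization T') (s : ℕ) :
    (∃ J : Ideal A, PrimeSpectrum.zeroLocus (J : Set A) ⊆ T' ∧
      ∀ i : ℕ, i ≤ s → ∀ a ∈ J, ∀ x : Dual2.HT T i M, a • x = 0) ↔
    ∀ p q : PrimeSpectrum A, p ∉ T' → q ∈ T → p ≤ q →
      (s : WithBot ℕ∞) < ((LocCoh.depth (Localization.AtPrime p.asIdeal) (LocalizedModule p.asIdeal.primeCompl M) : ℕ∞) :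
        WithBot ℕ∞) + Order.krullDim (Set.Icc p q) :=
  ⟨fun ⟨_, hJ, hk⟩ _ _ hp hq hpq => (cond_iff hω M hpq s).2 (cond_of_killed hω M hT s hJ hk hp hq hpq),
    fun h => by
      obtain ⟨J, hJ, hk⟩ := exists_killer_of_van hω M hT' s
        fun p q hp hq hpq => (cond_iff hω M hpq s).1 (h p q hp hq hpq)
      refine ⟨J, hJ, fun i hi a ha x => ?_⟩
      obtain ⟨I, hI, y, rfl⟩ := exists_theta i (ModuleCat.of A M) x
      show a • theta I hI i (ModuleCat.of A M) y = 0
      rw [← map_smul]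
      exact (congrArg _ (hk i hi a ha I hI y)).trans (map_zero _)⟩

end

end Groth.Agent.HTLib
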