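import Groth.Agent.HTLib.UPro
import Groth.Agent.HTLib.USeq
import Groth.Prelude.Def_Formal2

/-!
Consequences of `H^i_T(I^n M)` being pro-zero for `i ≤ s + 1`.
-/

set_option autoImplicit false
set_option maxHeartbeats 1000000
set_option linter.style.haveILetI false
set_option backward.isDefEq.respectTransparency false
universe u

namespace Groth.Agent.HTLib

open CategoryTheory Limits

noncomputable section

variable {A : Type u} [CommRing A] (I : Ideal A) (M : Type u) [AddCommGroup M] [Module A M]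
  (T : Set (PrimeSpectrum A))

/-- `H^i_T` of a linear map. -/
abbrev HTm (i : ℕ) {X Y : Type u} [AddCommGroup X] [Module A X] [AddCommGroup Y] [Module A Y] (f : X →ₗ[A] Y) :
    Dual2.HT T i X →ₗ[A] Dual2.HT T i Y :=
  ((localCohomology.ofDiagram (Dual2.idealsInDiagram T) i).map (ModuleCat.ofHom f)).hom

theorem HTm_comp (i : ℕ) {X Y Z : Type u} [AddCommGroup X] [Module A X] [AddCommGroup Y] [Module A Y] [AddCommGroup Z]
    [Module A Z] (f : X →ₗ[A] Y) (g : Y →ₗ[A] Z) (x : Dual2.HT T i X) :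
    HTm T i (g.comp f) x = HTm T i g (HTm T i f x) :=
  congrArg (fun φ => φ.hom x) ((congrArg (localCohomology.ofDiagram (Dual2.idealsInDiagram T) i).map
    (ModuleCat.ofHom_comp f g)).trans ((localCohomology.ofDiagram (Dual2.idealsInDiagram T) i).map_comp _ _))

/-- the pro-zero property -/
def ProZero (i : ℕ) : Prop :=
  ∀ n : ℕ, ∃ k : ℕ, n ≤ k ∧ ∀ (l : ℕ) (hl : n ≤ l), k ≤ l → HTm T i (resI I M hl) = 0

/-- `0 → I^n M → M → M/I^n M → 0` -/
def sesQ (n : ℕ) : ShortComplex (ModuleCat.{u} A) :=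
  ShortComplex.mk (ModuleCat.ofHom (I ^ n • (⊤ : Submodule A M)).subtype)
    (ModuleCat.ofHom (I ^ n • (⊤ : Submodule A M)).mkQ)
    (by ext x; exact (Submodule.Quotient.mk_eq_zero _).2 x.2)

theorem sesQ_shortExact (n : ℕ) : (sesQ I M n).ShortExact :=
  { exact := by
      rw [ShortComplex.moduleCat_exact_iff]
      intro y hy
      exact ⟨⟨y, (Submodule.Quotient.mk_eq_zero _).1 hy⟩, rfl⟩
    mono_f := (ModuleCat.mono_iff_injective _).2 (Submodule.injective_subtype _)
    epi_g := (ModuleCat.epi_iff_surjective _).2 (Submodule.mkQ_surjective _) }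

/-- the map of sequences -/
def sesMap {n k : ℕ} (h : n ≤ k) : sesQ I M k ⟶ sesQ I M n where
  τ₁ := ModuleCat.ofHom (resI I M h)
  τ₂ := 𝟙 _
  τ₃ := ModuleCat.ofHom (AdicCompletion.transitionMap I M h)
  comm₁₂ := rfl
  comm₂₃ := rfl

variable [IsNoetherianRing A]

theorem eq_zero_of_mkQ {i : ℕ} (hi : ProZero I M T i) :
    ∃ k : ℕ, (∀ l, k ≤ l → ∀ x : Dual2.HT T i M, HTm T i (I ^ l • (⊤ : Submodule A M)).mkQ x = 0 → x = 0) ∧
      ∀ a ∈ I ^ k, ∀ x : Dual2.HT T i M, a • x = 0 := by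
  obtain ⟨k, -, hk⟩ := hi 0
  have hι : ∀ l, k ≤ l → ∀ y, HTm T i (I ^ l • (⊤ : Submodule A M)).subtype y = 0 := fun l hl y => by
    rw [show (I ^ l • (⊤ : Submodule A M)).subtype =
      (I ^ 0 • (⊤ : Submodule A M)).subtype.comp (resI I M (Nat.zero_le l)) from rfl, HTm_comp, hk l (Nat.zero_le l) hl]
    exact map_zero _
  refine ⟨k, fun l hl x hx => ?_, fun a ha x => ?_⟩
  · obtain ⟨y, hy⟩ := exact₂_T (sesQ_shortExact I M l) i hx
    rw [← hy]
    exact hι l hl y
  · have h1 : HTm T i (a • (LinearMap.id : M →ₗ[A] M)) x = a • x := by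
      obtain ⟨K, hK, w, rfl⟩ := exists_theta i _ x
      refine (theta_map K hK i _ w).symm.trans ?_
      rw [← map_smul]
      exact congrArg _ (LocH.map_smul_id K i a _ w)
    rw [← h1, show (a • (LinearMap.id : M →ₗ[A] M)) = (I ^ k • (⊤ : Submodule A M)).subtype.comp
      ((a • (LinearMap.id : M →ₗ[A] M)).codRestrict (I ^ k • (⊤ : Submodule A M))
        fun m => Submodule.smul_mem_smul ha Submodule.mem_top) from rfl, HTm_comp]
    exact hι k le_rfl _

theorem range_transition {i : ℕ} (hi : ProZero I M T (i + 1)) (n : ℕ) :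
    ∃ k : ℕ, n ≤ k ∧ ∀ (l : ℕ) (hl : n ≤ l), k ≤ l →
      Set.range (HTm T i (AdicCompletion.transitionMap I M hl)) =
        Set.range (HTm T i (I ^ n • (⊤ : Submodule A M)).mkQ) := by
  obtain ⟨k, hk, hz⟩ := hi n
  refine ⟨k, hk, fun l hl hkl => Set.Subset.antisymm ?_ ?_⟩
  · rintro _ ⟨x, rfl⟩
    exact exact₃_natural (sesQ_shortExact I M l) (sesQ_shortExact I M n) (sesMap I M hl) i (ModuleCat.hom_ext (hz l hl hkl)) x
  · rintro _ ⟨x, rfl⟩
    refine ⟨HTm T i (I ^ l • (⊤ : Submodule A M)).mkQ x, ?_⟩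
    exact (HTm_comp T i _ _ x).symm

omit [IsNoetherianRing A] in
theorem quotPowπ_eq (n m : ℕ) (h : n ≤ m) :
    Formal2.quotPowπ A I M n =
      (AdicCompletion.transitionMap I M (Nat.succ_le_succ h)).comp (Formal2.quotPowπ A I M m) :=
  LinearMap.ext fun _ => rfl

omit [IsNoetherianRing A] in
theorem transitionMap_refl (n : ℕ) (h : n + 1 ≤ n + 1) :
    AdicCompletion.transitionMap I M h = LinearMap.id :=
  Submodule.linearMap_qext _ (LinearMap.ext fun _ => rfl)

omit [IsNoetherianRing A] in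
theorem transitionMap_succ (n m : ℕ) (h : n + 1 ≤ m + 1) (h' : n + 1 ≤ m + 1 + 1) :
    AdicCompletion.transitionMap I M h' =
      (AdicCompletion.transitionMap I M h).comp (Formal2.quotPowTrans A I M m) := by
  refine LinearMap.ext fun x => ?_
  obtain ⟨z, rfl⟩ := Submodule.mkQ_surjective _ x
  simp only [LinearMap.comp_apply, Formal2.quotPowTrans, AdicCompletion.transitionMap, Submodule.factorPow,
    Submodule.factor, Submodule.mkQ_apply, Submodule.mapQ_apply, LinearMap.id_apply]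

omit [IsNoetherianRing A] in
theorem HTm_id (i : ℕ) {X : Type u} [AddCommGroup X] [Module A X] (x : Dual2.HT T i X) :
    HTm T i (LinearMap.id : X →ₗ[A] X) x = x :=
  congrArg (fun φ => φ.hom x) ((localCohomology.ofDiagram (Dual2.idealsInDiagram T) i).map_id (ModuleCat.of A X))

omit [IsNoetherianRing A] in
theorem trans_eq {i : ℕ} (y : ∀ n : ℕ, Dual2.HT T i (Formal2.quotPow A I M n))
    (hy : ∀ n : ℕ, HTm T i (Formal2.quotPowTrans A I M n) (y (n + 1)) = y n) (n m : ℕ) (h : n ≤ m) :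
    HTm T i (AdicCompletion.transitionMap I M (Nat.succ_le_succ h)) (y m) = y n := by
  induction m, h using Nat.le_induction with
  | base =>
    rw [transitionMap_refl]
    exact HTm_id T i (y n)
  | succ m hm ih =>
    rw [transitionMap_succ I M n m (Nat.succ_le_succ hm), HTm_comp, hy m, ih]

omit [IsNoetherianRing A] in
theorem pi_eq {i : ℕ} (n m : ℕ) (h : n ≤ m) (z : Dual2.HT T i M) :
    HTm T i (Formal2.quotPowπ A I M n) z =
      HTm T i (AdicCompletion.transitionMap I M (Nat.succ_le_succ h)) (HTm T i (Formal2.quotPowπ A I M m) z) := by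
  rw [quotPowπ_eq I M n m h, HTm_comp]

theorem exists_lift {i : ℕ} (hi' : ProZero I M T (i + 1)) (y : ∀ n : ℕ, Dual2.HT T i (Formal2.quotPow A I M n))
    (hy : ∀ n : ℕ, HTm T i (Formal2.quotPowTrans A I M n) (y (n + 1)) = y n) (n : ℕ) :
    ∃ x : Dual2.HT T i M, HTm T i (Formal2.quotPowπ A I M n) x = y n := by
  obtain ⟨l, hl, hr⟩ := range_transition I M T hi' (n + 1)
  have h1 : y n ∈ Set.range (HTm T i (AdicCompletion.transitionMap I M (Nat.succ_le_succ (le_max_left n l)))) :=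
    ⟨y (max n l), trans_eq I M T y hy n (max n l) (le_max_left n l)⟩
  rw [hr (max n l + 1) (Nat.succ_le_succ (le_max_left n l)) ((le_max_right n l).trans (Nat.le_succ _))] at h1
  exact h1

theorem complete {i : ℕ} (hi : ProZero I M T i) (hi' : ProZero I M T (i + 1)) :
    ((∀ x : Dual2.HT T i M, (∀ n : ℕ, HTm T i (Formal2.quotPowπ A I M n) x = 0) → x = 0) ∧
      (∀ y : (∀ n : ℕ, Dual2.HT T i (Formal2.quotPow A I M n)),
        (∀ n : ℕ, HTm T i (Formal2.quotPowTrans A I M n) (y (n + 1)) = y n) →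
        ∃ x : Dual2.HT T i M, ∀ n : ℕ, HTm T i (Formal2.quotPowπ A I M n) x = y n)) ∧
      ∃ n : ℕ, ∀ a ∈ I ^ n, ∀ x : Dual2.HT T i M, a • x = 0 := by
  obtain ⟨k, hinj, hkill⟩ := eq_zero_of_mkQ I M T hi
  refine ⟨⟨fun x hx => hinj (k + 1) (Nat.le_succ k) x (hx k), fun y hy => ?_⟩, k, hkill⟩
  obtain ⟨x, hx⟩ := exists_lift I M T hi' y hy k
  refine ⟨x, fun n => ?_⟩
  obtain ⟨x', hx'⟩ := exists_lift I M T hi' y hy (max n k)
  have h1 : HTm T i (Formal2.quotPowπ A I M k) x' = y k := by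
    rw [pi_eq I M T k (max n k) (le_max_right n k) x', hx', trans_eq I M T y hy k (max n k) (le_max_right n k)]
  have he : x' = x := sub_eq_zero.1 (hinj (k + 1) (Nat.le_succ k) (x' - x)
    ((map_sub (HTm T i (Formal2.quotPowπ A I M k)) x' x).trans (by rw [h1, hx, sub_self])))
  rw [pi_eq I M T n (max n k) (le_max_left n k), ← he, hx', trans_eq I M T y hy n (max n k) (le_max_left n k)]

end

end Groth.Agent.HTLib
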