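import Groth.Agent.HTLib.KillDev
import Groth.Agent.LocH.LocalizeMap
import Groth.Prelude.Def_DualLC

/-!
A system of modules whose transition maps are locally zero on `H^i` at the points of `T` is zero on `H^i_T`.
-/

set_option autoImplicit false
set_option maxHeartbeats 1000000
set_option linter.style.haveILetI false
set_option backward.isDefEq.respectTransparency false
set_option backward.isDefEq.respectTransparency.types false

namespace Groth.Agent.HTLib

universe u

open CategoryTheory CategoryTheory.Limits Groth.Agent.LocH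

variable {R : Type u} [CommRing R] {M N : ModuleCat.{u} R}

theorem exists_cyclesToH_map {f : M ⟶ N} {J : InjectiveResolution M} {J' : InjectiveResolution N}
    (φ : InjectiveResolution.Hom J J' f) (I : Ideal R) (i : ℕ) (z : (gammaComplex J I).cycles i) :
    ∃ z' : (gammaComplex J' I).cycles i, cycleVal J' i z' = φ.hom.f i (cycleVal J i z) ∧
      (localCohomology I i).map f (cyclesToH J i z) = cyclesToH J' i z' := by
  let Φ := ((DRing.gammaI I).mapHomologicalComplex (ComplexShape.up ℕ)).map φ.hom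
  refine ⟨HomologicalComplex.cyclesMap Φ i z,
    congrArg Subtype.val (congrArg (fun ψ => ψ.hom z) (HomologicalComplex.cyclesMap_i Φ i)), ?_⟩
  have h1 : HomologicalComplex.homologyMap Φ i ((gammaComplex J I).homologyπ i z) =
      (gammaComplex J' I).homologyπ i (HomologicalComplex.cyclesMap Φ i z) :=
    congrArg (fun ψ => ψ.hom z) (HomologicalComplex.homologyπ_naturality Φ i)
  rw [← homologyToH_π, ← homologyToH_naturality J J' φ, h1, homologyToH_π]

variable [IsNoetherianRing R]

/-- the localised chain map -/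
noncomputable def locHom (S : Submonoid R) {f : M ⟶ N} {J : InjectiveResolution M} {J' : InjectiveResolution N}
    (φ : InjectiveResolution.Hom J J' f) :
    InjectiveResolution.Hom (localizeRes S J) (localizeRes S J') ((locFunctor S).map f) where
  hom := ((locFunctor S).mapHomologicalComplex _).map φ.hom
  ι_f_zero_comp_hom_f_zero := by
    have h := congrArg (fun g => g.f 0) ((HomologicalComplex.singleMapHomologicalComplex (locFunctor S)
      (ComplexShape.up ℕ) 0).inv.naturality f)
    simp only [localizeRes, Functor.comp_obj, Functor.comp_map, HomologicalComplex.comp_f,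
      Functor.mapHomologicalComplex_map_f, Category.assoc] at h ⊢
    rw [← Functor.map_comp, φ.ι_f_zero_comp_hom_f_zero, Functor.map_comp, ← Category.assoc, ← Category.assoc]
    exact congrArg (· ≫ _) h.symm

/-- the localised chain map in degree `n` -/
noncomputable def locMap (S : Submonoid R) {f : M ⟶ N} {J : InjectiveResolution M} {J' : InjectiveResolution N}
    (φ : InjectiveResolution.Hom J J' f) (n : ℕ) :
    (J.cocomplex.X n).localizedModule S →ₗ[Localization S] (J'.cocomplex.X n).localizedModule S :=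
  ((locHom S φ).hom.f n).hom

theorem locMap_floc (S : Submonoid R) {f : M ⟶ N} {J : InjectiveResolution M} {J' : InjectiveResolution N}
    (φ : InjectiveResolution.Hom J J' f) (n : ℕ) (x : J.cocomplex.X n) :
    locMap S φ n (floc S J n x) = floc S J' n (φ.hom.f n x) :=
  IsLocalizedModule.map_apply S _ _ _ x

/-- The map is zero on `H^i` at `p`. -/
def LocZero (p : Ideal R) [p.IsPrime] (i : ℕ) {X Y : Type u} [AddCommGroup X] [Module R X] [AddCommGroup Y] [Module R Y]
    (f : X →ₗ[R] Y) : Prop :=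
  (localCohomology (IsLocalRing.maximalIdeal (Localization.AtPrime p)) i).map
    (ModuleCat.ofHom (LocalizedModule.map p.primeCompl f)) = 0

theorem LocZero.cycles {p : Ideal R} [p.IsPrime] {i : ℕ} {X Y : Type u} [AddCommGroup X] [Module R X] [AddCommGroup Y]
    [Module R Y] {f : X →ₗ[R] Y} (h : LocZero p i f) {J : InjectiveResolution (ModuleCat.of R X)}
    {J' : InjectiveResolution (ModuleCat.of R Y)} (φ : InjectiveResolution.Hom J J' (ModuleCat.ofHom f))
    {x : J.cocomplex.X i} (hx : x ∈ DRing.torsionSub p (J.cocomplex.X i)) (hd : J.cocomplex.d i (i + 1) x = 0) :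
    ∃ u ∉ p, u • φ.hom.f i x ∈ boundary J' p i := by
  let S := p.primeCompl
  let 𝔪 := IsLocalRing.maximalIdeal (Localization.AtPrime p)
  have e : (locFunctor S).map (ModuleCat.ofHom f) ≫ (localizedIso S Y).hom =
      (localizedIso S X).hom ≫ ModuleCat.ofHom (LocalizedModule.map S f) := by
    refine ModuleCat.hom_ext (LinearMap.ext fun w => ?_)
    haveI := ModuleCat.localizedModule_isLocalizedModule (ModuleCat.of R X) S
    haveI := ModuleCat.localizedModule_isLocalizedModule (ModuleCat.of R Y) S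
    obtain ⟨⟨y, s⟩, hs⟩ := IsLocalizedModule.surj S (ModuleCat.localizedModuleMkLinearMap (ModuleCat.of R X) S) w
    rw [Submonoid.smul_def, ← algebraMap_smul (Localization S)] at hs
    refine (IsLocalization.map_units (Localization S) s).smul_left_cancel.1 ?_
    erw [← map_smul, ← map_smul, hs]
    show (Shrink.linearEquiv (Localization S) (LocalizedModule S Y)) _ =
      LocalizedModule.map S f ((Shrink.linearEquiv (Localization S) (LocalizedModule S X)) _)
    refine (congrArg (Shrink.linearEquiv (Localization S) (LocalizedModule S Y))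
      (IsLocalizedModule.map_apply S (ModuleCat.localizedModuleMkLinearMap (ModuleCat.of R X) S)
        (ModuleCat.localizedModuleMkLinearMap (ModuleCat.of R Y) S) f y)).trans ?_
    show (equivShrink (LocalizedModule S Y)).symm (equivShrink (LocalizedModule S Y) (LocalizedModule.mk (f y) 1)) =
      LocalizedModule.map S f ((equivShrink (LocalizedModule S X)).symm (equivShrink (LocalizedModule S X) (LocalizedModule.mk y 1)))
    rw [Equiv.symm_apply_apply, Equiv.symm_apply_apply, LocalizedModule.map_mk]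
  have h0 : (localCohomology 𝔪 i).map ((locFunctor S).map (ModuleCat.ofHom f)) = 0 := by
    rw [← cancel_mono ((localCohomology 𝔪 i).map (localizedIso S Y).hom), zero_comp, ← Functor.map_comp, e,
      Functor.map_comp]
    exact (congrArg (_ ≫ ·) h).trans comp_zero
  have hx' := floc_mem S J hx
  rw [IsLocalization.AtPrime.map_eq_maximalIdeal p (Localization S)] at hx'
  obtain ⟨z, hz⟩ := exists_cycle (I := 𝔪) (localizeRes S J) i _ hx'
    ((dloc_floc S J i (i + 1) x).trans ((congrArg _ hd).trans (map_zero _)))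
  obtain ⟨z', hz', hmap⟩ := exists_cyclesToH_map (locHom S φ) 𝔪 i z
  rw [h0] at hmap
  have hb := (cyclesToH_eq_zero_iff_mem (localizeRes S J') i z').1 hmap.symm
  rw [hz', hz] at hb
  have hb' : floc S J' i (φ.hom.f i x) ∈ (boundary (localizeRes S J') (p.map (algebraMap R (Localization S))) i :
      Submodule (Localization S) ((J'.cocomplex.X i).localizedModule S)) := by
    rw [← locMap_floc, IsLocalization.AtPrime.map_eq_maximalIdeal p (Localization S)]
    exact hb
  obtain ⟨u, hu⟩ := exists_smul_mem_boundary S J' hb'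
  exact ⟨u, u.2, hu⟩

variable {T : Set (PrimeSpectrum R)}

theorem theta_map (K : Ideal R) (hK : PrimeSpectrum.zeroLocus (K : Set R) ⊆ T) (i : ℕ) {X Y : ModuleCat.{u} R}
    (f : X ⟶ Y) (y : ↑((localCohomology K i).obj X)) :
    theta K hK i Y ((localCohomology K i).map f y) =
      (localCohomology.ofDiagram (Dual2.idealsInDiagram T) i).map f (theta K hK i X y) :=
  congrArg (fun g => g.hom y) ((thetaNat K hK i).naturality f)

theorem not_le_of_forall_not_mem {S : Finset (Ideal R)} (hS : ∀ p ∈ S, p.IsPrime) (𝔟 : Ideal R)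
    (h : ∀ p ∈ S, ¬ 𝔟 ≤ p) : ∃ b ∈ 𝔟, ∀ p ∈ S, b ∉ p := by
  classical
  by_contra hne
  push Not at hne
  rcases S.eq_empty_or_nonempty with h0 | ⟨p₀, hp₀⟩
  · obtain ⟨p, hp, -⟩ := hne 0 (Submodule.zero_mem _)
    exact Finset.notMem_empty p (h0 ▸ hp)
  · obtain ⟨p, hp, hle⟩ := (Ideal.subset_union_prime (f := fun p => p) p₀ p₀ (fun p hp _ _ => hS p hp)).1
      (fun x hx => Set.mem_iUnion₂.2 ((hne x hx).imp fun p hp => ⟨hp.1, hp.2⟩))
    exact h p hp hle

/-- One step: a locally zero map moves the support strictly up. -/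
theorem exists_step (i : ℕ) {X Y : Type u} [AddCommGroup X] [Module R X] [AddCommGroup Y] [Module R Y]
    (f : X →ₗ[R] Y) (hf : ∀ p : PrimeSpectrum R, p ∈ T → LocZero p.asIdeal i f)
    (K : Ideal R) (hK : PrimeSpectrum.zeroLocus (K : Set R) ⊆ T)
    (y : ↑((localCohomology K i).obj (ModuleCat.of R X))) :
    ∃ (K' : Ideal R) (hK' : PrimeSpectrum.zeroLocus (K' : Set R) ⊆ T)
      (y' : ↑((localCohomology K' i).obj (ModuleCat.of R Y))),
      (∀ p : PrimeSpectrum R, K' ≤ p.asIdeal → ∃ p₀ : PrimeSpectrum R, K ≤ p₀.asIdeal ∧ p₀ < p) ∧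
      theta K' hK' i _ y' =
        (localCohomology.ofDiagram (Dual2.idealsInDiagram T) i).map (ModuleCat.ofHom f) (theta K hK i _ y) := by
  classical
  let J := injectiveResolution (ModuleCat.of R X)
  let J' := injectiveResolution (ModuleCat.of R Y)
  let φ : InjectiveResolution.Hom J J' (ModuleCat.ofHom f) :=
    { hom := InjectiveResolution.desc (ModuleCat.ofHom f) J' J
      ι_f_zero_comp_hom_f_zero := by
        rw [InjectiveResolution.desc_commutes_zero]
        simp }
  obtain ⟨z, rfl⟩ := cyclesToH_surjective J i y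
  have hz : cycleVal J i z ∈ DRing.torsionSub K (J.cocomplex.X i) := cycleVal_mem J i z
  have hdz := d_cycleVal J i z
  obtain ⟨z₁, hz₁, hmap⟩ := exists_cyclesToH_map φ K i z
  have hfin : K.minimalPrimes.Finite := Ideal.finite_minimalPrimes_of_isNoetherianRing R K
  let 𝔟 : Ideal R := (boundary J' K i).comap (LinearMap.toSpanSingleton R _ (φ.hom.f i (cycleVal J i z)))
  obtain ⟨b, hb, hbS⟩ := not_le_of_forall_not_mem (S := hfin.toFinset)
    (fun p hp => (hfin.mem_toFinset.1 hp).1.1) 𝔟 fun p hp hle => by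
      have hp' := hfin.mem_toFinset.1 hp
      haveI := hp'.1.1
      obtain ⟨w, hw, hwT, hwd⟩ := exists_torsion_multiple J (I' := ⊤) hp'
        (fun h => hp'.1.1.ne_top (top_le_iff.1 h)) (z := cycleVal J i z)
        (by rw [hdz]; exact Submodule.zero_mem _) (le_torsionColon_self J hz)
      obtain ⟨u, hu, hub⟩ := (hf ⟨p, hp'.1.1⟩ (hK hp'.1.2)).cycles φ hwT hwd
      refine ((inferInstance : p.IsPrime).mem_or_mem (hle (show u * w ∈ 𝔟 from ?_))).elim hu hw
      show (u * w) • φ.hom.f i (cycleVal J i z) ∈ boundary J' K i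
      rw [mul_smul, ← map_smul]
      exact boundary_anti J' hp'.1.2 i hub
  obtain ⟨c, hc, m, hm⟩ := exists_boundary_killed_correction J'
    (show b • φ.hom.f i (cycleVal J i z) ∈ boundary J' K i from hb)
  have hcK := boundary_le_torsionSub J' K i hc
  have hFz : φ.hom.f i (cycleVal J i z) ∈ DRing.torsionSub K (J'.cocomplex.X i) := hz₁ ▸ cycleVal_mem J' i z₁
  have hdF : J'.cocomplex.d i (i + 1) (φ.hom.f i (cycleVal J i z)) = 0 := hz₁ ▸ d_cycleVal J' i z₁
  have hd' : J'.cocomplex.d i (i + 1) (φ.hom.f i (cycleVal J i z) - c) = 0 := by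
    rw [map_sub, hdF, d_boundary J' K hc, sub_zero]
  obtain ⟨z', hz'⟩ := exists_cycle (I := K ⊔ Ideal.span {b}) J' i _
    (mem_torsionSub_sup_span J' K b (Submodule.sub_mem _ hFz hcK) hm) hd'
  obtain ⟨z₂, hz₂⟩ := exists_cycle (I := K) J' i _ (Submodule.sub_mem _ hFz hcK) hd'
  have hK' : PrimeSpectrum.zeroLocus ((K ⊔ Ideal.span {b} : Ideal R) : Set R) ⊆ T :=
    (PrimeSpectrum.zeroLocus_anti_mono (SetLike.coe_subset_coe.2 le_sup_left)).trans hK
  refine ⟨K ⊔ Ideal.span {b}, hK', cyclesToH J' i z', fun p hp => ?_, ?_⟩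
  · obtain ⟨p₀, hp₀, hle⟩ := Ideal.exists_minimalPrimes_le (le_sup_left.trans hp)
    refine ⟨⟨p₀, hp₀.1.1⟩, hp₀.1.2, lt_of_le_of_ne hle fun h => hbS p₀ (hfin.mem_toFinset.2 hp₀) ?_⟩
    have : b ∈ p.asIdeal := hp (Submodule.mem_sup_right (Ideal.mem_span_singleton_self b))
    rwa [← h] at this
  · rw [← theta_HmapOfLE _ hK' hK le_sup_left, HmapOfLE_cyclesToH (le_sup_left) J' i z' z₂ (hz₂.trans hz'.symm),
      ← theta_map, hmap]
    refine congrArg _ (sub_eq_zero.1 ?_)
    rw [← map_sub, cyclesToH_eq_zero_iff_mem]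
    rw [show cycleVal J' i (z₂ - z₁) = cycleVal J' i z₂ - cycleVal J' i z₁ from
      (congrArg _ (map_sub _ z₂ z₁)).trans (map_sub _ _ _), hz₂, hz₁, sub_sub_cancel_left]
    exact Submodule.neg_mem _ hc

theorem eq_zero_of_zeroLocus_empty (i : ℕ) (K : Ideal R) (hK : PrimeSpectrum.zeroLocus (K : Set R) = ∅)
    (X : ModuleCat.{u} R) (y : ↑((localCohomology K i).obj X)) : y = 0 := by
  rw [PrimeSpectrum.zeroLocus_empty_iff_eq_top] at hK
  subst hK
  obtain ⟨z, rfl⟩ := cyclesToH_surjective (injectiveResolution X) i y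
  obtain ⟨n, hn⟩ := cycleVal_mem (injectiveResolution X) i z
  refine (cyclesToH_eq_zero_iff_mem _ i z).2 ?_
  have h1 := hn 1 (by rw [Ideal.top_pow]; exact Submodule.mem_top)
  rw [one_smul] at h1
  rw [h1]
  exact Submodule.zero_mem _

/-- `S8940`: the iterated map is zero. -/
theorem map_eq_zero_of_locZero (T : Set (PrimeSpectrum R)) (e : ℕ) (he : Order.krullDim ↥T ≤ (e : WithBot ℕ∞))
    (M : ℕ → Type u) [∀ n, AddCommGroup (M n)] [∀ n, Module R (M n)] (φ : ∀ k m : ℕ, m ≤ k → (M k →ₗ[R] M m))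
    (hφ : ∀ (k l m : ℕ) (h₁ : m ≤ l) (h₂ : l ≤ k), φ k m (h₁.trans h₂) = φ l m h₁ ∘ₗ φ k l h₂) (i : ℕ)
    (m' : ℕ → ℕ) (hm' : ∀ m, m ≤ m' m)
    (hloc : ∀ p : PrimeSpectrum R, p ∈ T → ∀ (m k : ℕ) (h : m ≤ k), m' m ≤ k → LocZero p.asIdeal i (φ k m h))
    (m k : ℕ) (h : m ≤ k) (hk : (m'^[e + 1]) m ≤ k) :
    (localCohomology.ofDiagram (Dual2.idealsInDiagram T) i).map (ModuleCat.ofHom (φ k m h)) = 0 := by
  have hP : ∀ (r : ℕ) (m k : ℕ) (h : m ≤ k), (m'^[r]) m ≤ k →
      ∀ x : ↑((localCohomology.ofDiagram (Dual2.idealsInDiagram T) i).obj (ModuleCat.of R (M k))),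
      ∃ (K : Ideal R) (hK : PrimeSpectrum.zeroLocus (K : Set R) ⊆ T)
        (y : ↑((localCohomology K i).obj (ModuleCat.of R (M m)))),
        (∀ p : PrimeSpectrum R, (hp : K ≤ p.asIdeal) → (r : ℕ∞) ≤ Order.height (⟨p, hK hp⟩ : ↥T)) ∧
        theta K hK i _ y = (localCohomology.ofDiagram (Dual2.idealsInDiagram T) i).map (ModuleCat.ofHom (φ k m h)) x := by
    intro r
    induction r with
    | zero =>
      intro m k h _ x
      obtain ⟨K, hK, y, hy⟩ := exists_theta i _ x
      refine ⟨K, hK, (localCohomology K i).map (ModuleCat.ofHom (φ k m h)) y, fun p hp => ?_, ?_⟩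
      · rw [Nat.cast_zero]; exact zero_le
      · rw [theta_map, hy]
    | succ r ih =>
      intro m k h hk x
      rw [Function.iterate_succ_apply] at hk
      have h2 : m' m ≤ k := (Function.id_le_iterate_of_id_le hm' r (m' m)).trans hk
      obtain ⟨K, hK, y, hh, hy⟩ := ih (m' m) k h2 hk x
      obtain ⟨K', hK', y', hlt, hy'⟩ := exists_step i (φ (m' m) m (hm' m))
        (fun p hp => hloc p hp m (m' m) (hm' m) le_rfl) K hK y
      refine ⟨K', hK', y', fun p hp => ?_, ?_⟩
      · obtain ⟨p₀, hp₀, hp₀p⟩ := hlt p hp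
        refine le_trans ?_ (Order.height_add_one_le (a := (⟨p₀, hK hp₀⟩ : ↥T)) hp₀p)
        rw [Nat.cast_add_one]
        exact add_le_add (hh p₀ hp₀) le_rfl
      · rw [hy', hy, ← ConcreteCategory.comp_apply, ← Functor.map_comp, ← ModuleCat.ofHom_comp, ← hφ]
  refine ModuleCat.hom_ext (LinearMap.ext fun x => ?_)
  obtain ⟨K, hK, y, hh, hy⟩ := hP (e + 1) m k h hk x
  refine hy.symm.trans ?_
  rw [eq_zero_of_zeroLocus_empty i K ?_ _ y, map_zero]
  · rfl
  refine Set.eq_empty_of_forall_notMem fun p hp => ?_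
  have h1 : ((e + 1 : ℕ) : WithBot ℕ∞) ≤ (e : WithBot ℕ∞) := by
    refine le_trans ?_ ((Order.height_le_krullDim (⟨p, hK hp⟩ : ↥T)).trans he)
    exact WithBot.coe_le_coe.2 (hh p hp)
  exact absurd (by exact_mod_cast h1) (Nat.not_succ_le_self e)

end Groth.Agent.HTLib
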