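import Groth.Agent.HTLib.LocalDual
import Groth.Agent.HTLib.UDevT
import Groth.Agent.DualFlat.Iso

/-!
A map of finite modules is zero on `H^i` at `q` when the dual map is zero at `q`.
-/

set_option autoImplicit false
set_option maxHeartbeats 1000000
set_option linter.style.haveILetI false
set_option backward.isDefEq.respectTransparency false
set_option backward.isDefEq.respectTransparency.types false

universe u

namespace Groth.Agent.HTLib

open CategoryTheory CategoryTheory.Limits DerivedCategory Groth.Agent.DualCx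
open scoped TensorProduct

attribute [local instance] HasDerivedCategory.standard

noncomputable section

variable {A : Type u} [CommRing A] [IsNoetherianRing A] {ω : Dual.D A}

/-- `B ⊗ M = M_q` -/
def eLoc (q : PrimeSpectrum A) (M : Type u) [AddCommGroup M] [Module A M] :
    DualFlat.EM (A := A) (Localization.AtPrime q.asIdeal) M ≃ₗ[Localization.AtPrime q.asIdeal]
      LocalizedModule q.asIdeal.primeCompl M :=
  DualFlat.tens (A := A) (Localization.AtPrime q.asIdeal) M ≪≫ₗ (LocalizedModule.equivTensorProduct q.asIdeal.primeCompl M).symm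

omit [IsNoetherianRing A] in
theorem eLoc_natural (q : PrimeSpectrum A) {M N : Type u} [AddCommGroup M] [Module A M] [AddCommGroup N] [Module A N]
    (f : M →ₗ[A] N) :
    (eLoc q N).toLinearMap.comp (DualFlat.Ef (Localization.AtPrime q.asIdeal) f) =
      (LocalizedModule.map q.asIdeal.primeCompl f).comp (eLoc q M).toLinearMap := by
  refine LinearMap.ext fun z => ?_
  obtain ⟨w, rfl⟩ := (DualFlat.tens (A := A) (Localization.AtPrime q.asIdeal) M).symm.surjective z
  induction w using TensorProduct.induction_on with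
  | zero => simp
  | add v w hv hw => rw [map_add, map_add, map_add, hv, hw]
  | tmul b x =>
    rw [show b ⊗ₜ[A] x = b • ((1 : Localization.AtPrime q.asIdeal) ⊗ₜ[A] x) by
      rw [TensorProduct.smul_tmul', smul_eq_mul, mul_one], map_smul, map_smul, map_smul]
    refine congrArg (b • ·) ?_
    show eLoc q N (DualFlat.Ef _ f _) = LocalizedModule.map _ f (eLoc q M _)
    rw [DualFlat.map_tens_one]
    simp only [eLoc, LinearEquiv.trans_apply, LinearEquiv.apply_symm_apply,
      LocalizedModule.equivTensorProduct_symm_apply_tmul_one, LocalizedModule.map_mk]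

/-- The dual map is zero at `q` ⇒ the map is zero on `H^i` at `q`. -/
theorem locZero_of_dual (hω : Dual.IsDualizing A ω) (q : PrimeSpectrum A) (i : ℕ) {M N : Type u}
    [AddCommGroup M] [Module A M] [Module.Finite A M] [AddCommGroup N] [Module A N] [Module.Finite A N]
    (f : M →ₗ[A] N) (h : ∀ x : T ω N (-del hω q - i), ∃ t ∉ q.asIdeal, t • pre ω (-del hω q - i) f x = 0) :
    LocZero q.asIdeal i f := by
  obtain ⟨lo, hi, hb⟩ := bounded_of_dualizing hω
  obtain ⟨hle, hge⟩ := isLE_isGE_of_bounded hb
  let B := Localization.AtPrime q.asIdeal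
  let φ := algebraMap A B
  let S := q.asIdeal.primeCompl
  haveI : IsLocMap φ S := isLocMap_algebraMap S
  haveI := preservesFiniteLimits_of_isLocMap φ S
  haveI : Module.Flat A B := IsLocalization.flat B S
  let ν := DualFlat.KB (A := A) B ω
  have hν : Dual.IsDualizing B ν := isDualizing_locD φ S hω
  let d := -del hω q
  obtain ⟨eq⟩ := exists_quot_equiv q
  have hres : ∀ j : ℤ, j ≠ d → Subsingleton (T ν (B ⧸ IsLocalRing.maximalIdeal B) j) := fun j hj => by
    refine (DualCx.subsingleton_congr eq).1 (subsingleton_of_forall_eq 0 fun g => ?_)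
    have hv : Van ω q.asIdeal (A ⧸ q.asIdeal) j := not_not.1 fun h => hj ((not_van_iff hω q j).1 h)
    have h1 := (killed_iff φ S (A ⧸ q.asIdeal) lo j 1).2 (fun x => by
      obtain ⟨u, hu, hux⟩ := hv x
      exact ⟨u, hu, by rw [one_smul]; exact hux⟩) g
    rwa [map_one, one_smul] at h1
  have hν' : Dual.IsDualizing B (ν⟦d⟧) := isDualizing_shift hν d
  have hn : Dual.IsNormalized B (ν⟦d⟧) := fun j hj =>
    (shiftT ν (Dual.inD B (B ⧸ IsLocalRing.maximalIdeal B)) d j (d + j) rfl).toEquiv.subsingleton_congr.2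
      (hres (d + j) (by lia))
  obtain ⟨E, _, _, g₀, hg₀⟩ := InjHull.exists_isInjectiveHull B (B ⧸ IsLocalRing.maximalIdeal B)
  obtain ⟨ψ, h1, h2⟩ := exists_family hν' hn hg₀
  let Φ : Fam (ν⟦d⟧) E := ⟨ψ, h1, h2⟩
  let fq := LocalizedModule.map S f
  have hEf : ∀ z : T ν (DualFlat.EM (A := A) B N) (d - i), pre ν (d - i) (DualFlat.Ef B f) z = 0 := fun z => by
    obtain ⟨w, rfl⟩ := (DualFlat.bT_bijective B ω (fun j hj => hb j (Or.inl hj)) N (d - i)).2 z
    rw [← LinearMap.comp_apply, ← DualFlat.pre_bT, LinearMap.comp_apply]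
    refine (congrArg _ ?_).trans (map_zero _)
    induction w using TensorProduct.induction_on with
    | zero => exact map_zero _
    | add v w hv hw => rw [map_add, hv, hw, add_zero]
    | tmul b x =>
      obtain ⟨t, ht, htx⟩ := h x
      rw [LinearMap.baseChange_tmul]
      refine ((IsLocalization.map_units B (⟨t, ht⟩ : S)).smul_eq_zero).1 ?_
      rw [algebraMap_smul, ← TensorProduct.tmul_smul, htx, TensorProduct.tmul_zero]
  have hfq : ∀ x : T (ν⟦d⟧) (LocalizedModule S N) (-(i : ℤ)), pre (ν⟦d⟧) (-(i : ℤ)) fq x = 0 := fun x => by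
    let eN := shiftT ν (Dual.inD B (LocalizedModule S N)) d (-(i : ℤ)) (d - i) rfl
    let eM := shiftT ν (Dual.inD B (LocalizedModule S M)) d (-(i : ℤ)) (d - i) rfl
    apply eM.injective
    rw [map_zero]
    have hnat : eM (pre (ν⟦d⟧) (-(i : ℤ)) fq x) = pre ν (d - i) fq (eN x) := by
      simp [eM, eN, shiftT, pre_apply, Linear.homCongr_apply, Category.assoc]
    rw [hnat]
    apply (DualCx.congr ν (d - i) (eLoc q M)).injective
    rw [map_zero]
    show pre ν (d - i) (eLoc q M).toLinearMap (pre ν (d - i) fq (eN x)) = 0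
    rw [← pre_comp, ← eLoc_natural, pre_comp]
    exact hEf _
  refine ModuleCat.hom_ext (LinearMap.ext fun y => ?_)
  refine (th_bijective hν' hn hg₀ Φ i (LocalizedModule S N)).1 ?_
  refine Eq.trans ?_ (map_zero _).symm
  refine LinearMap.ext fun x => ?_
  refine (Φ.theta_map (deg i) (ModuleCat.ofHom fq) y x).trans ?_
  rw [show pre (ν⟦d⟧) (-(i : ℤ)) (ModuleCat.ofHom fq).hom x = 0 from hfq x, map_zero]
  rfl

end

end Groth.Agent.HTLib
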