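import Groth.Agent.HTLib.UBridge
import Groth.Agent.HTLib.ULocZero

/-!
`H^i_T(I^n M)` is uniformly pro-zero for `i ≤ s + 1`.
-/

set_option autoImplicit false
set_option maxHeartbeats 1000000
set_option linter.style.haveILetI false
set_option backward.isDefEq.respectTransparency false
universe u

namespace Groth.Agent.HTLib

open CategoryTheory Limits DerivedCategory DualCx

attribute [local instance] HasDerivedCategory.standard

noncomputable section

theorem mem_range_aux {a b x : ℤ} {i s : ℕ} (h1 : a ≤ x) (h2 : x ≤ b) (hi : i ≤ s + 1) :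
    -b - s - 1 ≤ -x - i ∧ -x - (i : ℤ) ≤ -a ∧ -x - (s : ℤ) - 1 ≤ -x - i := by omega

variable {A : Type u} [CommRing A] [IsNoetherianRing A] {ω : Dual.D A}

theorem exists_stage_uniform (hω : Dual.IsDualizing A ω) (I : Ideal A) (M : Type u) [AddCommGroup M] [Module A M]
    [Module.Finite A M] (j : ℤ) (n : ℕ) :
    ∃ K : ℕ, n ≤ K ∧ ∀ (x : DualCx.T ω ↥(I ^ n • (⊤ : Submodule A M)) j) (k : ℕ) (hk : n ≤ k) (k' : ℕ) (hk' : n ≤ k'),
      K ≤ k' → pre ω j (resI I M hk) x = 0 → pre ω j (resI I M hk') x = 0 := by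
  haveI : IsNoetherian A M := isNoetherian_of_isNoetherianRing_of_finite A M
  haveI := finite_T hω ↥(I ^ n • (⊤ : Submodule A M)) j
  let W : ℕ →o Submodule A (DualCx.T ω ↥(I ^ n • (⊤ : Submodule A M)) j) :=
    ⟨fun e => LinearMap.ker (pre ω j (resI I M (Nat.le_add_right n e))), fun e₁ e₂ he x hx => by
      rw [LinearMap.mem_ker] at hx ⊢
      rw [← resI_comp I M (Nat.le_add_right n e₁) (Nat.add_le_add_left he n), pre_comp, hx, map_zero]⟩
  haveI : IsNoetherian A (DualCx.T ω ↥(I ^ n • (⊤ : Submodule A M)) j) := isNoetherian_of_isNoetherianRing_of_finite A _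
  obtain ⟨E, hE⟩ := monotone_stabilizes_iff_noetherian.2 ‹IsNoetherian A _› W
  refine ⟨n + E, Nat.le_add_right n E, fun x k hk k' hk' hK hx => ?_⟩
  obtain ⟨e, rfl⟩ := Nat.exists_eq_add_of_le hk
  obtain ⟨e', rfl⟩ := Nat.exists_eq_add_of_le hk'
  have h1 : x ∈ W (max e E) := W.monotone (le_max_left e E) hx
  rw [← hE (max e E) (le_max_right _ _)] at h1
  exact W.monotone (Nat.le_of_add_le_add_left hK) h1

variable (hω : Dual.IsDualizing A ω) (I : Ideal A) (M : Type u) [AddCommGroup M] [Module A M] [Module.Finite A M]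

include hω in
theorem exists_locZero {d : ℕ} (hcd : LocCoh.CdLE A I d) (T : Set (PrimeSpectrum A))
    (hTI : T ⊆ PrimeSpectrum.zeroLocus (I : Set A)) (s : ℕ)
    (h4 : ∀ p r q : PrimeSpectrum A, p ≤ r → r ≤ q → ¬ I ≤ p.asIdeal → I ≤ r.asIdeal → r ∉ T → q ∈ T →
      (s : ℕ∞) ≤ LocCoh.depth (Localization.AtPrime p.asIdeal) (LocalizedModule p.asIdeal.primeCompl M) ∨
      ((d + s : ℕ) : WithBot ℕ∞) < (LocCoh.depth (Localization.AtPrime p.asIdeal)
        (LocalizedModule p.asIdeal.primeCompl M) : WithBot ℕ∞) + Formal2.dimBetween A p.asIdeal q.asIdeal)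
    (h6 : ∀ q : PrimeSpectrum A, q ∈ T → ∀ p' : PrimeSpectrum (CB I q),
      ¬ (I.map (algebraMap A (CB I q))) ≤ p'.asIdeal →
      (∀ q' : PrimeSpectrum (CB I q), p' ≤ q' → (I.map (algebraMap A (CB I q))) ≤ q'.asIdeal → q'.asIdeal.IsMaximal) →
      (s : ℕ∞) < LocCoh.depth (Localization.AtPrime p'.asIdeal) (LocalizedModule p'.asIdeal.primeCompl
        (AdicCompletion (I.map (algebraMap A (Localization.AtPrime q.asIdeal))) (LocalizedModule q.asIdeal.primeCompl M))))
    (n : ℕ) :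
    ∃ K : ℕ, n ≤ K ∧ ∀ (q : PrimeSpectrum A), q ∈ T → ∀ i ≤ s + 1, ∀ (k : ℕ) (hk : n ≤ k), K ≤ k →
      LocZero q.asIdeal i (resI I M hk) := by
  haveI : IsNoetherian A M := isNoetherian_of_isNoetherianRing_of_finite A M
  obtain ⟨a, b, hab⟩ := exists_del_bound hω
  choose E hE using fun j : ℤ => exists_stage_uniform hω I M j n
  refine ⟨max n ((Finset.Icc (-b - (s : ℤ) - 1) (-a)).sup E), le_max_left _ _, fun q hq i hi k hk hK => ?_⟩
  obtain ⟨h1, h2, h3⟩ := mem_range_aux (hab q).1 (hab q).2 hi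
  refine locZero_of_dual hω q i _ fun x => ?_
  obtain ⟨k₀, hk₀, t, ht, htx⟩ := exists_tors_res hω I M hcd T hTI s h4 h6 q hq (-del hω q - i) h3 n x
  refine ⟨t, ht, ?_⟩
  rw [← map_smul] at htx ⊢
  exact (hE _).2 _ k₀ hk₀ k hk
    (le_trans (le_trans (Finset.le_sup (f := E) (Finset.mem_Icc.2 ⟨h1, h2⟩)) (le_max_right _ _)) hK) htx

include hω in
omit [Module.Finite A M] in
theorem exists_dim_bound (T : Set (PrimeSpectrum A)) : ∃ e : ℕ, Order.krullDim ↥T ≤ (e : WithBot ℕ∞) := by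
  obtain ⟨a, b, hab⟩ := exists_del_bound hω
  refine ⟨(b - a).toNat, iSup_le fun l => ?_⟩
  have hs : ∀ i : Fin (l.length + 1), del hω (l i).1 + (i : ℕ) ≤ del hω l.head.1 := by
    intro i
    induction i using Fin.induction with
    | zero => simp [RelSeries.head]
    | succ j ihj =>
      have := del_lt hω (show (l j.castSucc).1 < (l j.succ).1 from l.step j)
      simp only [Fin.val_succ, Fin.val_castSucc] at ihj ⊢
      lia
  have h1 := hs (Fin.last _)
  have h2 := (hab l.head.1).2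
  have h3 := (hab (l (Fin.last _)).1).1
  simp only [Fin.val_last] at h1
  exact_mod_cast (show l.length ≤ (b - a).toNat by lia)

include hω in
/-- `H^i_T(I^n M)` is uniformly pro-zero for `i ≤ s + 1`. -/
theorem exists_prozero {d : ℕ} (hcd : LocCoh.CdLE A I d) (T : Set (PrimeSpectrum A))
    (hTI : T ⊆ PrimeSpectrum.zeroLocus (I : Set A)) (s : ℕ)
    (h4 : ∀ p r q : PrimeSpectrum A, p ≤ r → r ≤ q → ¬ I ≤ p.asIdeal → I ≤ r.asIdeal → r ∉ T → q ∈ T →
      (s : ℕ∞) ≤ LocCoh.depth (Localization.AtPrime p.asIdeal) (LocalizedModule p.asIdeal.primeCompl M) ∨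
      ((d + s : ℕ) : WithBot ℕ∞) < (LocCoh.depth (Localization.AtPrime p.asIdeal)
        (LocalizedModule p.asIdeal.primeCompl M) : WithBot ℕ∞) + Formal2.dimBetween A p.asIdeal q.asIdeal)
    (h6 : ∀ q : PrimeSpectrum A, q ∈ T → ∀ p' : PrimeSpectrum (CB I q),
      ¬ (I.map (algebraMap A (CB I q))) ≤ p'.asIdeal →
      (∀ q' : PrimeSpectrum (CB I q), p' ≤ q' → (I.map (algebraMap A (CB I q))) ≤ q'.asIdeal → q'.asIdeal.IsMaximal) →
      (s : ℕ∞) < LocCoh.depth (Localization.AtPrime p'.asIdeal) (LocalizedModule p'.asIdeal.primeCompl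
        (AdicCompletion (I.map (algebraMap A (Localization.AtPrime q.asIdeal))) (LocalizedModule q.asIdeal.primeCompl M))))
    (n : ℕ) :
    ∃ k : ℕ, n ≤ k ∧ ∀ i ≤ s + 1, ∀ (l : ℕ) (hl : n ≤ l), k ≤ l →
      (localCohomology.ofDiagram (Dual2.idealsInDiagram T) i).map (ModuleCat.ofHom (resI I M hl)) = 0 := by
  choose F hF using fun m => exists_locZero hω I M hcd T hTI s h4 h6 m
  obtain ⟨e, he⟩ := exists_dim_bound hω T
  refine ⟨(F^[e + 1]) n, Function.id_le_iterate_of_id_le (fun m => (hF m).1) (e + 1) n, fun i hi l hl hkl => ?_⟩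
  exact map_eq_zero_of_locZero T e he (fun n => ↥(I ^ n • (⊤ : Submodule A M))) (fun k m h => resI I M h)
    (fun k l m h₁ h₂ => (resI_comp I M h₁ h₂).symm) i F (fun m => (hF m).1)
    (fun p hp m k h hk => (hF m).2 p hp i hi k h hk) n l hl hkl

end

end Groth.Agent.HTLib
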