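import Groth.Agent.LocH.CompareLE
import Groth.Agent.LocH.Interface

/-!
`H^i_T(M)` as the filtered union of the `H^i_J(M)`, `V(J) ⊆ T`.
-/

set_option autoImplicit false
set_option backward.isDefEq.respectTransparency false
set_option backward.isDefEq.respectTransparency.types false

namespace Groth.Agent.HTLib

universe u

open CategoryTheory CategoryTheory.Limits Opposite localCohomology

variable {A : Type u} [CommRing A] {T : Set (PrimeSpectrum A)}

/-- An ideal with support in `T`. -/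
abbrev mkIn (J : Ideal A) (hJ : PrimeSpectrum.zeroLocus (J : Set A) ⊆ T) : Dual2.IdealsIn T := ⟨J, hJ⟩

theorem pow_in (J : Ideal A) (hJ : PrimeSpectrum.zeroLocus (J : Set A) ⊆ T) (n : ℕ) :
    PrimeSpectrum.zeroLocus ((J ^ n : Ideal A) : Set A) ⊆ T := by
  intro p hp
  refine hJ ?_
  rw [PrimeSpectrum.mem_zeroLocus, SetLike.coe_subset_coe] at hp ⊢
  exact p.2.le_of_pow_le hp

theorem mul_in {J K : Ideal A} (hJ : PrimeSpectrum.zeroLocus (J : Set A) ⊆ T)
    (hK : PrimeSpectrum.zeroLocus (K : Set A) ⊆ T) : PrimeSpectrum.zeroLocus ((J * K : Ideal A) : Set A) ⊆ T := by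
  rw [PrimeSpectrum.zeroLocus_mul]
  exact Set.union_subset hJ hK

instance (X Y : Dual2.IdealsIn T) : Subsingleton (X ⟶ Y) :=
  ⟨fun f g => ObjectProperty.hom_ext _ (Subsingleton.elim _ _)⟩

instance isCofiltered_idealsIn : IsCofiltered (Dual2.IdealsIn T) where
  nonempty := ⟨mkIn ⊤ fun p hp => absurd (top_le_iff.1 (show (⊤ : Ideal A) ≤ p.asIdeal from hp)) p.2.ne_top⟩
  cone_objs X Y := ⟨mkIn (X.obj * Y.obj) (mul_in X.property Y.property),
    ⟨homOfLE Ideal.mul_le_left⟩, ⟨homOfLE Ideal.mul_le_right⟩, trivial⟩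
  cone_maps X Y f g := ⟨X, 𝟙 X, by rw [Subsingleton.elim f g]⟩

variable (J : Ideal A) (hJ : PrimeSpectrum.zeroLocus (J : Set A) ⊆ T)

/-- The powers of `J`. -/
def powFun : ℕᵒᵖ ⥤ Dual2.IdealsIn T :=
  ObjectProperty.lift _ (idealPowersDiagram J) fun n => pow_in J hJ n.unop

/-- `H^i_J ⟶ H^i_T`. -/
noncomputable def thetaNat (i : ℕ) :
    localCohomology J i ⟶ localCohomology.ofDiagram.{u, u} (Dual2.idealsInDiagram T) i :=
  have := hasColimitDiagram.{u, u} (Dual2.idealsInDiagram T) i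
  have : HasColimit ((powFun J hJ).op ⋙ diagram (Dual2.idealsInDiagram T) i) :=
    hasColimitDiagram.{u, 0} (powFun J hJ ⋙ Dual2.idealsInDiagram T) i
  colimit.pre (diagram (Dual2.idealsInDiagram T) i) (powFun J hJ).op

/-- The component. -/
noncomputable def theta (i : ℕ) (M : ModuleCat.{u} A) :
    ↑((localCohomology J i).obj M) →ₗ[A] ↑((ofDiagram.{u, u} (Dual2.idealsInDiagram T) i).obj M) :=
  ((thetaNat J hJ i).app M).hom

/-- The cocone. -/
noncomputable def ι (X : Dual2.IdealsIn T) (i : ℕ) :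
    (diagram (Dual2.idealsInDiagram T) i).obj (op X) ⟶ ofDiagram.{u, u} (Dual2.idealsInDiagram T) i :=
  have := hasColimitDiagram.{u, u} (Dual2.idealsInDiagram T) i
  colimit.ι (diagram (Dual2.idealsInDiagram T) i) (op X)

theorem ι_w {X Y : Dual2.IdealsIn T} (f : Y ⟶ X) (i : ℕ) :
    (diagram (Dual2.idealsInDiagram T) i).map f.op ≫ ι Y i = ι X i :=
  have := hasColimitDiagram.{u, u} (Dual2.idealsInDiagram T) i
  colimit.w (diagram (Dual2.idealsInDiagram T) i) f.op

theorem ι_thetaNat (i n : ℕ) :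
    colimit.ι (diagram (idealPowersDiagram J) i) (op (op n)) ≫ thetaNat J hJ i = ι ((powFun J hJ).obj (op n)) i := by
  have := hasColimitDiagram.{u, u} (Dual2.idealsInDiagram T) i
  have : HasColimit ((powFun J hJ).op ⋙ diagram (Dual2.idealsInDiagram T) i) :=
    hasColimitDiagram.{u, 0} (powFun J hJ ⋙ Dual2.idealsInDiagram T) i
  exact colimit.ι_pre (diagram (Dual2.idealsInDiagram T) i) (powFun J hJ).op (op (op n))

theorem thetaNat_comp {K : Ideal A} (hK : PrimeSpectrum.zeroLocus (K : Set A) ⊆ T) (h : K ≤ J) (i : ℕ) :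
    Dual2.HmapOfLE h i ≫ thetaNat K hK i = thetaNat J hJ i := by
  refine colimit.hom_ext (F := diagram (idealPowersDiagram J) i) fun n => ?_
  obtain ⟨⟨n⟩⟩ := n
  refine Eq.trans ?_ (ι_thetaNat J hJ i n).symm
  refine (ι_colimMap_assoc _ _ _).trans ?_
  refine (congrArg (_ ≫ ·) (ι_thetaNat K hK i n)).trans ?_
  refine Eq.trans ?_ (ι_w (X := (powFun J hJ).obj (op n)) (Y := (powFun K hK).obj (op n))
    ⟨homOfLE (Ideal.pow_right_mono h n)⟩ i)
  rfl

theorem theta_HmapOfLE {K : Ideal A} (hK : PrimeSpectrum.zeroLocus (K : Set A) ⊆ T) (h : K ≤ J) (i : ℕ)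
    (M : ModuleCat.{u} A) (y : ↑((localCohomology J i).obj M)) :
    theta K hK i M ((Dual2.HmapOfLE h i).app M y) = theta J hJ i M y := by
  rw [theta, theta, ← thetaNat_comp J hJ hK h i]
  rfl

/-- The colimit evaluated at `M`. -/
noncomputable def evalCoconeT (i : ℕ) (M : ModuleCat.{u} A) :
    Cocone (diagram (Dual2.idealsInDiagram T) i ⋙ (evaluation _ _).obj M) :=
  have := hasColimitDiagram.{u, u} (Dual2.idealsInDiagram T) i
  ((evaluation _ _).obj M).mapCocone (colimit.cocone (diagram (Dual2.idealsInDiagram T) i))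

/-- It is a colimit. -/
noncomputable def evalCoconeTIsColimit (i : ℕ) (M : ModuleCat.{u} A) :
    IsColimit (evalCoconeT (T := T) i M) :=
  have := hasColimitDiagram.{u, u} (Dual2.idealsInDiagram T) i
  isColimitOfPreserves _ (colimit.isColimit (diagram (Dual2.idealsInDiagram T) i))

theorem exists_theta (i : ℕ) (M : ModuleCat.{u} A) (x : ↑((ofDiagram.{u, u} (Dual2.idealsInDiagram T) i).obj M)) :
    ∃ (K : Ideal A) (hK : PrimeSpectrum.zeroLocus (K : Set A) ⊆ T) (y : ↑((localCohomology K i).obj M)),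
      theta K hK i M y = x := by
  obtain ⟨⟨X⟩, α, hα⟩ := Concrete.isColimit_exists_rep _ (evalCoconeTIsColimit (T := T) i M) x
  let f : (powFun X.obj X.property).obj (op 1) ⟶ X := ⟨homOfLE (pow_one X.obj).le⟩
  refine ⟨X.obj, X.property, (colimit.ι (diagram (idealPowersDiagram X.obj) i) (op (op 1))).app M
    (((diagram (Dual2.idealsInDiagram T) i).map f.op).app M α), ?_⟩
  rw [← hα]
  have h1 := congrArg (fun φ => φ.app M (((diagram (Dual2.idealsInDiagram T) i).map f.op).app M α))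
    (ι_thetaNat X.obj X.property i 1)
  refine h1.trans ?_
  exact congrArg (fun φ => φ.app M α) (ι_w f i)

/-- `Ext^i(A/J^n, M) ⟶ H^i_J(M)`. -/
noncomputable def stage (J : Ideal A) (i n : ℕ) (M : ModuleCat.{u} A) :
    ((diagram (idealPowersDiagram J) i).obj (op (op n))).obj M →ₗ[A] ↑((localCohomology J i).obj M) :=
  ((colimit.ι (diagram (idealPowersDiagram J) i) (op (op n))).app M).hom

theorem exists_stage (i : ℕ) (M : ModuleCat.{u} A) (y : ↑((localCohomology J i).obj M)) :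
    ∃ n α, stage J i n M α = y := by
  obtain ⟨⟨⟨n⟩⟩, α, h⟩ := Concrete.isColimit_exists_rep _ (LocH.evalCoconeIsColimit J M i) y
  exact ⟨n, α, h⟩

/-- The transition `A/K^n → A/J^n`. -/
theorem stage_trans {K : Ideal A} (h : K ≤ J) (i n : ℕ) (M : ModuleCat.{u} A)
    (α : ((diagram (idealPowersDiagram J) i).obj (op (op n))).obj M) :
    (Dual2.HmapOfLE h i).app M (stage J i n M α) =
      stage K i n M ((((_root_.Ext A (ModuleCat.{u} A) i).map ((Dual2.quotMapOfLE h).app (op n)).op).app M).hom α) :=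
  congrArg (fun φ => (φ.app M).hom α)
    (ι_colimMap (Functor.whiskerRight (NatTrans.op (Dual2.quotMapOfLE h)) (_root_.Ext A (ModuleCat.{u} A) i)) (op (op n)))

theorem stage_succ (i n m : ℕ) (hnm : n ≤ m) (M : ModuleCat.{u} A)
    (α : ((diagram (idealPowersDiagram J) i).obj (op (op n))).obj M) :
    stage J i m M (((diagram (idealPowersDiagram J) i).map
      (show op (op n) ⟶ op (op m) from ((homOfLE hnm).op).op)).app M α) = stage J i n M α :=
  congrArg (fun φ => φ.app M α) (colimit.w (diagram (idealPowersDiagram J) i)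
    (show op (op n) ⟶ op (op m) from ((homOfLE hnm).op).op))

theorem theta_eq_zero (i : ℕ) (M : ModuleCat.{u} A) (y : ↑((localCohomology J i).obj M))
    (h : theta J hJ i M y = 0) : ∃ (K : Ideal A) (_ : PrimeSpectrum.zeroLocus (K : Set A) ⊆ T) (hKJ : K ≤ J),
      (Dual2.HmapOfLE hKJ i).app M y = 0 := by
  obtain ⟨n, α, hα⟩ := exists_stage J i M y
  subst hα
  have h1 : (evalCoconeT (T := T) i M).ι.app (op ((powFun J hJ).obj (op n))) α = 0 :=
    (congrArg (fun φ => φ.app M α) (ι_thetaNat J hJ i n)).symm.trans h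
  obtain ⟨⟨Y⟩, f, g, hfg⟩ := (Concrete.isColimit_rep_eq_iff_exists _ (evalCoconeTIsColimit (T := T) i M)
    (i := op ((powFun J hJ).obj (op n))) (j := op ((powFun J hJ).obj (op n))) α 0).1
    (h1.trans (map_zero ((evalCoconeT (T := T) i M).ι.app (op ((powFun J hJ).obj (op n)))).hom).symm)
  rw [map_zero] at hfg
  have hK : PrimeSpectrum.zeroLocus ((J * Y.obj : Ideal A) : Set A) ⊆ T := mul_in hJ Y.property
  refine ⟨J * Y.obj, hK, Ideal.mul_le_left, ?_⟩
  rw [stage_trans, ← stage_succ _ i n (n + 1) n.le_succ]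
  refine (congrArg _ ?_).trans (map_zero _)
  let g₁ : (powFun (J * Y.obj) hK).obj (op (n + 1)) ⟶ Y :=
    ⟨homOfLE ((Ideal.pow_le_self n.succ_ne_zero).trans Ideal.mul_le_right)⟩
  let g₂ : (powFun (J * Y.obj) hK).obj (op (n + 1)) ⟶ (powFun J hJ).obj (op n) :=
    ⟨homOfLE ((Ideal.pow_le_pow_right n.le_succ).trans (Ideal.pow_right_mono Ideal.mul_le_left n))⟩
  let G := diagram (Dual2.idealsInDiagram T) i
  have h3 : ((G.map (f ≫ g₁.op)).app M).hom α = 0 := by
    rw [Functor.map_comp, NatTrans.comp_app, ModuleCat.hom_comp, LinearMap.comp_apply]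
    exact (congrArg ((G.map g₁.op).app M).hom hfg).trans (map_zero _)
  let a : (powFun (J * Y.obj) hK).obj (op (n + 1)) ⟶ (powFun (J * Y.obj) hK).obj (op n) :=
    (powFun (J * Y.obj) hK).map (homOfLE n.le_succ).op
  let b : (powFun (J * Y.obj) hK).obj (op n) ⟶ (powFun J hJ).obj (op n) :=
    ⟨homOfLE (Ideal.pow_right_mono Ideal.mul_le_left n)⟩
  have e : f ≫ g₁.op = b.op ≫ a.op := Quiver.Hom.unop_inj (Subsingleton.elim _ _)
  rw [e, Functor.map_comp, NatTrans.comp_app, ModuleCat.hom_comp, LinearMap.comp_apply] at h3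
  exact h3

end Groth.Agent.HTLib
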