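import Groth.Agent.DualCx.HDI
import Groth.Agent.DualCx.Duality
import Groth.Agent.HLVT.Connect
import Groth.Agent.S0332

/-!
`H^0_I(ω) = 0` forces `cd(I) < dim A`.
-/

set_option autoImplicit false
set_option maxHeartbeats 1000000
set_option linter.style.haveILetI false
set_option backward.isDefEq.respectTransparency false
universe u

namespace Groth.Agent.HTLib

open CategoryTheory CategoryTheory.Limits Opposite IsLocalRing Groth.Agent.DualCx
open scoped TensorProduct

attribute [local instance] HasDerivedCategory.standard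

noncomputable section

variable {A : Type u} [CommRing A] [IsLocalRing A] [IsNoetherianRing A] {ω : Dual.D A}

/-- `A/I^k → A/I^n` -/
def qt (I : Ideal A) {n k : ℕ} (h : n ≤ k) : (A ⧸ I ^ k) →ₗ[A] (A ⧸ I ^ n) :=
  Submodule.mapQ _ _ LinearMap.id (Ideal.pow_le_pow_right h)

/-- The system whose colimit is `Dual2.HDI`. -/
abbrev hdiDiagI (ω : Dual.D A) (I : Ideal A) (i : ℤ) : ℕᵒᵖᵒᵖ ⥤ ModuleCat.{u + 1} A :=
  (localCohomology.ringModIdeals (localCohomology.idealPowersDiagram I) ⋙
    DerivedCategory.singleFunctor (ModuleCat.{u} A) 0).op ⋙ (linearYoneda A (Dual.D A)).obj (ω⟦i⟧)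

instance (I : Ideal A) (i : ℤ) :
    PreservesColimit (hdiDiagI ω I i) (CategoryTheory.forget (ModuleCat.{u + 1} A)) :=
  haveI : PreservesFilteredColimitsOfSize.{0, 0} (CategoryTheory.forget AddCommGrpCat.{u + 1}) :=
    preservesFilteredColimitsOfSize_shrink.{0, u + 1, 0, u + 1} _
  comp_preservesColimit (forget₂ (ModuleCat.{u + 1} A) AddCommGrpCat.{u + 1}) (CategoryTheory.forget AddCommGrpCat.{u + 1})

omit [IsLocalRing A] [IsNoetherianRing A] in
theorem exists_pre_qt_eq_zero (I : Ideal A) {i : ℤ} (h0 : Subsingleton (Dual2.HDI A I ω i)) (n : ℕ)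
    (x : DualCx.T ω (A ⧸ I ^ n) i) : ∃ (k : ℕ) (h : n ≤ k), pre ω i (qt I h) x = 0 := by
  let y : (hdiDiagI ω I i).obj (op (op n)) := x
  have e : colimit.ι (hdiDiagI ω I i) (op (op n)) y = colimit.ι (hdiDiagI ω I i) (op (op n)) 0 :=
    Subsingleton.elim (α := Dual2.HDI A I ω i) _ _
  obtain ⟨⟨⟨k⟩⟩, f, g, hfg⟩ := Concrete.colimit_exists_of_rep_eq (hdiDiagI ω I i) _ _ e
  rw [map_zero] at hfg
  exact ⟨k, leOfHom f.unop.unop, hfg⟩

theorem exists_uniform_qt (hω : Dual.IsDualizing A ω) (I : Ideal A) {i : ℤ}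
    (h0 : Subsingleton (Dual2.HDI A I ω i)) (n : ℕ) :
    ∃ (k : ℕ) (h : n ≤ k), ∀ x : DualCx.T ω (A ⧸ I ^ n) i, pre ω i (qt I h) x = 0 := by
  classical
  haveI := finite_T hω (A ⧸ I ^ n) i
  obtain ⟨s, hs⟩ := Module.Finite.fg_top (R := A) (M := DualCx.T ω (A ⧸ I ^ n) i)
  choose k hk hk' using exists_pre_qt_eq_zero (ω := ω) I h0 n
  refine ⟨max n (s.sup k), le_max_left _ _, fun x => ?_⟩
  refine LinearMap.congr_fun (LinearMap.ext_on hs (g := 0) fun z hz => ?_) x
  have hle : k z ≤ max n (s.sup k) := (Finset.le_sup hz).trans (le_max_right _ _)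
  rw [show qt I (le_max_left n (s.sup k)) = (qt I (hk z)).comp (qt I hle) from
    Submodule.linearMap_qext _ (LinearMap.ext fun _ => rfl), pre_comp, hk' z, map_zero]
  rfl

omit [IsLocalRing A] [IsNoetherianRing A] in
theorem tmul_eq_zero_of_mem_map {B X : Type*} [CommRing B] [Algebra A B] [AddCommGroup X] [Module A X] {I : Ideal A}
    {b : B} (hb : b ∈ I.map (algebraMap A B)) {v : X} (hv : ∀ a ∈ I, a • v = 0) : b ⊗ₜ[A] v = 0 := by
  induction hb using Submodule.span_induction with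
  | mem y hy =>
    obtain ⟨a, ha, rfl⟩ := hy
    rw [Algebra.algebraMap_eq_smul_one, TensorProduct.smul_tmul, hv a ha, TensorProduct.tmul_zero]
  | zero => rw [TensorProduct.zero_tmul]
  | add y z _ _ hy hz => rw [TensorProduct.add_tmul, hy, hz, add_zero]
  | smul r y _ hy =>
    rw [smul_eq_mul, show (r * y) ⊗ₜ[A] v = (LinearMap.mulLeft A r).rTensor X (y ⊗ₜ[A] v) from rfl, hy, map_zero]

theorem mul_mem_pow_of_sup {B : Type*} [CommRing B] {J P : Ideal B} {g x : B} (hg : g ∈ J ⊔ P)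
    (hP : ∀ b ∈ P, b * x = 0) : g * x ∈ J := by
  obtain ⟨a, ha, b, hb, rfl⟩ := Submodule.mem_sup.1 hg
  rw [add_mul, hP b hb, add_zero]
  exact J.mul_mem_right _ ha

variable (hω : Dual.IsDualizing A ω) (hn : Dual.IsNormalized A ω)
include hω hn

/-- Duality in degree zero is faithful on torsion. -/
theorem torsion_map_eq_zero {M N : Type u} [AddCommGroup M] [Module A M] [Module.Finite A M] [AddCommGroup N]
    [Module A N] [Module.Finite A N] (f : M →ₗ[A] N) (h : ∀ x : DualCx.T ω N 0, pre ω 0 f x = 0) {z : M}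
    (hz : z ∈ DRing.torsionSub (maximalIdeal A) M) : f z = 0 := by
  obtain ⟨E, _, _, g₀, hg₀⟩ := InjHull.exists_isInjectiveHull A (A ⧸ maximalIdeal A)
  obtain ⟨φ, h1, h2⟩ := exists_family hω hn hg₀
  let Φ : Fam ω E := ⟨φ, h1, h2⟩
  have hmap : (localCohomology (maximalIdeal A) 0).map (ModuleCat.ofHom f) = 0 := by
    refine ModuleCat.hom_ext (LinearMap.ext fun y => (th_bijective hω hn hg₀ Φ 0 N).1 ?_)
    refine Eq.trans ?_ (map_zero _).symm
    refine LinearMap.ext fun x => (Φ.theta_map (deg 0) (ModuleCat.ofHom f) y x).trans ?_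
    rw [show pre ω (-((0 : ℕ) : ℤ)) (ModuleCat.ofHom f).hom x = 0 from h x, map_zero]
    rfl
  have hΓ : (DRing.gammaI (maximalIdeal A)).map (ModuleCat.ofHom f) = 0 := by
    rw [← cancel_epi ((LocH.zeroIso (maximalIdeal A)).hom.app _), ← (LocH.zeroIso (maximalIdeal A)).hom.naturality,
      hmap, zero_comp, comp_zero]
  exact congrArg Subtype.val (congrArg (fun φ => φ.hom (⟨z, hz⟩ : DRing.torsionSub (maximalIdeal A) M)) hΓ)

/-- No branch of the completion meets `V(I)` only in the closed point. -/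
theorem one_le_dim_branch (I : Ideal A) (hI : I ≠ ⊤) (h0 : Subsingleton (Dual2.HDI A I ω 0))
    (P : Ideal (AdicCompletion (maximalIdeal A) A)) (hP : P ∈ minimalPrimes (AdicCompletion (maximalIdeal A) A)) :
    1 ≤ ringKrullDim (AdicCompletion (maximalIdeal A) A ⧸
      (I.map (algebraMap A (AdicCompletion (maximalIdeal A) A)) ⊔ P)) := by
  classical
  let B := AdicCompletion (maximalIdeal A) A
  haveI : P.IsPrime := Ideal.minimalPrimes_isPrime hP
  let J := I.map (algebraMap A B)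
  have hIm : I ≤ maximalIdeal A := le_maximalIdeal hI
  have hJm : J ≤ maximalIdeal B := by
    rw [AdicCompletion.maximalIdeal_eq_map]
    exact Ideal.map_mono hIm
  have hK : J ⊔ P ≠ ⊤ :=
    ne_top_of_le_ne_top (maximalIdeal.isMaximal B).ne_top (sup_le hJm (le_maximalIdeal ‹P.IsPrime›.ne_top))
  obtain ⟨δ, hδ⟩ := HLVT.exists_dim_quot hK
  rcases Nat.eq_zero_or_pos δ with hd | hd
  swap
  · rw [hδ]
    exact_mod_cast hd
  exfalso
  subst hd
  obtain ⟨c, hc⟩ := Ideal.exists_radical_pow_le_of_fg (J ⊔ P) (IsNoetherian.noetherian _)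
  rw [HLVT.radical_eq_maximalIdeal hK hδ.le] at hc
  have hass : P ∈ associatedPrimes B B := by
    refine Module.associatedPrimes.minimalPrimes_annihilator_subset_associatedPrimes B B ?_
    rw [Module.annihilator_eq_bot.2 inferInstance]
    exact hP
  obtain ⟨-, x, hx⟩ := isAssociatedPrime_iff.1 hass
  have hPx : ∀ b ∈ P, b * x = 0 := fun b hb => by
    rw [hx, Submodule.mem_colon_singleton, Submodule.mem_bot] at hb
    exact hb
  have hxJ : ∀ n : ℕ, x ∈ J ^ n := by
    intro n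
    obtain ⟨k, hk, hk'⟩ := exists_uniform_qt hω I h0 n
    obtain ⟨G, hG⟩ := IsNoetherian.noetherian (maximalIdeal A ^ (c * (k + 1)))
    let f : (A ⧸ I ^ k) →ₗ[A] (G → A ⧸ I ^ k) := LinearMap.pi fun g => LinearMap.lsmul A _ (g : A)
    have hf0 : f.lTensor B (x ⊗ₜ[A] (Ideal.Quotient.mk (I ^ k) 1 : A ⧸ I ^ k)) = 0 := by
      rw [LinearMap.lTensor_tmul, ← Finset.univ_sum_single (f (Ideal.Quotient.mk (I ^ k) 1)), TensorProduct.tmul_sum]
      refine Finset.sum_eq_zero fun g _ => ?_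
      show x ⊗ₜ[A] (Pi.single g ((g : A) • (Ideal.Quotient.mk (I ^ k) 1 : A ⧸ I ^ k)) : G → A ⧸ I ^ k) = 0
      rw [Pi.single_smul, ← TensorProduct.smul_tmul]
      have hgx : (g : A) • x ∈ J ^ k := by
        have hgm : algebraMap A B g ∈ J ^ k ⊔ P := by
          refine (Ideal.sup_pow_add_le_pow_sup_pow (n := k) (m := 1)).trans (sup_le_sup le_rfl (pow_one P).le) ?_
          refine Ideal.pow_right_mono hc (k + 1) ?_
          rw [← pow_mul, AdicCompletion.maximalIdeal_eq_map, ← Ideal.map_pow]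
          exact Ideal.mem_map_of_mem _ (hG ▸ Ideal.subset_span g.2)
        rw [Algebra.smul_def]
        exact mul_mem_pow_of_sup hgm hPx
      rw [show J ^ k = (I ^ k).map (algebraMap A B) from (Ideal.map_pow _ _ _).symm] at hgx
      exact tmul_eq_zero_of_mem_map hgx fun a ha => by
        rw [← Pi.single_smul, Algebra.smul_def, Ideal.Quotient.algebraMap_eq, ← map_mul, mul_one,
          Ideal.Quotient.eq_zero_iff_mem.2 ha, Pi.single_zero]
    obtain ⟨w, hw⟩ := ((Module.Flat.lTensor_exact B (f.exact_subtype_ker_map)) _).1 hf0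
    have hz : (qt I hk).comp (LinearMap.ker f).subtype = 0 := by
      refine LinearMap.ext fun z => torsion_map_eq_zero hω hn (qt I hk) hk' ⟨c * (k + 1), fun a ha => ?_⟩
      rw [← hG] at ha
      induction ha using Submodule.span_induction with
      | mem a ha => exact congrFun z.2 ⟨a, ha⟩
      | zero => exact zero_smul _ _
      | add a b _ _ ha hb => rw [add_smul, ha, hb, add_zero]
      | smul r a _ ha => rw [smul_assoc, ha, smul_zero]
    have h1 : (qt I hk).lTensor B (x ⊗ₜ[A] (Ideal.Quotient.mk (I ^ k) 1 : A ⧸ I ^ k)) = 0 := by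
      rw [← hw, ← LinearMap.comp_apply, ← LinearMap.lTensor_comp, hz, LinearMap.lTensor_zero, LinearMap.zero_apply]
    rw [LinearMap.lTensor_tmul] at h1
    have h2 := congrArg (TensorProduct.tensorQuotEquivQuotSMul B (I ^ n)) h1
    change TensorProduct.tensorQuotEquivQuotSMul B (I ^ n) (x ⊗ₜ[A] Ideal.Quotient.mk (I ^ n) 1) = _ at h2
    rw [TensorProduct.tensorQuotEquivQuotSMul_tmul_mk, one_smul, map_zero, Submodule.Quotient.mk_eq_zero,
      Ideal.smul_top_eq_map, Ideal.map_pow] at h2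
    exact h2
  have hx0 : x = 0 := by
    have hJ : J ≠ ⊤ := ne_top_of_le_ne_top (maximalIdeal.isMaximal B).ne_top hJm
    have := (Ideal.mem_iInf.2 hxJ : x ∈ ⨅ n : ℕ, J ^ n)
    rw [Ideal.iInf_pow_eq_bot_of_isLocalRing J hJ] at this
    exact (Submodule.mem_bot B).1 this
  refine (inferInstance : P.IsPrime).ne_top ((Ideal.eq_top_iff_one P).2 ?_)
  rw [hx, Submodule.mem_colon_singleton, hx0, smul_zero]
  exact Submodule.zero_mem _

end

end Groth.Agent.HTLib
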