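import Groth.Agent.HTLib.CompKill
import Groth.Agent.RGCompl.BaseChange

/-!
Maps from `RΓ_I A` into Matlis duals of finite modules.
-/

set_option autoImplicit false
set_option linter.style.haveILetI false
set_option backward.isDefEq.respectTransparency false
set_option backward.isDefEq.respectTransparency.types false
universe u

namespace Groth.Agent.HTLib.CompDual

open CategoryTheory CategoryTheory.Limits Pretriangulated RGammaI
open scoped TensorProduct

attribute [local instance] HasDerivedCategory.standard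

noncomputable section

variable {A : Type u} [CommRing A] (E : Type u) [AddCommGroup E] [Module A E]

/-- the dual in degree `k` -/
abbrev dualAt (N : Type u) [AddCommGroup N] [Module A N] (k : ℤ) : Dual.D A :=
  (Dual.inD A (N →ₗ[A] E))⟦-k⟧

theorem exact_of_homology {P : Ideal A} (X : DRing.Cx A) (k : ℤ)
    (h : IsZero ((((RGammaI.ext₀ A (A ⧸ P)).mapHomologicalComplex (ComplexShape.up ℤ)).obj X).homology k))
    (x : X.X k) (hx : X.d k (k + 1) x ∈ P • (⊤ : Submodule A (X.X (k + 1)))) :
    ∃ z : X.X (k - 1), x - X.d (k - 1) k z ∈ P • (⊤ : Submodule A (X.X k)) := by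
  let e := fun j => RGammaI.extEquiv.{u} (A := A) (B := A ⧸ P) (X.X j)
  let q := fun j => TensorProduct.quotTensorEquivQuotSMul (X.X j) P
  have hq : ∀ j (y : X.X j), q j ((1 : A ⧸ P) ⊗ₜ[A] y) = Submodule.Quotient.mk y := fun j y => by
    have := TensorProduct.quotTensorEquivQuotSMul_mk_tmul P (1 : A) y
    rw [map_one, one_smul] at this
    exact this
  rw [← HomologicalComplex.exactAt_iff_isZero_homology,
    HomologicalComplex.exactAt_iff' _ (k - 1) k (k + 1) (by simp) (by simp),
    ShortComplex.moduleCat_exact_iff] at h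
  obtain ⟨w, hw⟩ := h ((e k).symm (1 ⊗ₜ[A] x)) ((e (k + 1)).injective (by
    change e (k + 1) ((RGammaI.ext₀ A (A ⧸ P)).map (X.d k (k + 1)) ((e k).symm ((1 : A ⧸ P) ⊗ₜ[A] x))) = _
    rw [RGammaI.extEquiv_map, LinearEquiv.apply_symm_apply, LinearMap.baseChange_tmul, map_zero]
    refine (q (k + 1)).injective ?_
    rw [hq, map_zero, Submodule.Quotient.mk_eq_zero]
    exact hx))
  obtain ⟨z, hz⟩ := Submodule.Quotient.mk_surjective _ (q (k - 1) (e (k - 1) w))
  refine ⟨z, (Submodule.Quotient.eq _).1 ?_⟩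
  have h1 := congrArg (e k) hw
  change e k ((RGammaI.ext₀ A (A ⧸ P)).map (X.d (k - 1) k) w) = e k ((e k).symm ((1 : A ⧸ P) ⊗ₜ[A] x)) at h1
  rw [RGammaI.extEquiv_map, LinearEquiv.apply_symm_apply] at h1
  have h2 : e (k - 1) w = (1 : A ⧸ P) ⊗ₜ[A] z := (q (k - 1)).injective (by rw [hq, hz])
  rw [h2, LinearMap.baseChange_tmul] at h1
  rw [← hq k x, ← h1, hq]

variable [IsNoetherianRing A] [Module.Injective A E] (I : Ideal A) [DRing.HasRgammaI I]

theorem subsingleton_hom_cyclic (P : Ideal A) (k : ℤ)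
    (h : k < 0 ∨ Subsingleton (LocCoh.H (I.map (Ideal.Quotient.mk P)) k.toNat (A ⧸ P))) :
    Subsingleton ((DRing.RgammaI I).obj (Dual.inD A A) ⟶ dualAt E (A ⧸ P) k) := by
  obtain ⟨t, rfl⟩ := IsNoetherian.noetherian I
  obtain ⟨fs, hfs⟩ : ∃ fs : List A, Submodule.span A (t : Set A) = Ideal.span {a | a ∈ fs} :=
    ⟨t.toList, by simp [Finset.coe_toList]⟩
  revert h ‹DRing.HasRgammaI (Submodule.span A (t : Set A))›
  rw [hfs]
  intro _ h
  classical
  let φ := algebraMap A (A ⧸ P)
  haveI : DRing.HasLBaseChange φ := DRingKP.hasLBaseChange φ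
  haveI := RGammaI.hasRgammaI (Ideal.span {a | a ∈ fs.map φ})
  obtain ⟨E₁⟩ := RGCompl.nonempty_LBaseChange_RΓ (A ⧸ P) fs
  have hcd : LocCoh.CdLE A (Ideal.span {a | a ∈ fs}) fs.toFinset.card := by
    have := Groth.Agent.LocH.cdLE_card fs.toFinset
    rwa [List.coe_toFinset] at this
  haveI hle := CompKill.isLE_rgamma (Ideal.span {a | a ∈ fs}) A hcd
  obtain ⟨X, b, hb, hX, ⟨e⟩⟩ := DRingKP.exists_proj_rep_le
    ((DRing.RgammaI (Ideal.span {a | a ∈ fs})).obj (Dual.inD A A))
    ⟨(fs.toFinset.card : ℤ) + 1, fun i hi => DerivedCategory.isZero_of_isLE _ (fs.toFinset.card : ℤ) i (by lia)⟩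
  haveI := DRingKP.isKProjective_of_vanishesAbove hb hX
  have hbc : IsZero (((DRingKP.bc φ).obj X).homology k) := by
    have e' : DRing.toD ((DRingKP.bc φ).obj X) ≅
        (DRing.RgammaI (Ideal.span {a | a ∈ fs.map φ})).obj (Dual.inD (A ⧸ P) (A ⧸ P)) :=
      (DRingKP.lBaseChangeIso φ X).symm ≪≫ (DRing.LBaseChange φ).mapIso e ≪≫ E₁
    refine IsZero.of_iso ?_ (((DerivedCategory.homologyFunctorFactors (ModuleCat.{u} (A ⧸ P)) k).app _).symm ≪≫
      (DerivedCategory.homologyFunctor (ModuleCat.{u} (A ⧸ P)) k).mapIso e')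
    rcases lt_or_ge k 0 with hk | hk
    · haveI := CompKill.isGE_rgamma (Ideal.span {a | a ∈ fs.map φ}) (A ⧸ P)
      exact DerivedCategory.isZero_of_isGE _ 0 k hk
    · obtain ⟨n, rfl⟩ := Int.eq_ofNat_of_zero_le hk
      have hH := h.resolve_left (by lia)
      rw [Int.toNat_natCast, Ideal.map_span] at hH
      haveI := hH
      obtain ⟨eH⟩ := CompKill.nonempty_HD_H_equiv (Ideal.span {a | a ∈ fs.map φ}) (A ⧸ P) n
      haveI : Subsingleton (LocCoh.H (Ideal.span {a | a ∈ fs.map φ}) n (A ⧸ P)) := by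
        have he : {a | a ∈ fs.map φ} = Ideal.Quotient.mk P '' {a | a ∈ fs} := by
          ext; simp [φ]
        rwa [he]
      haveI := eH.toEquiv.subsingleton
      exact ModuleCat.isZero_of_subsingleton _
  refine subsingleton_of_forall_eq 0 fun w => ?_
  let W : ModuleCat.{u} A := ModuleCat.of A ((A ⧸ P) →ₗ[A] E)
  let eW : dualAt E (A ⧸ P) k ≅ DRing.toD ((HomologicalComplex.single (ModuleCat.{u} A) (ComplexShape.up ℤ) k).obj W) :=
    ((DerivedCategory.singleFunctors (ModuleCat.{u} A)).shiftIso (-k) k 0 (neg_add_cancel k)).app W ≪≫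
      (DerivedCategory.singleFunctorIsoCompQ (ModuleCat.{u} A) k).app W
  obtain ⟨f, hf⟩ := PerfLocal.exists_lift (e.hom ≫ w ≫ eW.hom)
  suffices h0 : DerivedCategory.Q.map f = 0 by
    have h1 : e.hom ≫ w ≫ eW.hom = 0 := hf.symm.trans h0
    rw [← cancel_mono eW.hom, ← cancel_epi e.hom, h1, zero_comp, comp_zero]
  let v : X.X k ⟶ W := f.f k ≫ (HomologicalComplex.singleObjXSelf (ComplexShape.up ℤ) k W).hom
  have hv : X.d (k - 1) k ≫ v = 0 := by
    rw [← Category.assoc, ← f.comm, (HomologicalComplex.isZero_single_obj_X (ComplexShape.up ℤ) k W (k - 1)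
      (by lia)).eq_of_tgt (f.f (k - 1)) 0, zero_comp, zero_comp]
  let ψ : X.X k →ₗ[A] E := (LinearMap.applyₗ (1 : A ⧸ P)).comp v.hom
  let D : X.X k →ₗ[A] X.X (k + 1) ⧸ (P • (⊤ : Submodule A (X.X (k + 1)))) :=
    (Submodule.mkQ _).comp (X.d k (k + 1)).hom
  have hker : LinearMap.ker D ≤ LinearMap.ker ψ := fun x hx => by
    obtain ⟨z, hz⟩ := exact_of_homology X k hbc x ((Submodule.Quotient.mk_eq_zero _).1 hx)
    have h1 : ψ (x - X.d (k - 1) k z) = 0 := by
      refine Submodule.smul_induction_on hz (fun r hr y _ => ?_) fun y y' hy hy' => by rw [map_add, hy, hy', add_zero]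
      change (v.hom (r • y)) 1 = 0
      rw [map_smul, LinearMap.smul_apply, ← LinearMap.map_smul, Algebra.smul_def, mul_one,
        show algebraMap A (A ⧸ P) r = 0 from Ideal.Quotient.eq_zero_iff_mem.2 hr, map_zero]
    have h2 : v (X.d (k - 1) k z) = 0 := congr($(hv).hom z)
    rw [map_sub, sub_eq_zero] at h1
    rw [LinearMap.mem_ker, h1]
    change (v (X.d (k - 1) k z)) (1 : A ⧸ P) = 0
    rw [h2, LinearMap.zero_apply]
  obtain ⟨χ, hχ⟩ : ∃ χ : (X.X (k + 1) ⧸ (P • (⊤ : Submodule A (X.X (k + 1))))) →ₗ[A] E, χ.comp D = ψ := by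
    let ψ' : LinearMap.range D →ₗ[A] E := ((LinearMap.ker D).liftQ ψ hker).comp D.quotKerEquivRange.symm.toLinearMap
    obtain ⟨χ, hχ⟩ := Module.Injective.out (LinearMap.range D).subtype (Submodule.injective_subtype _) ψ'
    refine ⟨χ, LinearMap.ext fun x => ?_⟩
    have := hχ ⟨D x, LinearMap.mem_range_self D x⟩
    simp only [ψ', LinearMap.comp_apply, LinearEquiv.coe_coe] at this
    rw [LinearMap.quotKerEquivRange_symm_apply_image D x, Submodule.mkQ_apply, Submodule.liftQ_apply] at this
    exact this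
  let η : X.X (k + 1) ⟶ W := ModuleCat.ofHom
    { toFun := fun y => P.liftQ (LinearMap.toSpanSingleton A E (χ (Submodule.Quotient.mk y))) fun r hr => by
        change r • χ (Submodule.Quotient.mk y) = 0
        rw [← map_smul, ← Submodule.Quotient.mk_smul,
          (Submodule.Quotient.mk_eq_zero _).2 (Submodule.smul_mem_smul hr (Submodule.mem_top)), map_zero]
      map_add' := fun y y' => Submodule.linearMap_qext _ (LinearMap.ext_ring (by
        change (1 : A) • χ (Submodule.Quotient.mk (y + y')) = (1 : A) • χ (Submodule.Quotient.mk y) +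
          (1 : A) • χ (Submodule.Quotient.mk y')
        rw [Submodule.Quotient.mk_add, map_add, smul_add]))
      map_smul' := fun c y => Submodule.linearMap_qext _ (LinearMap.ext_ring (by
        change (1 : A) • χ (Submodule.Quotient.mk (c • y)) = c • (1 : A) • χ (Submodule.Quotient.mk y)
        rw [Submodule.Quotient.mk_smul, map_smul, smul_comm])) }
  have hη : X.d k (k + 1) ≫ η = v := ModuleCat.hom_ext (LinearMap.ext fun x =>
    Submodule.linearMap_qext _ (LinearMap.ext_ring (by
      change (1 : A) • χ (D x) = (v x) (1 : A ⧸ P)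
      rw [one_smul, ← LinearMap.comp_apply, hχ]
      rfl)))
  let S := (HomologicalComplex.single (ModuleCat.{u} A) (ComplexShape.up ℤ) k).obj W
  let hh : ∀ i j, (ComplexShape.up ℤ).Rel j i → (X.X i ⟶ S.X j) := fun i j hij =>
    if hj : j = k then
      eqToHom (congrArg X.X (show i = k + 1 by
        have : j + 1 = i := hij
        lia)) ≫ η ≫ (HomologicalComplex.singleObjXSelf (ComplexShape.up ℤ) k W).inv ≫ eqToHom (by rw [hj])
    else 0
  have hf0 : f = Homotopy.nullHomotopicMap' hh := by
    apply HomologicalComplex.to_single_hom_ext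
    rw [Homotopy.nullHomotopicMap'_f (k₂ := k - 1) (k₁ := k) (k₀ := k + 1) (by simp) (by simp),
      (HomologicalComplex.isZero_single_obj_X (ComplexShape.up ℤ) k W (k - 1) (by lia)).eq_of_src (S.d (k - 1) k) 0,
      comp_zero, add_zero]
    simp only [hh, dif_pos]
    rw [eqToHom_refl, eqToHom_refl, Category.id_comp, Category.comp_id, ← Category.assoc, hη]
    simp [v]
  rw [hf0]
  exact (DerivedCategory.Q_map_eq_of_homotopy _ (Homotopy.nullHomotopy' hh)).trans (DerivedCategory.Q.map_zero _ _)

/-- an element outside `p` killing maps into the dual -/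
theorem exists_killer (p : PrimeSpectrum A) (k : ℤ) (N : Type u) [AddCommGroup N] [Module A N] [Module.Finite A N]
    (h : ∀ P : PrimeSpectrum A, P ≤ p → P ∈ Module.support A N →
      k < 0 ∨ Subsingleton (LocCoh.H (I.map (Ideal.Quotient.mk P.asIdeal)) k.toNat (A ⧸ P.asIdeal))) :
    ∃ f : A, f ∉ p.asIdeal ∧ ∀ w : (DRing.RgammaI I).obj (Dual.inD A A) ⟶ dualAt E N k, f • w = 0 := by
  revert h
  induction (inferInstance : Module.Finite A N) using IsNoetherianRing.induction_on_isQuotientEquivQuotientPrime A with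
  | subsingleton N =>
    intro _
    refine ⟨1, p.asIdeal.one_notMem, fun w => ?_⟩
    haveI : Subsingleton (N →ₗ[A] E) := ⟨fun f g => LinearMap.ext fun x => by
      rw [Subsingleton.elim x 0, map_zero, map_zero]⟩
    rw [one_smul]
    exact (Functor.map_isZero (shiftFunctor (Dual.D A) (-k))
      (Functor.map_isZero _ (ModuleCat.isZero_of_subsingleton (ModuleCat.of A (N →ₗ[A] E))))).eq_of_tgt _ _
  | quotient N P e =>
    intro h
    by_cases hP : P.asIdeal ≤ p.asIdeal
    · haveI := subsingleton_hom_cyclic E I P.asIdeal k (h P hP (by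
        rw [e.support_eq]
        exact LocH.mem_support_quotient_iff.2 le_rfl))
      let g : dualAt E N k ≅ dualAt E (A ⧸ P.asIdeal) k := (shiftFunctor (Dual.D A) (-k)).mapIso
        ((DerivedCategory.singleFunctor (ModuleCat.{u} A) 0).mapIso
          (LinearEquiv.congrLeft E A e).toModuleIso)
      exact ⟨1, p.asIdeal.one_notMem, fun w => by
        rw [one_smul, ← cancel_mono g.hom, zero_comp]
        exact Subsingleton.elim _ _⟩
    · obtain ⟨c, hc, hcp⟩ := SetLike.not_le_iff_exists.1 hP
      refine ⟨c, hcp, fun w => ?_⟩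
      have h0 : c • 𝟙 (ModuleCat.of A (N →ₗ[A] E)) = 0 := ModuleCat.hom_ext (LinearMap.ext fun φ =>
        LinearMap.ext fun x => by
          change c • φ x = 0
          have hx : c • x = 0 := e.injective (by
            obtain ⟨a, ha⟩ := Ideal.Quotient.mk_surjective (e x)
            rw [map_smul, map_zero, ← ha, Algebra.smul_def, Ideal.Quotient.algebraMap_eq, ← map_mul,
              Ideal.Quotient.eq_zero_iff_mem]
            exact Ideal.mul_mem_right a _ hc)
          rw [← map_smul, hx, map_zero])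
      rw [← Category.comp_id w, ← Linear.comp_smul,
        ← (shiftFunctor (Dual.D A) (-k)).map_id (Dual.inD A (N →ₗ[A] E)), ← Functor.map_smul,
        ← (DerivedCategory.singleFunctor (ModuleCat.{u} A) 0).map_id (ModuleCat.of A (N →ₗ[A] E)),
        ← Functor.map_smul, h0, Functor.map_zero, Functor.map_zero, comp_zero]
  | exact N₁ N₂ N₃ f g hf hg hfg h1 h3 =>
    intro h
    obtain ⟨c₁, hc₁, hk₁⟩ := h1 fun P hP hs => h P hP (Module.support_subset_of_injective f hf hs)
    obtain ⟨c₃, hc₃, hk₃⟩ := h3 fun P hP hs => h P hP (Module.support_subset_of_surjective g hg hs)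
    refine ⟨c₃ * c₁, fun hm => (p.isPrime.mem_or_mem hm).elim hc₃ hc₁, fun w => ?_⟩
    let S : ShortComplex (ModuleCat.{u} A) := ShortComplex.mk (ModuleCat.ofHom (LinearMap.lcomp A E g))
      (ModuleCat.ofHom (LinearMap.lcomp A E f))
      (ModuleCat.hom_ext (LinearMap.ext fun φ => LinearMap.ext fun x => by
        change φ (g (f x)) = 0
        rw [hfg.apply_apply_eq_zero, map_zero]))
    have hS : S.ShortExact :=
      { exact := by
          rw [ShortComplex.moduleCat_exact_iff]
          intro φ hφ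
          have hle : LinearMap.ker g ≤ LinearMap.ker φ := fun x hx => by
            obtain ⟨y, rfl⟩ := (hfg x).1 hx
            exact LinearMap.congr_fun hφ y
          refine ⟨((LinearMap.ker g).liftQ φ hle).comp (g.quotKerEquivOfSurjective hg).symm.toLinearMap,
            LinearMap.ext fun x => ?_⟩
          change (LinearMap.ker g).liftQ φ hle ((g.quotKerEquivOfSurjective hg).symm (g x)) = φ x
          rw [show g x = g.quotKerEquivOfSurjective hg (Submodule.Quotient.mk x) from rfl, LinearEquiv.symm_apply_apply]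
          rfl
        mono_f := (ModuleCat.mono_iff_injective _).2 fun φ φ' hφ => LinearMap.ext fun x => by
          obtain ⟨y, rfl⟩ := hg x
          exact LinearMap.congr_fun hφ y
        epi_g := (ModuleCat.epi_iff_surjective _).2 fun φ => by
          obtain ⟨φ', hφ'⟩ := Module.Injective.out f hf φ
          exact ⟨φ', LinearMap.ext hφ'⟩ }
    obtain ⟨y, hy⟩ := Triangle.coyoneda_exact₂ _ (Triangle.shift_distinguished _ hS.singleTriangle_distinguished (-k))
      (c₁ • w) (by
        refine (Linear.smul_comp _ _ _ _ _ _).trans ?_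
        exact hk₁ _)
    rw [mul_smul, hy]
    exact (Linear.smul_comp _ _ _ _ _ _).symm.trans (by erw [hk₃ y, zero_comp])

end

end Groth.Agent.HTLib.CompDual
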