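import Groth.Agent.S0332
import Groth.Agent.CanonDual.Formal
import Groth.Agent.HLVT.Spec
import Mathlib

/-!
Vanishing of top local cohomology for a domain complete along `I` which is not primary to the maximal ideal.
-/

set_option autoImplicit false
universe u

namespace Groth.Agent.HTLib

open IsLocalRing

theorem subsingleton_H_top {B : Type u} [CommRing B] [IsDomain B] [IsNoetherianRing B] [IsLocalRing B] (I : Ideal B)
    [IsAdicComplete I B] {e : ℕ} (he : ringKrullDim B = e) (r : PrimeSpectrum B) (hIr : I ≤ r.asIdeal)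
    (hr : r.asIdeal ≠ maximalIdeal B) : Subsingleton (LocCoh.H I e B) := by
  refine Groth.Agent.S0332.result B I e he (fun P hP hPe => ?_) B e le_rfl
  let Bh := AdicCompletion (maximalIdeal B) B
  haveI : P.IsPrime := Ideal.minimalPrimes_isPrime hP
  have hIm : I ≤ maximalIdeal B := hIr.trans (le_maximalIdeal r.isPrime.ne_top)
  have hK : I.map (algebraMap B Bh) ⊔ P ≠ ⊤ := by
    refine ne_top_of_le_ne_top (maximalIdeal.isMaximal Bh).ne_top (sup_le ?_ (le_maximalIdeal ‹P.IsPrime›.ne_top))
    rw [AdicCompletion.maximalIdeal_eq_map]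
    exact Ideal.map_mono hIm
  obtain ⟨δ, hδ⟩ := HLVT.exists_dim_quot hK
  rcases Nat.eq_zero_or_pos δ with h0 | h0
  swap
  · rw [hδ]
    exact_mod_cast h0
  exfalso
  subst h0
  have hrad := HLVT.radical_eq_maximalIdeal hK hδ.le
  obtain ⟨N, hN⟩ := Ideal.exists_radical_pow_le_of_fg (I.map (algebraMap B Bh) ⊔ P) (IsNoetherian.noetherian _)
  rw [hrad] at hN
  let f : B →+* Bh ⧸ P := (Ideal.Quotient.mk P).comp (algebraMap B Bh)
  have hmap : I.map f = (I.map (algebraMap B Bh)).map (Ideal.Quotient.mk P) := (Ideal.map_map _ _).symm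
  haveI : IsLocalRing (Bh ⧸ P) := IsLocalRing.of_surjective' _ Ideal.Quotient.mk_surjective
  haveI : IsHausdorff (I.map f) (Bh ⧸ P) := by
    have hle : I.map f ≤ maximalIdeal (Bh ⧸ P) := by
      refine le_maximalIdeal fun htop => hK ?_
      rw [hmap] at htop
      have := congrArg (Ideal.comap (Ideal.Quotient.mk P)) htop
      rwa [Ideal.comap_map_of_surjective _ Ideal.Quotient.mk_surjective, Ideal.comap_top, ← RingHom.ker_eq_comap_bot,
        Ideal.mk_ker] at this
    exact ⟨fun x hx => IsHausdorff.haus (inferInstance : IsHausdorff (maximalIdeal (Bh ⧸ P)) (Bh ⧸ P)) x fun n =>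
      (hx n).mono (Submodule.smul_mono (Ideal.pow_right_mono hle n) le_rfl)⟩
  have hsurj : Function.Surjective f := by
    refine surjective_of_mk_map_comp_surjective (I := I) f fun y => ?_
    obtain ⟨y, rfl⟩ := Ideal.Quotient.mk_surjective y
    obtain ⟨b, rfl⟩ := Ideal.Quotient.mk_surjective y
    obtain ⟨a, ha⟩ := CanonDual.completion_approx (maximalIdeal B) b N
    refine ⟨a, Ideal.Quotient.eq.2 ?_⟩
    rw [hmap]
    rw [Ideal.map_pow, ← AdicCompletion.maximalIdeal_eq_map] at ha
    have h1 : b - algebraMap B Bh a ∈ I.map (algebraMap B Bh) ⊔ P := hN ha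
    have h2 : Ideal.Quotient.mk P (b - algebraMap B Bh a) ∈ (I.map (algebraMap B Bh)).map (Ideal.Quotient.mk P) := by
      have := Ideal.mem_map_of_mem (Ideal.Quotient.mk P) h1
      rwa [Ideal.map_sup, Ideal.map_quotient_self, sup_bot_eq] at this
    have h3 := Ideal.neg_mem_iff _ |>.2 h2
    rwa [← map_neg, neg_sub, map_sub] at h3
  have hinj : Function.Injective f := by
    refine (injective_iff_map_eq_zero f).2 fun x hx => by_contra fun hx0 => ?_
    have h1 := ringKrullDim_quotient_succ_le_of_nonZeroDivisor (mem_nonZeroDivisors_of_ne_zero hx0)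
    have h2 : ringKrullDim (Bh ⧸ P) ≤ ringKrullDim (B ⧸ Ideal.span {x}) :=
      ringKrullDim_le_of_surjective (Ideal.Quotient.lift (Ideal.span {x}) f fun z hz => by
        obtain ⟨c, rfl⟩ := Ideal.mem_span_singleton'.1 hz
        rw [map_mul, hx, mul_zero]) (fun y => by
          obtain ⟨z, rfl⟩ := hsurj y
          exact ⟨Ideal.Quotient.mk _ z, rfl⟩)
    rw [hPe] at h2
    have h3 := (add_le_add h2 le_rfl).trans h1
    rw [he] at h3
    have : e + 1 ≤ e := by exact_mod_cast h3
    omega
  have hrad2 : maximalIdeal B ≤ I.radical := fun x hx => by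
    have hx' : algebraMap B Bh x ∈ (I.map (algebraMap B Bh) ⊔ P).radical := by
      rw [hrad, AdicCompletion.maximalIdeal_eq_map]
      exact Ideal.mem_map_of_mem _ hx
    obtain ⟨n, hn⟩ := hx'
    refine ⟨n, ?_⟩
    have h4 := Ideal.mem_map_of_mem (Ideal.Quotient.mk P) hn
    rw [Ideal.map_sup, Ideal.map_quotient_self, sup_bot_eq, ← hmap] at h4
    obtain ⟨z, hz, hzx⟩ := (Ideal.mem_map_iff_of_surjective f hsurj).1 h4
    rw [← map_pow] at hzx
    rwa [← hinj hzx]
  exact hr (le_antisymm (le_maximalIdeal r.isPrime.ne_top)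
    (hrad2.trans (r.isPrime.isRadical.radical_le_iff.2 hIr)))

end Groth.Agent.HTLib
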