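import Groth.Agent.HTLib.CompTors
import Groth.Agent.HTLib.CompDual
import Groth.Agent.HTLib.HlvtComplete
import Groth.Agent.HTLib.Boot
import Groth.Agent.FinAdic.Basic
import Groth.Agent.DualCx.GorCriterion
import Groth.Agent.DualCx.Regular
import Groth.Agent.DualCx.Local
import Groth.Agent.RGCompl.Completion
import Groth.Agent.DRingKP.DCAlg
import Groth.Agent.DRingKP.DCTele
import Groth.Agent.InjHull.Basic

/-!
Local cohomology and derived completion over a complete local ring: the bootstrap.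
-/

set_option autoImplicit false
set_option linter.style.haveILetI false
set_option maxHeartbeats 1000000
set_option backward.isDefEq.respectTransparency false
set_option backward.isDefEq.respectTransparency.types false
universe u

namespace Groth.Agent.HTLib.CompBoot

open CategoryTheory CategoryTheory.Limits Pretriangulated RGammaI IsLocalRing Groth.Agent.DualCx

attribute [local instance] HasDerivedCategory.standard

noncomputable section

variable {A : Type u} [CommRing A]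

theorem complete_third {I : Ideal A} {X Y Z : Dual.D A} {f : X ⟶ Y} {g : Y ⟶ Z} {h : Z ⟶ X⟦(1 : ℤ)⟧}
    (hT : Triangle.mk f g h ∈ distTriang (Dual.D A)) (hX : DRing.IsDerivedComplete I X)
    (hY : DRing.IsDerivedComplete I Y) : DRing.IsDerivedComplete I Z := fun a ha n =>
  subsingleton_of_forall_eq 0 fun v => by
    obtain ⟨y, hy⟩ := Triangle.coyoneda_exact₃ _ (Triangle.shift_distinguished _ hT n) v
      (by
        haveI := hX a ha (n + 1)
        haveI : Subsingleton (Dual.inD A (Localization.Away a) ⟶ X⟦n⟧⟦(1 : ℤ)⟧) :=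
          Equiv.subsingleton (Iso.homCongr (Iso.refl _) ((shiftFunctorAdd' (Dual.D A) n 1 (n + 1) rfl).app X)).symm
        exact Subsingleton.elim (α := Dual.inD A (Localization.Away a) ⟶ X⟦n⟧⟦(1 : ℤ)⟧) _ _)
    rw [hy, show y = 0 from @Subsingleton.elim _ (hY a ha n) _ _]
    exact zero_comp

variable [IsNoetherianRing A]

/-- truncation induction with pure pieces in shifted form -/
theorem pow_smul_hom_eq_zero (f : A) {C : Dual.D A} (d : ℤ) [C.IsLE d] : ∀ (k : ℕ) (a : ℤ) (L : Dual.D A),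
    L.IsGE a → d + 1 ≤ a + k →
      (∀ j : ℤ, a ≤ j → j ≤ d → ∀ w : C ⟶ (Dual.inD A (Dual.HD A L j))⟦-j⟧, f • w = 0) →
      ∀ x : C ⟶ L, f ^ k • x = 0
  | 0, a, L, hL, hk, _, x => by
    haveI := hL
    rw [show x = 0 from DerivedCategory.TStructure.t.zero x d a (by push_cast at hk; lia), smul_zero]
  | k + 1, a, L, hL, hk, hf, x => by
    haveI := hL
    by_cases ha : d < a
    · rw [show x = 0 from DerivedCategory.TStructure.t.zero x d a ha, smul_zero]
    rw [not_lt] at ha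
    obtain ⟨X, B, hX, hB, u, g, h, hT⟩ :=
      (DerivedCategory.TStructure.t (C := ModuleCat.{u} A)).exists_triangle L a (a + 1) rfl
    haveI : X.IsLE a := ⟨hX⟩
    haveI : B.IsGE (a + 1) := ⟨hB⟩
    haveI : X.IsGE a := (DerivedCategory.isGE_iff X a).2 fun i hi =>
      (DerivedCategory.HomologySequence.exact₁ _ hT (i - 1) i (by lia)).isZero_of_both_zeros
        ((DerivedCategory.isZero_of_isGE B (a + 1) (i - 1) (by lia)).eq_of_src _ _)
        ((DerivedCategory.isZero_of_isGE L a i hi).eq_of_tgt _ _)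
    haveI : Mono ((hF A a).map u) := (DerivedCategory.HomologySequence.mono_homologyMap_mor₁_iff _ hT (a - 1) a (by lia)).2
      ((DerivedCategory.isZero_of_isGE B (a + 1) (a - 1) (by lia)).eq_of_src _ _)
    haveI : Epi ((hF A a).map u) := (DerivedCategory.HomologySequence.epi_homologyMap_mor₁_iff _ hT a).2
      ((DerivedCategory.isZero_of_isGE B (a + 1) a (by lia)).eq_of_tgt _ _)
    haveI := isIso_of_mono_of_epi ((hF A a).map u)
    obtain ⟨Y, ⟨eY⟩⟩ := DerivedCategory.exists_iso_singleFunctor_obj_of_isGE_of_isLE X a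
    let eH : Y ≅ (hF A a).obj L := ((DerivedCategory.singleFunctorCompHomologyFunctorIso (ModuleCat.{u} A) a).app Y).symm ≪≫
      ((hF A a).mapIso eY).symm ≪≫ asIso ((hF A a).map u)
    let eX : X ≅ (Dual.inD A (Dual.HD A L a))⟦-a⟧ := eY ≪≫ (DerivedCategory.singleFunctor (ModuleCat.{u} A) a).mapIso eH ≪≫
      (((DerivedCategory.singleFunctors (ModuleCat.{u} A)).shiftIso (-a) a 0 (neg_add_cancel a)).app ((hF A a).obj L)).symm
    have hBf : ∀ j : ℤ, a + 1 ≤ j → j ≤ d → ∀ w : C ⟶ (Dual.inD A (Dual.HD A B j))⟦-j⟧, f • w = 0 := fun j hj hjd w => by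
      haveI : Epi ((hF A j).map g) := (DerivedCategory.HomologySequence.epi_homologyMap_mor₂_iff _ hT j (j + 1) rfl).2
        ((DerivedCategory.isZero_of_isLE X a (j + 1) (by lia)).eq_of_tgt _ _)
      haveI : Mono ((hF A j).map g) := (DerivedCategory.HomologySequence.mono_homologyMap_mor₂_iff _ hT j).2
        ((DerivedCategory.isZero_of_isLE X a j (by lia)).eq_of_src _ _)
      haveI := isIso_of_mono_of_epi ((hF A j).map g)
      let e := (shiftFunctor (Dual.D A) (-j)).mapIso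
        ((DerivedCategory.singleFunctor (ModuleCat.{u} A) 0).mapIso (asIso ((hF A j).map g)).symm)
      refine (cancel_mono e.hom).1 ?_
      rw [zero_comp, Linear.smul_comp]
      exact hf j (by lia) hjd _
    have h1 := pow_smul_hom_eq_zero f d k (a + 1) B inferInstance (by push_cast at hk; lia) hBf (x ≫ g)
    obtain ⟨y, hy⟩ := Triangle.coyoneda_exact₂ _ hT (f ^ k • x) ((Linear.smul_comp _ _ _ _ _ _).trans h1)
    rw [pow_succ', mul_smul, hy]
    change f • (y ≫ u) = 0
    rw [← Linear.smul_comp]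
    have h2 : f • y = 0 := (cancel_mono eX.hom).1 (by
      rw [zero_comp, Linear.smul_comp]
      exact hf a le_rfl ha _)
    erw [h2, zero_comp]

omit [IsNoetherianRing A] in
theorem exists_small (T : Type (u + 1)) [AddCommGroup T] [Module A T] [Module.Finite A T] :
    ∃ (N : Type u) (_ : AddCommGroup N) (_ : Module A N), Module.Finite A N ∧ Nonempty (N ≃ₗ[A] T) := by
  obtain ⟨n, π, hπ⟩ := Module.Finite.exists_fin' A T
  exact ⟨(Fin n → A) ⧸ LinearMap.ker π, inferInstance, inferInstance, inferInstance,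
    ⟨LinearMap.quotKerEquivOfSurjective π hπ⟩⟩

variable (I : Ideal A) [DRing.HasRgammaI I] [DRing.HasDerivedCompletion I]

/-- `RΓ_J` inverts the map to the completion, for complete modules -/
theorem isZero_RΓ_cone_completion [IsAdicComplete I A] (J : Ideal A) [DRing.HasRgammaI J]
    (M : Type u) [AddCommGroup M] [Module A M] [Module.Finite A M] {W : Dual.D A}
    {g : ((DRing.derivedCompletion I).obj ((DRing.RgammaI J).obj (Dual.inD A M))).obj ⟶ W}
    {δ : W ⟶ ((DRing.RgammaI J).obj (Dual.inD A M))⟦(1 : ℤ)⟧}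
    (hT : Triangle.mk (DRing.toDerivedCompletion I ((DRing.RgammaI J).obj (Dual.inD A M))) g δ ∈ distTriang (Dual.D A)) :
    IsZero ((DRing.RgammaI J).obj W) := by
  haveI := RGammaI.hasRgammaI (J ⊔ I)
  have hM : DRing.IsDerivedComplete I (Dual.inD A M) := (DRingKP.isDerivedComplete_inD_iff I M).2 fun a ha =>
    haveI := FinAdic.isAdicComplete_of_finite I M
    DRingKP.TBij.of_isAdicComplete I ha
  obtain ⟨ψ, hψ⟩ := (DRingKP.completion_univ I ((DRing.RgammaI J).obj (Dual.inD A M)) _ hM).2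
    ((DRing.RgammaIε J).app (Dual.inD A M))
  change DRing.toDerivedCompletion I _ ≫ ψ = _ at hψ
  obtain ⟨Dε, g₁, δ₁, hTε⟩ := distinguished_cocone_triangle ((DRing.RgammaIε J).app (Dual.inD A M))
  obtain ⟨Cψ, g₂, δ₂, hTψ⟩ := distinguished_cocone_triangle ψ
  have hW : IsZero ((DRing.RgammaI I).obj W) := isZero_RΓ_of_noHom I (RHomMod.noHom_cone_completion I _ hT)
  have hDε : IsZero ((DRing.RgammaI J).obj Dε) := (isZero_RΓ_cone_iff J hTε).2 (isIso_map_ε J _)
  haveI := (isZero_RΓ_cone_iff (J ⊔ I) hT).1 (CompTors.isZero_RΓ_mono le_sup_right hW)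
  haveI hεK : IsIso ((DRing.RgammaI (J ⊔ I)).map ((DRing.RgammaIε J).app (Dual.inD A M))) :=
    (isZero_RΓ_cone_iff (J ⊔ I) hTε).1 (CompTors.isZero_RΓ_mono le_sup_left hDε)
  rw [← hψ, Functor.map_comp] at hεK
  haveI := IsIso.of_isIso_comp_left ((DRing.RgammaI (J ⊔ I)).map
    (DRing.toDerivedCompletion I ((DRing.RgammaI J).obj (Dual.inD A M)))) ((DRing.RgammaI (J ⊔ I)).map ψ)
  have hCψ : IsZero ((DRing.RgammaI J).obj Cψ) := CompTors.isZero_RΓ_of_complete I J
    (complete_third hTψ ((DRing.derivedCompletion I).obj _).property hM)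
    ((isZero_RΓ_cone_iff (J ⊔ I) hTψ).2 inferInstance)
  haveI := (isZero_RΓ_cone_iff J hTψ).1 hCψ
  have hε := isIso_map_ε J (Dual.inD A M)
  rw [← hψ, Functor.map_comp] at hε
  exact (isZero_RΓ_cone_iff J hT).2 (IsIso.of_isIso_comp_right
    ((DRing.RgammaI J).map (DRing.toDerivedCompletion I ((DRing.RgammaI J).obj (Dual.inD A M))))
    ((DRing.RgammaI J).map ψ))

variable [IsLocalRing A] [IsAdicComplete I A] (M : Type u) [AddCommGroup M] [Module A M] [Module.Finite A M]
  (d s : ℕ)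

/-- the radical of `J ⊔ I` -/
theorem maximalIdeal_le_radical {J : Ideal A}
    (h : PrimeSpectrum.zeroLocus (J : Set A) ∩ PrimeSpectrum.zeroLocus (I : Set A) = {closedPoint A}) :
    maximalIdeal A ≤ (J ⊔ I).radical := by
  rw [Ideal.radical_eq_sInf]
  refine le_sInf fun r hr => ?_
  have : (⟨r, hr.2⟩ : PrimeSpectrum A) = closedPoint A := by
    have hm : (⟨r, hr.2⟩ : PrimeSpectrum A) ∈ PrimeSpectrum.zeroLocus (J : Set A) ∩ PrimeSpectrum.zeroLocus (I : Set A) :=
      ⟨le_sup_left.trans hr.1, le_sup_right.trans hr.1⟩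
    rwa [h] at hm
  exact (congrArg PrimeSpectrum.asIdeal this).ge

theorem le_maximalIdeal_sup {J : Ideal A}
    (h : PrimeSpectrum.zeroLocus (J : Set A) ∩ PrimeSpectrum.zeroLocus (I : Set A) = {closedPoint A}) :
    J ⊔ I ≤ maximalIdeal A := by
  obtain ⟨h1, h2⟩ := (Set.ext_iff.1 h (closedPoint A)).2 rfl
  exact sup_le h1 h2

/-- the uniform ideal killing the completion -/
theorem exists_ideal {ω : Dual.D A} (hω : Dual.IsDualizing A ω) (hd : LocCoh.CdLE A I d)
    (h4 : ∀ p : PrimeSpectrum A, ¬ I ≤ p.asIdeal → (∃ r : PrimeSpectrum A, p ≤ r ∧ I ≤ r.asIdeal ∧ r.asIdeal ≠ maximalIdeal A) →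
      (s : ℕ∞) ≤ LocCoh.depth (Localization.AtPrime p.asIdeal) (LocalizedModule p.asIdeal.primeCompl M) ∨
      (((d + s : ℕ) : ℕ∞) : WithBot ℕ∞) < ((LocCoh.depth (Localization.AtPrime p.asIdeal)
        (LocalizedModule p.asIdeal.primeCompl M) : ℕ∞) : WithBot ℕ∞) + ringKrullDim (A ⧸ p.asIdeal)) :
    ∃ Q : Ideal A, (∀ p : PrimeSpectrum A, ¬ I ≤ p.asIdeal →
        (∃ r : PrimeSpectrum A, p ≤ r ∧ I ≤ r.asIdeal ∧ r.asIdeal ≠ maximalIdeal A) → ¬ Q ≤ p.asIdeal) ∧
      ∀ (J : Ideal A) [DRing.HasRgammaI J],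
        PrimeSpectrum.zeroLocus (J : Set A) ∩ PrimeSpectrum.zeroLocus (I : Set A) = {closedPoint A} →
        ∀ f ∈ Q, ∀ i : ℤ, i ≤ s → ∀ x : Dual.HD A ((DRing.derivedCompletion I).obj
          ((DRing.RgammaI J).obj (Dual.inD A M))).obj i, f ^ (d + s + 1) • x = 0 := by
  classical
  obtain ⟨n₀, hn⟩ := exists_normalized_shift hω
  have hω' := isDualizing_shift hω n₀
  generalize ω⟦n₀⟧ = ω' at hn hω'
  obtain ⟨E, _, _, g₀, hg⟩ := InjHull.exists_isInjectiveHull A (A ⧸ maximalIdeal A)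
  haveI : Module.Injective A E := hg.isInjective
  obtain ⟨e, he⟩ : ∃ e : ℕ, ringKrullDim A = e := SerreReg.exists_dim_nat A
  haveI : ∀ j : ℕ, Module.Finite A (T ω' M (-(j : ℤ))) := fun j => finite_T hω' M _
  choose N i₁ i₂ hfin hN using fun j : ℕ => exists_small (A := A) (T ω' M (-(j : ℤ)))
  let C := (DRing.RgammaI I).obj (Dual.inD A A)
  let P : ℕ → ℤ → A → Prop := fun j t f =>
    letI := i₁ j
    letI := i₂ j
    ∀ w : C ⟶ CompDual.dualAt E (N j) t, f • w = 0
  let Q : Ideal A :=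
    { carrier := {f | ∀ j : ℕ, j ≤ e → ∀ t : ℤ, t ≤ d → (j : ℤ) - s ≤ t → P j t f}
      zero_mem' := fun j _ t _ _ w => zero_smul _ _
      add_mem' := fun {a b} ha hb j hj t ht ht' w => by rw [add_smul, ha j hj t ht ht' w, hb j hj t ht ht' w, add_zero]
      smul_mem' := fun c f hf j hj t ht ht' w => by rw [smul_eq_mul, mul_smul, hf j hj t ht ht' w, smul_zero] }
  refine ⟨Q, fun p hp hr => ?_, fun J _ hJ f hf i hi x => ?_⟩
  · obtain ⟨r, hpr, hIr, hrm⟩ := hr
    have hk : ∀ (j : ℕ) (t : ℤ), ∃ f : A, f ∉ p.asIdeal ∧ (t ≤ d → (j : ℤ) - s ≤ t → P j t f) := by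
      intro j t
      by_cases ht : t ≤ d ∧ (j : ℤ) - s ≤ t
      swap
      · exact ⟨1, p.asIdeal.one_notMem, fun h1 h2 => absurd ⟨h1, h2⟩ ht⟩
      letI := i₁ j
      letI := i₂ j
      haveI := hfin j
      obtain ⟨f, hf, hfk⟩ := CompDual.exists_killer E I p t (N j) fun q hq hqs => by
        have hqI : ¬ I ≤ q.asIdeal := fun h => hp (h.trans hq)
        have hqc : q ≤ closedPoint A := le_maximalIdeal q.isPrime.ne_top
        have hnv : ¬ Van ω' q.asIdeal M (-(j : ℤ)) := fun hv => by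
          obtain ⟨eN⟩ := hN j
          obtain ⟨m, hm⟩ := Module.mem_support_iff'.1 hqs
          obtain ⟨c, hc, hcm⟩ := hv (eN m)
          exact hm c hc (eN.injective (by rw [map_smul, hcm, map_zero]))
        have hdj : del hω' q ≤ (j : ℤ) := by
          by_contra hlt
          exact hnv (van_gt hω' (by lia))
        have hd0 : 0 ≤ del hω' q := by
          have := del_le hω' hqc
          rwa [del_closed hω' hn] at this
        obtain ⟨δ, hδ⟩ := Int.eq_ofNat_of_zero_le hd0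
        have hdim : ringKrullDim (A ⧸ q.asIdeal) = (δ : WithBot ℕ∞) := by
          have h1 := krullDim_Icc hω' hqc
          rw [del_closed hω' hn, hδ, sub_zero, Int.toNat_natCast] at h1
          rw [← h1]
          exact (ringKrullDim_quotient _).trans (Order.krullDim_eq_of_orderIso
            { toFun := fun w => ⟨w.1, w.2, le_maximalIdeal w.1.isPrime.ne_top⟩
              invFun := fun w => ⟨w.1, w.2.1⟩
              left_inv := fun _ => rfl
              right_inv := fun _ => rfl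
              map_rel_iff' := Iff.rfl })
        obtain ⟨n', hn'⟩ := Int.eq_ofNat_of_zero_le (show (0 : ℤ) ≤ j - del hω' q by lia)
        have hdepth := (DualCx.depth_le_iff hω' (M := M) q n').2 ⟨n', le_rfl, by
          rwa [show -del hω' q - (n' : ℤ) = -(j : ℤ) by lia]⟩
        have h5 := h4 q hqI ⟨r, hq.trans hpr, hIr, hrm⟩
        rw [hdim] at h5
        generalize LocCoh.depth (Localization.AtPrime q.asIdeal) (LocalizedModule q.asIdeal.primeCompl M) = D
          at hdepth h5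
        obtain ⟨Dn, rfl⟩ := ENat.ne_top_iff_exists.1 (ne_top_of_le_ne_top (ENat.coe_ne_top n') hdepth)
        have hDn : Dn ≤ n' := by exact_mod_cast hdepth
        rcases h5 with h5 | h5
        swap
        · exfalso
          have : d + s < Dn + δ := by exact_mod_cast h5
          lia
        have hsD : s ≤ Dn := by exact_mod_cast h5
        refine Or.inr ?_
        obtain ⟨tn, rfl⟩ := Int.eq_ofNat_of_zero_le (show (0 : ℤ) ≤ t by lia)
        rw [Int.toNat_natCast]
        rcases lt_or_eq_of_le (show δ ≤ tn by lia) with hlt | rfl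
        · exact LocH.cdLE_of_ringKrullDim_le _ δ hdim.le (A ⧸ q.asIdeal) tn hlt
        haveI : IsLocalRing (A ⧸ q.asIdeal) := IsLocalRing.of_surjective' _ Ideal.Quotient.mk_surjective
        haveI : IsAdicComplete (I.map (Ideal.Quotient.mk q.asIdeal)) (A ⧸ q.asIdeal) :=
          (IsAdicComplete.map_algebraMap_iff I (A ⧸ q.asIdeal)).2 (FinAdic.isAdicComplete_of_finite I (A ⧸ q.asIdeal))
        have hqr : q.asIdeal ≤ r.asIdeal := hq.trans hpr
        let r' : PrimeSpectrum (A ⧸ q.asIdeal) := ⟨r.asIdeal.map (Ideal.Quotient.mk q.asIdeal),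
          Ideal.map_isPrime_of_surjective Ideal.Quotient.mk_surjective (by rwa [Ideal.mk_ker])⟩
        refine HTLib.subsingleton_H_top _ hdim r' (Ideal.map_mono hIr) fun heq => hrm ?_
        have h6 := congrArg (Ideal.comap (Ideal.Quotient.mk q.asIdeal)) heq
        rw [Ideal.comap_map_of_surjective _ Ideal.Quotient.mk_surjective, ← RingHom.ker_eq_comap_bot, Ideal.mk_ker,
          sup_eq_left.2 hqr] at h6
        exact h6.trans (IsLocalRing.eq_maximalIdeal (Ideal.comap_isMaximal_of_surjective _ Ideal.Quotient.mk_surjective))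
      exact ⟨f, hf, fun _ _ => hfk⟩
    choose F hF1 hF2 using hk
    let S := (Finset.range (e + 1)) ×ˢ Finset.Icc (-(s : ℤ)) d
    intro hle
    have hmem : (∏ x ∈ S, F x.1 x.2) ∈ Q := fun j hj t ht ht' w => by
      have hx : (j, t) ∈ S := Finset.mem_product.2 ⟨Finset.mem_range.2 (by lia), Finset.mem_Icc.2 ⟨by lia, ht⟩⟩
      obtain ⟨c, hc⟩ := Finset.dvd_prod_of_mem (fun x => F x.1 x.2) hx
      rw [hc, mul_comm, mul_smul, hF2 j t ht ht' w, smul_zero]
    obtain ⟨x, -, hxp⟩ := (p.isPrime.prod_mem_iff).1 (hle hmem)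
    exact hF1 _ _ hxp
  · haveI := RGammaI.hasRgammaI (J ⊔ I)
    refine CompTors.smul_completion_eq_zero I _ _ i (fun w => ?_) x
    haveI := CompKill.isLE_rgamma I A hd
    obtain ⟨eS⟩ := Groth.Agent.S1816.result A J I (Dual.inD A M)
    haveI : ((DRing.RgammaI (J ⊔ I)).obj (Dual.inD A M)).IsGE 0 := CompKill.isGE_rgamma (J ⊔ I) M
    haveI : ((DRing.RgammaI I).obj ((DRing.RgammaI J).obj (Dual.inD A M))).IsGE 0 :=
      DerivedCategory.TStructure.t.isGE_of_iso eS.symm 0
    refine pow_smul_hom_eq_zero f (d : ℤ) (d + s + 1) (-i) _ (DerivedCategory.TStructure.t.isGE_shift _ 0 i (-i) (by lia))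
      (by push_cast; lia) (fun j hj hjd v => ?_) w
    obtain ⟨n, hn'⟩ := Int.eq_ofNat_of_zero_le (show 0 ≤ i + j by lia)
    obtain ⟨eH⟩ := CompKill.nonempty_HD_H_equiv (J ⊔ I) M n
    obtain ⟨eR⟩ := HLVT.nonempty_equiv_of_le_radical (le_maximalIdeal_sup I hJ) (maximalIdeal_le_radical I hJ) M n
    obtain ⟨eD⟩ := localDuality hω' hn hg M n
    let eL : Dual.HD A (((DRing.RgammaI I).obj ((DRing.RgammaI J).obj (Dual.inD A M)))⟦i⟧) j ≃ₗ[A]
        LocCoh.H (maximalIdeal A) n M :=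
      ((((DerivedCategory.homologyFunctor (ModuleCat.{u} A) 0).shiftIso i j (n : ℤ) hn').app _).toLinearEquiv) ≪≫ₗ
        ((hF A (n : ℤ)).mapIso eS).toLinearEquiv ≪≫ₗ eH ≪≫ₗ eR.symm
    by_cases hne : e < n
    · haveI : Subsingleton (LocCoh.H (maximalIdeal A) n M) := LocH.cdLE_of_ringKrullDim_le _ e he.le M n hne
      haveI := eL.toEquiv.subsingleton
      exact (Functor.map_isZero _ (Functor.map_isZero _ (ModuleCat.isZero_of_subsingleton _))).eq_of_tgt _ _
    letI := i₁ n
    letI := i₂ n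
    obtain ⟨eN⟩ := hN n
    let e' : ModuleCat.of A (Dual.HD A (((DRing.RgammaI I).obj ((DRing.RgammaI J).obj (Dual.inD A M)))⟦i⟧) j) ≅
        ModuleCat.of A (N n →ₗ[A] E) :=
      (eL ≪≫ₗ eD ≪≫ₗ (LinearEquiv.congrLeft E A eN).symm).toModuleIso
    let g' := (shiftFunctor (Dual.D A) (-j)).mapIso ((DerivedCategory.singleFunctor (ModuleCat.{u} A) 0).mapIso e')
    refine (cancel_mono g'.hom).1 ?_
    rw [zero_comp, Linear.smul_comp]
    exact hf n (by lia) j hjd (by lia) _

/-- Bootstrap. -/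
theorem exists_bijective (hdc : ∃ ω : Dual.D A, Dual.IsDualizing A ω) (hd : LocCoh.CdLE A I d)
    (h4 : ∀ p : PrimeSpectrum A, ¬ I ≤ p.asIdeal → (∃ r : PrimeSpectrum A, p ≤ r ∧ I ≤ r.asIdeal ∧ r.asIdeal ≠ maximalIdeal A) →
      (s : ℕ∞) ≤ LocCoh.depth (Localization.AtPrime p.asIdeal) (LocalizedModule p.asIdeal.primeCompl M) ∨
      (((d + s : ℕ) : ℕ∞) : WithBot ℕ∞) < ((LocCoh.depth (Localization.AtPrime p.asIdeal)
        (LocalizedModule p.asIdeal.primeCompl M) : ℕ∞) : WithBot ℕ∞) + ringKrullDim (A ⧸ p.asIdeal)) :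
    ∃ J₀ : Ideal A, PrimeSpectrum.zeroLocus (J₀ : Set A) ∩ PrimeSpectrum.zeroLocus (I : Set A) = {closedPoint A} ∧
      ∀ (J : Ideal A) [DRing.HasRgammaI J], J ≤ J₀ →
        PrimeSpectrum.zeroLocus (J : Set A) ∩ PrimeSpectrum.zeroLocus (I : Set A) = {closedPoint A} →
        ∀ i : ℤ, i ≤ s → Function.Bijective ((DerivedCategory.homologyFunctor (ModuleCat.{u} A) i).map
          (DRing.toDerivedCompletion I ((DRing.RgammaI J).obj (Dual.inD A M)))).hom := by
  classical
  obtain ⟨ω, hω⟩ := hdc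
  have hI : I ≤ maximalIdeal A := le_maximalIdeal fun h => by
    have := IsAdicComplete.le_jacobson_bot I
    rw [h, top_le_iff, Ideal.jacobson_eq_top_iff] at this
    exact bot_ne_top this
  obtain ⟨Q, hQ, hkill⟩ := exists_ideal I M d s hω hd h4
  let S := (Ideal.finite_minimalPrimes_of_isNoetherianRing A Q).toFinset.filter fun P => ¬ I ≤ P
  refine ⟨S.inf id ⊓ maximalIdeal A, ?_, fun J _ hle hJ i hi => ?_⟩
  · ext r
    refine ⟨fun ⟨h1, h2⟩ => ?_, ?_⟩
    · by_contra hne
      have hne' : r.asIdeal ≠ maximalIdeal A := fun h => hne (PrimeSpectrum.ext h)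
      rcases r.isPrime.inf_le.1 (show S.inf id ⊓ maximalIdeal A ≤ r.asIdeal from h1) with h | h
      · obtain ⟨P, hP, hPr⟩ := (r.isPrime.inf_le').1 h
        obtain ⟨hPm, hPI⟩ := Finset.mem_filter.1 hP
        rw [Set.Finite.mem_toFinset] at hPm
        exact hQ ⟨P, hPm.1.1⟩ hPI ⟨r, hPr, h2, hne'⟩ hPm.1.2
      · exact hne' ((maximalIdeal.isMaximal A).eq_of_le r.isPrime.ne_top h).symm
    · rintro rfl
      exact ⟨inf_le_right (a := S.inf id), hI⟩
  haveI := RGammaI.hasRgammaI (J ⊔ I)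
  obtain ⟨tI, htI⟩ := IsNoetherian.noetherian I
  obtain ⟨tJ, htJ⟩ := IsNoetherian.noetherian J
  obtain ⟨W, g, δ, hT⟩ := distinguished_cocone_triangle
    (DRing.toDerivedCompletion I ((DRing.RgammaI J).obj (Dual.inD A M)))
  have hneg : ∀ b : ℤ, b < 0 → Subsingleton (Dual.HD A ((DRing.derivedCompletion I).obj
      ((DRing.RgammaI J).obj (Dual.inD A M))).obj b) := by
    obtain ⟨fs, hfs⟩ : ∃ fs : List A, Ideal.span {a | a ∈ fs} = J :=
      ⟨tJ.toList, by rw [← htJ]; simp⟩
    subst hfs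
    exact fun b hb => RGCompl.subsingleton_HD_completion_of_neg fs I (ModuleCat.of A M) b hb
  haveI := CompKill.isGE_rgamma J M
  have hK : ∀ a ∈ J, ∀ b, CompTors.Tors a ((DRing.RgammaI J).obj (Dual.inD A M)) b := fun a ha b x => by
    obtain ⟨k, hk⟩ := isPowerTorsion_HD J (Dual.inD A M) b x
    exact ⟨k, hk _ (Ideal.pow_mem_pow ha k)⟩
  have hlo : ∀ b : ℤ, b < -1 → Subsingleton (Dual.HD A W b) := fun b hb => subsingleton_of_forall_eq 0 fun x => by
    obtain ⟨k, hk⟩ := CompTors.Tors.third (a := (1 : A)) hT (CompTors.tors_of_subsingleton _ (hneg b (by lia)))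
      (CompTors.tors_of_subsingleton _ (ModuleCat.subsingleton_of_isZero (DerivedCategory.isZero_of_isGE _ 0 (b + 1) (by lia)))) x
    rwa [one_pow, one_smul] at hk
  refine CompTors.bijective_of_tors tJ htJ hT (isZero_RΓ_cone_completion I J M hT) (-1) (s : ℤ) hlo
    (fun a ha => hK a (htJ ▸ Ideal.subset_span ha)) (fun a ha => ?_) i hi
  have haJ : a ∈ J := htJ ▸ Ideal.subset_span ha
  obtain ⟨eG⟩ := (greenlees_may I ((DRing.RgammaI J).obj (Dual.inD A M))).1
  obtain ⟨eS⟩ := Groth.Agent.S1816.result A J I (Dual.inD A M)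
  refine CompTors.tors_completion a tI htI (fun n => CompTors.Tors.of_iso (eG ≪≫ eS).symm fun x => ?_) 0 (s : ℤ)
    hneg fun g hg b hb x => ?_
  · obtain ⟨k, hk⟩ := isPowerTorsion_HD (J ⊔ I) (Dual.inD A M) n x
    exact ⟨k, hk _ (Ideal.pow_mem_pow (Ideal.mem_sup_left haJ) k)⟩
  have hgI : g ∈ I := htI ▸ Ideal.subset_span hg
  obtain ⟨k, hk⟩ : a * g ∈ Q.radical := by
    rw [← Ideal.sInf_minimalPrimes]
    refine Submodule.mem_sInf.2 fun P hP => ?_
    by_cases hPI : I ≤ P
    · exact Ideal.mul_mem_left _ a (hPI hgI)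
    · exact Ideal.mul_mem_right g _ ((inf_le_left.trans (Finset.inf_le (f := id)
        (Finset.mem_filter.2 ⟨(Set.Finite.mem_toFinset _).2 hP, hPI⟩))) (hle haJ))
  exact ⟨k * (d + s + 1), by rw [pow_mul]; exact hkill J hJ _ hk b hb x⟩

end

end Groth.Agent.HTLib.CompBoot
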