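import Groth.Agent.RGammaI.GM
import Groth.Agent.RGammaI.HDI
import Groth.Agent.CechX.LocCoh
import Groth.Agent.WContr.DCDerived
import Groth.Agent.DRingKP.TwoTerm
import Groth.Agent.RHomMod.Completion
import Groth.Agent.S1816
import Groth.Agent.HTLib.Boot

/-!
Elements killing `H^{≤ i + d}_{J + I}(M)` kill `H^i` of the derived `I`-completion of `RΓ_J M` when `cd(A, I) ≤ d`.
-/

set_option autoImplicit false
set_option linter.style.haveILetI false
set_option backward.isDefEq.respectTransparency false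
set_option backward.isDefEq.respectTransparency.types false
universe u

namespace Groth.Agent.HTLib.CompKill

open CategoryTheory CategoryTheory.Limits Pretriangulated RGammaI

attribute [local instance] HasDerivedCategory.standard

noncomputable section

variable {A : Type u} [CommRing A]

/-! ### local cohomology as cohomology of `RΓ` -/

variable [IsNoetherianRing A] (K : Ideal A) [DRing.HasRgammaI K] (M : Type u) [AddCommGroup M] [Module A M]

theorem exists_resIso (res : InjectiveResolution (ModuleCat.of A M)) (q : ℤ) :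
    Nonempty (Dual.HD A ((DRing.RgammaI K).obj (Dual.inD A M)) q ≃ₗ[A] (gc K res.cochainComplex).homology q) := by
  have hTI : TI res.cochainComplex := fun p => inferInstanceAs (Injective (res.cochainComplex.X p))
  haveI := isIso_gα K hTI
  haveI : QuasiIso res.ι' := inferInstance
  let e : qh res.cochainComplex ≅ Dual.inD A M :=
    (DerivedCategory.quotientCompQhIso (ModuleCat.{u} A)).app _ ≪≫ (asIso (DerivedCategory.Q.map res.ι')).symm
  exact ⟨((hF A q).mapIso (((DerivedCategory.quotientCompQhIso (ModuleCat.{u} A)).app (gc K res.cochainComplex)).symm ≪≫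
    asIso (gα K res.cochainComplex) ≪≫ (DRing.RgammaI K).mapIso e)).symm.toLinearEquiv ≪≫ₗ
    ((DerivedCategory.homologyFunctorFactors (ModuleCat.{u} A) q).app (gc K res.cochainComplex)).toLinearEquiv⟩

theorem nonempty_HD_H_equiv (i : ℕ) :
    Nonempty (Dual.HD A ((DRing.RgammaI K).obj (Dual.inD A M)) (i : ℤ) ≃ₗ[A] LocCoh.H K i M) := by
  obtain ⟨res⟩ : Nonempty (InjectiveResolution (ModuleCat.of A M)) := HasInjectiveResolution.out
  obtain ⟨e⟩ := exists_resIso K M res i
  obtain ⟨e'⟩ := CechX.nonempty_homology_gam_equiv res K i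
  exact ⟨e ≪≫ₗ e'⟩

theorem isGE_rgamma : ((DRing.RgammaI K).obj (Dual.inD A M)).IsGE 0 := by
  refine (DerivedCategory.isGE_iff _ 0).2 fun q hq => ?_
  obtain ⟨res⟩ : Nonempty (InjectiveResolution (ModuleCat.of A M)) := HasInjectiveResolution.out
  obtain ⟨e⟩ := exists_resIso K M res q
  have h : IsZero ((gc K res.cochainComplex).homology q) := by
    refine ShortComplex.isZero_homology_of_isZero_X₂ _ ?_
    show IsZero ((DRing.gammaI K).obj (res.cochainComplex.X q))
    exact Functor.map_isZero _ (CochainComplex.isZero_of_isStrictlyGE res.cochainComplex 0 q hq)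
  exact h.of_iso e.toModuleIso

theorem isLE_rgamma {d : ℕ} (hd : LocCoh.CdLE A K d) :
    ((DRing.RgammaI K).obj (Dual.inD A M)).IsLE d := by
  refine (DerivedCategory.isLE_iff _ _).2 fun q hq => ?_
  obtain ⟨n, rfl⟩ := Int.eq_ofNat_of_zero_le (show 0 ≤ q by lia)
  obtain ⟨e⟩ := nonempty_HD_H_equiv K M n
  haveI := hd M n (by exact_mod_cast hq)
  haveI := e.toEquiv.subsingleton
  exact ModuleCat.isZero_of_subsingleton _

omit [IsNoetherianRing A] in
/-- `f` killing finitely many cohomology modules kills maps. -/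
theorem pow_smul_hom_eq_zero (f : A) {C : Dual.D A} (d : ℤ) [C.IsLE d] : ∀ (k : ℕ) (a : ℤ) (L : Dual.D A),
    L.IsGE a → d + 1 ≤ a + k → (∀ j : ℤ, a ≤ j → j ≤ d → ∀ x : Dual.HD A L j, f • x = 0) →
      ∀ x : C ⟶ L, f ^ k • x = 0
  | 0, a, L, hL, hk, _, x => by
    haveI := hL
    rw [show x = 0 from DerivedCategory.TStructure.t.zero x d a (by push_cast at hk; lia), smul_zero]
  | k + 1, a, L, hL, hk, hf, x => by
    haveI := hL
    by_cases ha : d < a
    · rw [show x = 0 from DerivedCategory.TStructure.t.zero x d a ha, smul_zero]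
    rw [not_lt] at ha
    obtain ⟨X, B, hX, hB, u, g, h, hT⟩ :=
      (DerivedCategory.TStructure.t (C := ModuleCat.{u} A)).exists_triangle L a (a + 1) rfl
    haveI : X.IsLE a := ⟨hX⟩
    haveI : B.IsGE (a + 1) := ⟨hB⟩
    haveI : X.IsGE a := (DerivedCategory.isGE_iff X a).2 fun i hi =>
      (DerivedCategory.HomologySequence.exact₁ _ hT (i - 1) i (by lia)).isZero_of_both_zeros
        ((DerivedCategory.isZero_of_isGE B (a + 1) (i - 1) (by lia)).eq_of_src _ _)
        ((DerivedCategory.isZero_of_isGE L a i hi).eq_of_tgt _ _)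
    haveI hm : Mono ((hF A a).map u) := (DerivedCategory.HomologySequence.mono_homologyMap_mor₁_iff _ hT (a - 1) a (by lia)).2
      ((DerivedCategory.isZero_of_isGE B (a + 1) (a - 1) (by lia)).eq_of_src _ _)
    have hXf : f • 𝟙 X = 0 := by
      refine DRingKP.eq_zero_of_pure a _ ?_
      rw [hF_map_smul]
      refine ModuleCat.hom_ext (LinearMap.ext fun z => (ModuleCat.mono_iff_injective _).1 hm ?_)
      change (hF A a).map u (f • z) = (hF A a).map u 0
      rw [map_smul, map_zero]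
      exact hf a le_rfl ha _
    have hfB : ∀ j : ℤ, a + 1 ≤ j → j ≤ d → ∀ z : Dual.HD A B j, f • z = 0 := fun j hj hjd z => by
      haveI : Epi ((hF A j).map g) := (DerivedCategory.HomologySequence.epi_homologyMap_mor₂_iff _ hT j (j + 1) rfl).2
        ((DerivedCategory.isZero_of_isLE X a (j + 1) (by lia)).eq_of_tgt _ _)
      obtain ⟨w, rfl⟩ := (ModuleCat.epi_iff_surjective ((hF A j).map g)).1 inferInstance z
      rw [← map_smul, hf j (by lia) hjd w, map_zero]
    have h1 := pow_smul_hom_eq_zero f d k (a + 1) B inferInstance (by push_cast at hk; lia) hfB (x ≫ g)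
    obtain ⟨y, hy⟩ := Triangle.coyoneda_exact₂ _ hT (f ^ k • x) ((Linear.smul_comp _ _ _ _ _ _).trans h1)
    rw [pow_succ', mul_smul, hy]
    change f • (y ≫ u) = 0
    rw [← Linear.smul_comp, ← Category.comp_id y, ← Linear.comp_smul,
      show f • 𝟙 (Triangle.mk u g h).obj₁ = 0 from hXf, comp_zero, zero_comp]

variable (I : Ideal A) [DRing.HasRgammaI I]

/-- lifting maps out of torsion objects -/
theorem exists_lift {X Y D : Dual.D A} {u : X ⟶ Y} {g : Y ⟶ D} {δ : D ⟶ X⟦(1 : ℤ)⟧}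
    (hT : Triangle.mk u g δ ∈ distTriang (Dual.D A)) (hD : NoHom I D) {C : Dual.D A}
    (hC : ∀ q, LocCoh.IsPowerTorsion I (Dual.HD A C q)) (i : ℤ) (y : C ⟶ Y⟦i⟧) :
    ∃ w : C ⟶ X⟦i⟧, w ≫ u⟦i⟧' = y := by
  have h0 : ∀ v : C ⟶ D⟦i⟧, v = 0 := fun v => by
    haveI := isIso_ε I hC
    have hn := (DRing.RgammaIε I).naturality v
    simp only [Functor.id_map] at hn
    rw [(isZero_RΓ_of_noHom I (noHom_shift hD i)).eq_of_tgt ((DRing.RgammaI I).map v) 0, zero_comp] at hn
    exact (cancel_epi ((DRing.RgammaIε I).app C)).1 (hn.symm.trans comp_zero.symm)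
  obtain ⟨w, hw⟩ := Triangle.coyoneda_exact₂ _ (Triangle.shift_distinguished _ hT i) y (h0 _)
  refine ⟨i.negOnePow • w, ?_⟩
  change y = w ≫ (i.negOnePow • u⟦i⟧') at hw
  rw [hw, Linear.units_smul_comp, Linear.comp_units_smul]

/-- killers of the completion -/
theorem pow_smul_completion_eq_zero (J : Ideal A) [DRing.HasRgammaI J] [DRing.HasDerivedCompletion I] {d : ℕ}
    (hd : LocCoh.CdLE A I d) (s : ℕ) (f : A) (hf : ∀ j : ℕ, j ≤ d + s → ∀ x : LocCoh.H (J ⊔ I) j M, f • x = 0)
    (i : ℤ) (hi : i ≤ s)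
    (x : Dual.HD A ((DRing.derivedCompletion I).obj ((DRing.RgammaI J).obj (Dual.inD A M))).obj i) :
    f ^ (d + s + 1) • x = 0 := by
  haveI := RGammaI.hasRgammaI (J ⊔ I)
  obtain ⟨D₀, g₀, δ₀, hT₀⟩ :=
    distinguished_cocone_triangle (DRing.toDerivedCompletion I ((DRing.RgammaI J).obj (Dual.inD A M)))
  obtain ⟨D₁, g₁, δ₁, hT₁⟩ :=
    distinguished_cocone_triangle ((DRing.RgammaIε I).app ((DRing.RgammaI J).obj (Dual.inD A M)))
  obtain ⟨D₂, g₂, δ₂, hT₂⟩ := distinguished_cocone_triangle ((DRing.RgammaIε I).app (Dual.inD A A))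
  have hD₀ : NoHom I D₀ := RHomMod.noHom_cone_completion I _ hT₀
  have hD₁ : NoHom I D₁ := noHom_of_isZero_RΓ I ((isZero_RΓ_cone_iff I hT₁).2 (isIso_map_ε I _))
  have hD₂ : NoHom I D₂ := noHom_of_isZero_RΓ I ((isZero_RΓ_cone_iff I hT₂).2 (isIso_map_ε I _))
  generalize hE : ((DRing.derivedCompletion I).obj ((DRing.RgammaI J).obj (Dual.inD A M))).obj = E at x
  subst hE
  haveI := isLE_rgamma I A hd
  obtain ⟨eS⟩ := Groth.Agent.S1816.result A J I (Dual.inD A M)
  have hC := isPowerTorsion_HD I (Dual.inD A A)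
  haveI : ((DRing.RgammaI (J ⊔ I)).obj (Dual.inD A M)).IsGE 0 := isGE_rgamma (J ⊔ I) M
  haveI : ((DRing.RgammaI I).obj ((DRing.RgammaI J).obj (Dual.inD A M))).IsGE 0 :=
    DerivedCategory.TStructure.t.isGE_of_iso eS.symm 0
  have hL : ∀ j : ℤ, -i ≤ j → j ≤ d →
      ∀ z : Dual.HD A (((DRing.RgammaI I).obj ((DRing.RgammaI J).obj (Dual.inD A M)))⟦i⟧) j, f • z = 0 := by
    intro j hj hjd z
    obtain ⟨n, hn⟩ := Int.eq_ofNat_of_zero_le (show 0 ≤ i + j by lia)
    obtain ⟨eH⟩ := nonempty_HD_H_equiv (J ⊔ I) M n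
    let e := ((((DerivedCategory.homologyFunctor (ModuleCat.{u} A) 0).shiftIso i j (n : ℤ) hn).app _).toLinearEquiv) ≪≫ₗ
      ((hF A (n : ℤ)).mapIso eS).toLinearEquiv ≪≫ₗ eH
    refine e.injective ?_
    rw [map_smul, map_zero]
    exact hf n (by lia) _
  have hhom : ∀ v : Dual.inD A A ⟶
      ((DRing.derivedCompletion I).obj ((DRing.RgammaI J).obj (Dual.inD A M))).obj⟦i⟧, f ^ (d + s + 1) • v = 0 := by
    intro v
    refine (bijective_of_noHom I hT₂ hD₂
      (complete_shift ((DRing.derivedCompletion I).obj _).property i)).1 ?_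
    obtain ⟨w₀, hw₀⟩ := exists_lift I hT₀ hD₀ hC i ((DRing.RgammaIε I).app (Dual.inD A A) ≫ v)
    obtain ⟨w₁, hw₁⟩ := exists_lift I hT₁ hD₁ hC i w₀
    change _ ≫ (f ^ (d + s + 1) • v) = _ ≫ 0
    rw [Linear.comp_smul, comp_zero, ← hw₀, ← hw₁, ← Linear.smul_comp, ← Linear.smul_comp,
      pow_smul_hom_eq_zero f (d : ℤ) (d + s + 1) (-i) _ (DerivedCategory.TStructure.t.isGE_shift _ 0 i (-i) (by lia))
        (by push_cast; lia) hL w₁, zero_comp, zero_comp]
  let es := ((DerivedCategory.homologyFunctor (ModuleCat.{u} A) 0).shiftIso i 0 i (add_zero i)).app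
    ((DRing.derivedCompletion I).obj ((DRing.RgammaI J).obj (Dual.inD A M))).obj
  obtain ⟨z, rfl⟩ := es.toLinearEquiv.surjective x
  obtain ⟨v, hv⟩ := (WContr.DC.evH_bijective (ModuleCat.of A A) _).2 (ModuleCat.ofHom (LinearMap.toSpanSingleton A _ z))
  refine (es.toLinearEquiv.map_smul _ z).symm.trans ((congrArg es.toLinearEquiv ?_).trans es.toLinearEquiv.map_zero)
  have h1 := congrArg (WContr.DC.evH (ModuleCat.of A A) _) (hhom v)
  rw [← Category.comp_id v, ← Linear.comp_smul, WContr.DC.evH_comp, hv, hF_map_smul,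
    show WContr.DC.evH (ModuleCat.of A A) _ (0 : Dual.inD A A ⟶ _) = 0 by simp [WContr.DC.evH]] at h1
  have h2 := congr($(h1).hom (1 : A))
  change f ^ (d + s + 1) • ((1 : A) • z) = 0 at h2
  rw [one_smul] at h2
  exact h2

/-- the annihilator theorem away from one prime -/
theorem exists_killer_prime {ω : Dual.D A} (hω : Dual.IsDualizing A ω) (K : Ideal A) [Module.Finite A M]
    (p : PrimeSpectrum A) (n : ℕ)
    (h : ∀ p' q : PrimeSpectrum A, p' ≤ p → p' ≤ q → K ≤ q.asIdeal →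
      ∀ i : ℕ, i ≤ n → DualCx.Van ω p'.asIdeal M (-DualCx.del hω q - i)) :
    ∃ f : A, f ∉ p.asIdeal ∧ ∀ j : ℕ, j ≤ n → ∀ x : LocCoh.H K j M, f • x = 0 := by
  have hT' : StableUnderSpecialization {r : PrimeSpectrum A | ¬ r ≤ p} := fun a b hab ha hb =>
    ha (((PrimeSpectrum.le_iff_specializes a b).2 hab).trans hb)
  obtain ⟨J, hJ, hk⟩ := HTLib.exists_killer_of_van hω M (T := PrimeSpectrum.zeroLocus (K : Set A)) hT' n
    fun p' q hp' hq hpq => h p' q (not_not.1 hp') hpq hq
  obtain ⟨f, hf, hfp⟩ := SetLike.not_le_iff_exists.1 (fun hle : J ≤ p.asIdeal => hJ hle le_rfl)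
  exact ⟨f, hfp, fun i hi x => hk i hi f hf K subset_rfl x⟩

end

end Groth.Agent.HTLib.CompKill
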