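import Groth.Agent.HTLib.CompKill
import Groth.Agent.RHomMod.Duality

/-!
Torsion in the cohomology of derived completions.
-/

set_option autoImplicit false
set_option linter.style.haveILetI false
set_option backward.isDefEq.respectTransparency false
set_option backward.isDefEq.respectTransparency.types false
universe u

namespace Groth.Agent.HTLib.CompTors

open CategoryTheory CategoryTheory.Limits Pretriangulated RGammaI
open scoped ZeroObject

attribute [local instance] HasDerivedCategory.standard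

noncomputable section

variable {A : Type u} [CommRing A]

/-- `a`-power torsion cohomology in degree `n` -/
def Tors (a : A) (X : Dual.D A) (n : ℤ) : Prop := ∀ x : Dual.HD A X n, ∃ k : ℕ, a ^ k • x = 0

theorem tors_of_subsingleton (a : A) {X : Dual.D A} {n : ℤ} (h : Subsingleton (Dual.HD A X n)) : Tors a X n :=
  fun _ => ⟨0, Subsingleton.elim _ _⟩

theorem tors_of_isZero (a : A) {X : Dual.D A} (h : IsZero X) (n : ℤ) : Tors a X n :=
  tors_of_subsingleton a (ModuleCat.subsingleton_of_isZero (Functor.map_isZero (hF A n) h))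

theorem Tors.of_iso {a : A} {X Y : Dual.D A} (e : X ≅ Y) {n : ℤ} (h : Tors a X n) : Tors a Y n := fun y => by
  obtain ⟨k, hk⟩ := h (((hF A n).mapIso e).toLinearEquiv.symm y)
  exact ⟨k, ((hF A n).mapIso e).toLinearEquiv.symm.injective (by rw [map_smul, hk, map_zero])⟩

theorem exists_preimage {X Y Z : Dual.D A} {f : X ⟶ Y} {g : Y ⟶ Z} {h : Z ⟶ X⟦(1 : ℤ)⟧}
    (hT : Triangle.mk f g h ∈ distTriang (Dual.D A)) {n : ℤ} (y : Dual.HD A Y n)
    (hy : (hF A n).map g y = 0) : ∃ x : Dual.HD A X n, (hF A n).map f x = y :=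
  (ShortComplex.moduleCat_exact_iff _).1 (DerivedCategory.HomologySequence.exact₂ _ hT n) y hy

theorem Tors.middle {a : A} {X Y Z : Dual.D A} {f : X ⟶ Y} {g : Y ⟶ Z} {h : Z ⟶ X⟦(1 : ℤ)⟧}
    (hT : Triangle.mk f g h ∈ distTriang (Dual.D A)) {n : ℤ} (hX : Tors a X n) (hZ : Tors a Z n) : Tors a Y n :=
  fun y => by
    obtain ⟨k, hk⟩ := hZ ((hF A n).map g y)
    obtain ⟨x, hx⟩ := exists_preimage hT (a ^ k • y) (by rw [map_smul, hk])
    obtain ⟨l, hl⟩ := hX x
    exact ⟨l + k, by rw [pow_add, mul_smul, ← hx, ← map_smul, hl, map_zero]⟩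

theorem Tors.third {a : A} {X Y Z : Dual.D A} {f : X ⟶ Y} {g : Y ⟶ Z} {h : Z ⟶ X⟦(1 : ℤ)⟧}
    (hT : Triangle.mk f g h ∈ distTriang (Dual.D A)) {n : ℤ} (hY : Tors a Y n) (hX : Tors a X (n + 1)) : Tors a Z n := by
  refine Tors.middle (rot_of_distTriang _ hT) hY fun w => ?_
  let e := (((DerivedCategory.homologyFunctor (ModuleCat.{u} A) 0).shiftIso (1 : ℤ) n (n + 1) (by lia)).app X).toLinearEquiv
  obtain ⟨k, hk⟩ := hX (e w)
  exact ⟨k, e.injective (by rw [map_smul, hk, map_zero])⟩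

theorem smul_eq_zero_of_map {M N : ModuleCat.{u} A} (f : M ⟶ N) {c : A} {u : M} {z : N} (hu : f u = z)
    (h : c • u = 0) : c • z = 0 := by
  rw [← hu, ← map_smul, h, map_zero]

variable [IsNoetherianRing A]

theorem eq_zero_of_torsion (K : Ideal A) [DRing.HasRgammaI K] {S X : Dual.D A}
    (hS : ∀ n, LocCoh.IsPowerTorsion K (Dual.HD A S n)) (hX : IsZero ((DRing.RgammaI K).obj X)) (v : S ⟶ X) :
    v = 0 := by
  haveI := isIso_ε K hS
  have hn := (DRing.RgammaIε K).naturality v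
  simp only [Functor.id_map] at hn
  rw [hX.eq_of_tgt ((DRing.RgammaI K).map v) 0, zero_comp] at hn
  exact (cancel_epi ((DRing.RgammaIε K).app S)).1 (hn.symm.trans comp_zero.symm)

theorem isZero_of_ε_eq_zero (K : Ideal A) [DRing.HasRgammaI K] {X : Dual.D A}
    (h : (DRing.RgammaIε K).app X = 0) : IsZero ((DRing.RgammaI K).obj X) := by
  haveI := isIso_map_ε K X
  haveI := isIso_ε K (isPowerTorsion_HD K X)
  have hZ : IsZero (0 : Dual.D A) := isZero_zero _
  haveI := isIso_ε K (X := (0 : Dual.D A)) fun n x => ⟨0, fun a _ => by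
    haveI := ModuleCat.subsingleton_of_isZero (Functor.map_isZero (hF A n) hZ)
    exact Subsingleton.elim (α := (hF A n).obj 0) _ _⟩
  have hZ' : IsZero ((DRing.RgammaI K).obj 0) := hZ.of_iso (asIso ((DRing.RgammaIε K).app (0 : Dual.D A)))
  have h0 : (DRing.RgammaI K).map ((DRing.RgammaIε K).app X) = 0 := by
    rw [h, show (0 : (DRing.RgammaI K).obj X ⟶ (𝟭 (Dual.D A)).obj X) =
      (0 : (DRing.RgammaI K).obj X ⟶ (0 : Dual.D A)) ≫ (0 : (0 : Dual.D A) ⟶ X) from zero_comp.symm,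
      Functor.map_comp, hZ'.eq_of_tgt ((DRing.RgammaI K).map _) 0, zero_comp]
  have h1 := IsIso.inv_hom_id ((DRing.RgammaI K).map ((DRing.RgammaIε K).app X))
  exact (IsZero.iff_id_eq_zero _).2 (h1.symm.trans ((congrArg _ h0).trans comp_zero))

theorem isZero_RΓ_mono {I K : Ideal A} [DRing.HasRgammaI I] [DRing.HasRgammaI K] (hle : I ≤ K) {X : Dual.D A}
    (h : IsZero ((DRing.RgammaI I).obj X)) : IsZero ((DRing.RgammaI K).obj X) :=
  isZero_of_ε_eq_zero K (eq_zero_of_torsion I (fun n x => by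
    obtain ⟨k, hk⟩ := isPowerTorsion_HD K X n x
    exact ⟨k, fun a ha => hk a (Ideal.pow_right_mono hle k ha)⟩) h _)

/-- complete objects with no sections supported in `J ⊔ I` have none supported in `J` -/
theorem isZero_RΓ_of_complete (I J : Ideal A) [DRing.HasRgammaI I] [DRing.HasRgammaI J] [DRing.HasRgammaI (J ⊔ I)]
    {X : Dual.D A} (hc : DRing.IsDerivedComplete I X) (h : IsZero ((DRing.RgammaI (J ⊔ I)).obj X)) :
    IsZero ((DRing.RgammaI J).obj X) := by
  refine isZero_of_ε_eq_zero J ?_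
  obtain ⟨D, g, δ, hT⟩ := distinguished_cocone_triangle ((DRing.RgammaIε I).app ((DRing.RgammaI J).obj X))
  have hD : NoHom I D := noHom_of_isZero_RΓ I ((isZero_RΓ_cone_iff I hT).2 (isIso_map_ε I _))
  refine (bijective_of_noHom I hT hD hc).1 ?_
  obtain ⟨e⟩ := Groth.Agent.S1816.result A J I X
  change _ ≫ (DRing.RgammaIε J).app X = _ ≫ 0
  rw [comp_zero]
  exact eq_zero_of_torsion (J ⊔ I)
    (fun n => RHomMod.isPowerTorsion_of_iso e.symm (isPowerTorsion_HD (J ⊔ I) X) n) h _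

/-- killers of `H^i` of a completion -/
theorem smul_completion_eq_zero (I : Ideal A) [DRing.HasRgammaI I] [DRing.HasDerivedCompletion I] (K : Dual.D A)
    (c : A) (i : ℤ) (h : ∀ w : (DRing.RgammaI I).obj (Dual.inD A A) ⟶ ((DRing.RgammaI I).obj K)⟦i⟧, c • w = 0)
    (x : Dual.HD A ((DRing.derivedCompletion I).obj K).obj i) : c • x = 0 := by
  obtain ⟨D₀, g₀, δ₀, hT₀⟩ := distinguished_cocone_triangle (DRing.toDerivedCompletion I K)
  obtain ⟨D₁, g₁, δ₁, hT₁⟩ := distinguished_cocone_triangle ((DRing.RgammaIε I).app K)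
  obtain ⟨D₂, g₂, δ₂, hT₂⟩ := distinguished_cocone_triangle ((DRing.RgammaIε I).app (Dual.inD A A))
  have hD₀ : NoHom I D₀ := RHomMod.noHom_cone_completion I _ hT₀
  have hD₁ : NoHom I D₁ := noHom_of_isZero_RΓ I ((isZero_RΓ_cone_iff I hT₁).2 (isIso_map_ε I _))
  have hD₂ : NoHom I D₂ := noHom_of_isZero_RΓ I ((isZero_RΓ_cone_iff I hT₂).2 (isIso_map_ε I _))
  have hC := isPowerTorsion_HD I (Dual.inD A A)
  have hhom : ∀ v : Dual.inD A A ⟶ ((DRing.derivedCompletion I).obj K).obj⟦i⟧, c • v = 0 := by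
    intro v
    refine (bijective_of_noHom I hT₂ hD₂ (complete_shift ((DRing.derivedCompletion I).obj K).property i)).1 ?_
    obtain ⟨w₀, hw₀⟩ := CompKill.exists_lift I hT₀ hD₀ hC i ((DRing.RgammaIε I).app (Dual.inD A A) ≫ v)
    obtain ⟨w₁, hw₁⟩ := CompKill.exists_lift I hT₁ hD₁ hC i w₀
    change _ ≫ (c • v) = _ ≫ 0
    rw [Linear.comp_smul, comp_zero, ← hw₀, ← hw₁, ← Linear.smul_comp, ← Linear.smul_comp, h w₁, zero_comp, zero_comp]
  let es := ((DerivedCategory.homologyFunctor (ModuleCat.{u} A) 0).shiftIso i 0 i (add_zero i)).app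
    ((DRing.derivedCompletion I).obj K).obj
  obtain ⟨z, rfl⟩ := es.toLinearEquiv.surjective x
  obtain ⟨v, hv⟩ := (WContr.DC.evH_bijective (ModuleCat.of A A) _).2 (ModuleCat.ofHom (LinearMap.toSpanSingleton A _ z))
  refine (es.toLinearEquiv.map_smul _ z).symm.trans ((congrArg es.toLinearEquiv ?_).trans es.toLinearEquiv.map_zero)
  have h1 := congrArg (WContr.DC.evH (ModuleCat.of A A) _) (hhom v)
  rw [← Category.comp_id v, ← Linear.comp_smul, WContr.DC.evH_comp, hv, hF_map_smul,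
    show WContr.DC.evH (ModuleCat.of A A) _ (0 : Dual.inD A A ⟶ _) = 0 by simp [WContr.DC.evH]] at h1
  have h2 := congr($(h1).hom (1 : A))
  change c • ((1 : A) • z) = 0 at h2
  rw [one_smul] at h2
  exact h2

/-- elements killed by powers of generators of `I` are torsion if the local cohomology is -/
theorem tors_of_lift (a : A) (t : Finset A) {I : Ideal A} [DRing.HasRgammaI I]
    (hI : Ideal.span (t : Set A) = I) {E : Dual.D A} {i : ℤ} (hlow : ∀ b, b < i → Tors a E b)
    (hΓ : Tors a ((DRing.RgammaI I).obj E) i) (x : Dual.HD A E i) (hx : ∀ g ∈ t, ∃ n : ℕ, g ^ n • x = 0) :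
    ∃ k : ℕ, a ^ k • x = 0 := by
  classical
  suffices key : ∀ r : Finset A, r ⊆ t → ∀ (Y : Dual.D A) (φ : Y ⟶ E), (∀ g ∈ t, g ∉ r → UKill g Y) →
      (∀ b, b < i → Tors a Y b) → ∀ y : Dual.HD A Y i, (∀ g ∈ r, ∃ n : ℕ, g ^ n • y = 0) →
      ∃ k : ℕ, a ^ k • (hF A i).map φ y = 0 by
    obtain ⟨k, hk⟩ := key t subset_rfl E (𝟙 E) (fun g hg hg' => absurd hg hg') hlow x hx
    rw [CategoryTheory.Functor.map_id] at hk
    exact ⟨k, hk⟩
  intro r
  induction r using Finset.induction_on with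
  | empty =>
    intro _ Y φ hk _ y _
    have hY : ∀ n, LocCoh.IsPowerTorsion I (Dual.HD A Y n) := fun n => by
      rw [← hI]
      exact isPowerTorsion_of_tkill t (fun g hg m z => by
        obtain ⟨e, he⟩ := hk g hg (by simp) m
        exact ⟨e, he z⟩) n
    haveI := isIso_ε I hY
    have hn := (DRing.RgammaIε I).naturality φ
    simp only [Functor.id_map] at hn
    rw [show φ = inv ((DRing.RgammaIε I).app Y) ≫ (DRing.RgammaI I).map φ ≫ (DRing.RgammaIε I).app E by
      rw [hn, IsIso.inv_hom_id_assoc]]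
    rw [Functor.map_comp, Functor.map_comp]
    obtain ⟨k, hk'⟩ := hΓ ((hF A i).map ((DRing.RgammaI I).map φ) ((hF A i).map (inv ((DRing.RgammaIε I).app Y)) y))
    refine ⟨k, ?_⟩
    change a ^ k • (hF A i).map ((DRing.RgammaIε I).app E) _ = 0
    rw [← map_smul]
    erw [hk', map_zero]
  | @insert g r _ ih =>
    intro hr Y φ hk hlow y hy
    obtain ⟨hg, hr'⟩ := Finset.insert_subset_iff.1 hr
    obtain ⟨n, hn⟩ := hy g (Finset.mem_insert_self g r)
    obtain ⟨C, hC⟩ := exists_mulCone (g ^ n) Y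
    obtain ⟨γ, δ, hT⟩ := id hC
    let T₁ := (Triangle.mk ((g ^ n) • 𝟙 Y) γ δ).invRotate
    have hT₁ : T₁ ∈ distTriang (Dual.D A) := inv_rot_of_distTriang _ hT
    obtain ⟨z, hz⟩ := exists_preimage (f := T₁.mor₁) (g := T₁.mor₂) (h := T₁.mor₃) hT₁ y (by
      change (hF A i).map ((g ^ n) • 𝟙 Y) y = 0
      rw [hF_map_smul]
      exact hn)
    have hUK : ∀ b : A, UKill b C → UKill b T₁.obj₁ := fun b hb q => by
      obtain ⟨e, he⟩ := hb (-1 + q)
      let f := (((DerivedCategory.homologyFunctor (ModuleCat.{u} A) 0).shiftIso (-1 : ℤ) q (-1 + q) rfl).app C).toLinearEquiv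
      exact ⟨e, fun z => f.injective (by rw [map_smul, he, map_zero])⟩
    have hlowZ : ∀ b, b < i → Tors a T₁.obj₁ b := fun b hb => by
      refine Tors.middle (f := T₁.invRotate.mor₁) (g := T₁.invRotate.mor₂) (h := T₁.invRotate.mor₃)
        (inv_rot_of_distTriang _ hT₁) (fun z => ?_) (hlow b hb)
      let f := (((DerivedCategory.homologyFunctor (ModuleCat.{u} A) 0).shiftIso (-1 : ℤ) b (-1 + b) rfl).app Y).toLinearEquiv
      obtain ⟨e, he⟩ := hlow (-1 + b) (by lia) (f z)
      exact ⟨e, f.injective (by rw [map_smul, he, map_zero])⟩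
    have hker : ∀ z' : Dual.HD A T₁.obj₁ i, (hF A i).map T₁.mor₁ z' = 0 → ∃ k : ℕ, a ^ k • z' = 0 := fun z' hz' => by
      obtain ⟨u, hu⟩ := exists_preimage (f := T₁.invRotate.mor₁) (g := T₁.invRotate.mor₂) (h := T₁.invRotate.mor₃)
        (inv_rot_of_distTriang _ hT₁) z' hz'
      let f := (((DerivedCategory.homologyFunctor (ModuleCat.{u} A) 0).shiftIso (-1 : ℤ) i (-1 + i) rfl).app Y).toLinearEquiv
      obtain ⟨e, he⟩ := hlow (-1 + i) (by lia) (f u)
      exact ⟨e, smul_eq_zero_of_map _ hu (f.injective (by rw [map_smul, he, map_zero]))⟩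
    have hclean : ∀ h : A, ∀ m : ℕ, h ^ m • y = 0 → ∃ k : ℕ, a ^ k • h ^ m • z = 0 := fun h m hm =>
      hker _ (by rw [map_smul, hz, hm])
    choose m hm using fun h : r => hy h.1 (Finset.mem_insert_of_mem h.2)
    choose k hk₂ using fun h : r => hclean h.1 (m h) (hm h)
    obtain ⟨K, hK⟩ : ∃ K : ℕ, ∀ h, k h ≤ K := ⟨Finset.univ.sup k, fun h => Finset.le_sup (Finset.mem_univ h)⟩
    obtain ⟨l, hl⟩ := ih hr' T₁.obj₁ (T₁.mor₁ ≫ φ) (fun b hb hbr => by
        by_cases hbg : b = g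
        · subst hbg
          refine hUK b fun q => ?_
          obtain ⟨e, he⟩ := mulCone_kill hC q
          exact ⟨n * e, fun z => by rw [pow_mul]; exact he z⟩
        · exact hUK b (mulCone_ukill hC (hk b hb (by simp [hbg, hbr]))))
      hlowZ (a ^ K • z) fun h hh => ⟨m ⟨h, hh⟩, by
        rw [smul_comm, ← Nat.sub_add_cancel (hK ⟨h, hh⟩), pow_add, mul_smul, hk₂ ⟨h, hh⟩, smul_zero]⟩
    refine ⟨l + K, ?_⟩
    rw [pow_add, mul_smul]
    rw [Functor.map_comp] at hl
    change a ^ l • (hF A i).map φ ((hF A i).map T₁.mor₁ (a ^ K • z)) = 0 at hl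
    rwa [map_smul, map_smul, hz] at hl

/-- torsion of a completion from torsion along products -/
theorem tors_completion (a : A) (t : Finset A) {I : Ideal A} [DRing.HasRgammaI I]
    (hI : Ideal.span (t : Set A) = I) {E : Dual.D A} (hΓ : ∀ n, Tors a ((DRing.RgammaI I).obj E) n) (lo s : ℤ)
    (hlo : ∀ b, b < lo → Subsingleton (Dual.HD A E b))
    (hag : ∀ g ∈ t, ∀ b, b ≤ s → Tors (a * g) E b) (b : ℤ) (hb : b ≤ s) : Tors a E b := by
  suffices key : ∀ k : ℕ, ∀ b, b < lo + k → b ≤ s → Tors a E b from key ((b - lo).toNat + 1) b (by lia) hb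
  intro k
  induction k with
  | zero => exact fun b hb _ => tors_of_subsingleton a (hlo b (by lia))
  | succ k ih =>
    intro b hbk hbs
    by_cases hb : b < lo + k
    · exact ih b hb hbs
    intro x
    classical
    choose e he using fun g : t => hag g.1 g.2 b hbs x
    let N := Finset.univ.sup e
    obtain ⟨l, hl⟩ := tors_of_lift a t hI (fun b' hb' => ih b' (by lia) (by lia)) (hΓ b) (a ^ N • x) fun g hg =>
      ⟨e ⟨g, hg⟩, by
        have hle : e ⟨g, hg⟩ ≤ N := Finset.le_sup (Finset.mem_univ _)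
        rw [← Nat.sub_add_cancel hle, pow_add, mul_smul, smul_comm (g ^ _), smul_smul (g ^ _), mul_comm (g ^ _),
          ← mul_pow, he ⟨g, hg⟩, smul_zero]⟩
    exact ⟨l + N, by rw [pow_add, mul_smul, hl]⟩

/-- a map inverted by `RΓ_J` with torsion cohomology up to degree `s` is bijective there -/
theorem bijective_of_tors (t : Finset A) {J : Ideal A} [DRing.HasRgammaI J] (hJ : Ideal.span (t : Set A) = J)
    {X Y W : Dual.D A} {u : X ⟶ Y} {g : Y ⟶ W} {δ : W ⟶ X⟦(1 : ℤ)⟧}
    (hT : Triangle.mk u g δ ∈ distTriang (Dual.D A)) (hW : IsZero ((DRing.RgammaI J).obj W)) (lo s : ℤ)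
    (hlo : ∀ b, b < lo → Subsingleton (Dual.HD A W b))
    (hX : ∀ a ∈ t, ∀ b, Tors a X b) (hY : ∀ a ∈ t, ∀ b, b ≤ s → Tors a Y b) (i : ℤ) (hi : i ≤ s) :
    Function.Bijective ((hF A i).map u).hom := by
  have hzero : ∀ k : ℕ, ∀ b, b < lo + k → b ≤ s → Subsingleton (Dual.HD A W b) := by
    intro k
    induction k with
    | zero => exact fun b hb _ => hlo b (by lia)
    | succ k ih =>
      intro b hbk hbs
      by_cases hb : b < lo + k
      · exact ih b hb hbs
      refine subsingleton_of_forall_eq 0 fun x => ?_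
      obtain ⟨l, hl⟩ := tors_of_lift (1 : A) t hJ (fun b' hb' => tors_of_subsingleton _ (ih b' (by lia) (by lia)))
        (tors_of_isZero _ hW b) x fun a ha => Tors.third hT (hY a ha b hbs) (hX a ha (b + 1)) x
      rwa [one_pow, one_smul] at hl
  have hz : ∀ b, b ≤ s → IsZero ((hF A b).obj W) := fun b hb =>
    @ModuleCat.isZero_of_subsingleton _ _ _ (hzero ((b - lo).toNat + 1) b (by lia) hb)
  haveI : Epi ((hF A i).map u) := (DerivedCategory.HomologySequence.epi_homologyMap_mor₁_iff _ hT i).2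
    ((hz i hi).eq_of_tgt _ _)
  haveI : Mono ((hF A i).map u) := (DerivedCategory.HomologySequence.mono_homologyMap_mor₁_iff _ hT (i - 1) i (by lia)).2
    ((hz (i - 1) (by lia)).eq_of_src _ _)
  haveI := isIso_of_mono_of_epi ((hF A i).map u)
  exact (ConcreteCategory.isIso_iff_bijective _).1 inferInstance

end

end Groth.Agent.HTLib.CompTors
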