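import Groth.Agent.HTLib.FlatDual
import Groth.Agent.HTLib.Boot
import Groth.Agent.AdicFibres.Completion
import Groth.Agent.LocH.ChangeRings
import Groth.Agent.LocH.TopDegree

/-!
Depth of completions of localisations over a ring with a dualizing complex.
-/

set_option autoImplicit false
set_option maxHeartbeats 1000000
set_option linter.style.haveILetI false
universe u

namespace Groth.Agent.HTLib

open CategoryTheory DualCx TensorProduct IsLocalRing

attribute [local instance] HasDerivedCategory.standard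

noncomputable section

theorem int_aux₁ {x y z : ℤ} {d k : ℕ} (hxy : y ≤ x) (hyz : z ≤ y) (hk : (x - z).toNat = k)
    (hd : (y - z).toNat ≤ d) : k ≤ (x - y).toNat + d := by omega

theorem depth_arith {e : ℕ∞} {k k' d s : ℕ}
    (h : ((d + s : ℕ) : WithBot ℕ∞) < ((e : ℕ∞) : WithBot ℕ∞) + ((k : ℕ) : WithBot ℕ∞)) (hk : k ≤ k' + d) :
    (s : ℕ∞) < e + (k' : ℕ∞) := by
  rcases eq_or_ne e ⊤ with rfl | he
  · rw [top_add]; exact ENat.coe_lt_top s
  obtain ⟨m, rfl⟩ := ENat.ne_top_iff_exists.1 he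
  rw [WithBot.coe_natCast] at h
  norm_cast at h ⊢
  omega

theorem cdLE_baseChange {R : Type u} [CommRing R] [IsNoetherianRing R] (S : Type u) [CommRing S]
    [IsNoetherianRing S] [Algebra R S] {c : Ideal R} {k : ℕ} (hk : LocCoh.CdLE R c k) :
    LocCoh.CdLE S (c.map (algebraMap R S)) k := fun M _ _ i hi => by
  letI : Module R M := Module.compHom M (algebraMap R S)
  haveI : IsScalarTower R S M := ⟨fun r x m => by
    rw [Algebra.smul_def, mul_smul]; rfl⟩
  obtain ⟨φ, -⟩ := LocH.exists_semilinearEquiv (R' := S) (I := c) i M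
  haveI : Subsingleton ↑((CategoryTheory.Functor.obj (localCohomology c i)) (ModuleCat.of R M)) := hk M i hi
  exact φ.toEquiv.subsingleton

variable {A : Type u} [CommRing A] [IsNoetherianRing A] {ω : Dual.D A} (hω : Dual.IsDualizing A ω)
  (I : Ideal A) (q : PrimeSpectrum A)

/-- The `I`-adic completion of `A_q`. -/
abbrev CB : Type u := AdicCompletion (I.map (algebraMap A (Localization.AtPrime q.asIdeal))) (Localization.AtPrime q.asIdeal)

theorem isNoetherianRing_CB : IsNoetherianRing (CB I q) :=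
  haveI : IsNoetherianRing (Localization.AtPrime q.asIdeal) :=
    IsLocalization.isNoetherianRing q.asIdeal.primeCompl _ inferInstance
  ResExt.isNoetherianRing_adicCompletion _ (IsNoetherian.noetherian _)

theorem flat_CB : Module.Flat A (CB I q) :=
  haveI := isNoetherianRing_CB I q
  haveI : Module.Flat A (Localization.AtPrime q.asIdeal) := IsLocalization.flat _ q.asIdeal.primeCompl
  ResExt.flat_adicCompletion I (Localization.AtPrime q.asIdeal)

theorem maximal_CB (n : Ideal (CB I q)) (hn : n.IsMaximal) :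
    n.comap (algebraMap A (CB I q)) = q.asIdeal ∧ q.asIdeal.map (algebraMap A (CB I q)) = n := by
  haveI : IsNoetherianRing (Localization.AtPrime q.asIdeal) :=
    IsLocalization.isNoetherianRing q.asIdeal.primeCompl _ inferInstance
  haveI := hn
  obtain ⟨-, h2, h3⟩ := AdicFibres.maximal_setup (Localization.AtPrime q.asIdeal)
    (I.map (algebraMap A (Localization.AtPrime q.asIdeal))) n
  rw [eq_maximalIdeal h2] at h3
  constructor
  · rw [IsScalarTower.algebraMap_eq A (Localization.AtPrime q.asIdeal) (CB I q), ← Ideal.comap_comap,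
      eq_maximalIdeal h2]
    exact Localization.AtPrime.comap_maximalIdeal
  · rw [IsScalarTower.algebraMap_eq A (Localization.AtPrime q.asIdeal) (CB I q), ← Ideal.map_map,
      Localization.AtPrime.map_eq_maximalIdeal, ← h3]

theorem maximal_CB_unique (n n' : Ideal (CB I q)) (hn : n.IsMaximal) (hn' : n'.IsMaximal) : n = n' :=
  (maximal_CB I q n hn).2.symm.trans (maximal_CB I q n' hn').2

include hω in
theorem isDualizing_CB : haveI := flat_CB I q; Dual.IsDualizing (CB I q) (DualFlat.KB (CB I q) ω) := by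
  haveI := flat_CB I q
  haveI := isNoetherianRing_CB I q
  haveI := DRingKP.hasLBaseChange (algebraMap A (CB I q))
  refine DualCx.isDualizing_of_iso (DualCx.lBaseChangeObjIso (algebraMap A (CB I q)) ω)
    (DualFlat.isDualizing_lBaseChange_unramified (CB I q) ω (fun n hn => ?_) hω)
  obtain ⟨h1, h2⟩ := maximal_CB I q n hn
  rw [h1, h2]

variable (M : Type u) [AddCommGroup M] [Module A M] [Module.Finite A M]

/-- `M^∧_q = B ⊗_A M`. -/
theorem nonempty_MB :
    Nonempty (AdicCompletion (I.map (algebraMap A (Localization.AtPrime q.asIdeal)))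
      (LocalizedModule q.asIdeal.primeCompl M) ≃ₗ[CB I q] DualFlat.EM (A := A) (CB I q) M) := by
  haveI : IsNoetherianRing (Localization.AtPrime q.asIdeal) :=
    IsLocalization.isNoetherianRing q.asIdeal.primeCompl _ inferInstance
  haveI : Module.Finite (Localization.AtPrime q.asIdeal) (LocalizedModule q.asIdeal.primeCompl M) :=
    Module.Finite.of_isLocalizedModule q.asIdeal.primeCompl (LocalizedModule.mkLinearMap q.asIdeal.primeCompl M)
  let e1 := (AdicCompletion.ofTensorProductEquivOfFiniteNoetherian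
    (I.map (algebraMap A (Localization.AtPrime q.asIdeal))) (LocalizedModule q.asIdeal.primeCompl M)).symm
  let e2 : CB I q ⊗[Localization.AtPrime q.asIdeal] LocalizedModule q.asIdeal.primeCompl M ≃ₗ[CB I q]
      CB I q ⊗[Localization.AtPrime q.asIdeal] (Localization.AtPrime q.asIdeal ⊗[A] M) :=
    TensorProduct.AlgebraTensorModule.congr (LinearEquiv.refl _ _) (LocalizedModule.equivTensorProduct q.asIdeal.primeCompl M)
  exact ⟨e1 ≪≫ₗ e2 ≪≫ₗ TensorProduct.AlgebraTensorModule.cancelBaseChange A (Localization.AtPrime q.asIdeal)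
    (CB I q) (CB I q) M ≪≫ₗ (DualFlat.tens (A := A) (CB I q) M).symm⟩

include hω in
/-- Depth of `M^∧_q` at a prime over `p`. -/
theorem depth_MB (p' : PrimeSpectrum (CB I q)) (p : PrimeSpectrum A)
    (hp : PrimeSpectrum.comap (algebraMap A (CB I q)) p' = p) :
    haveI := flat_CB I q
    haveI := isNoetherianRing_CB I q
    LocCoh.depth (Localization.AtPrime p'.asIdeal) (LocalizedModule p'.asIdeal.primeCompl
        (AdicCompletion (I.map (algebraMap A (Localization.AtPrime q.asIdeal))) (LocalizedModule q.asIdeal.primeCompl M))) =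
      LocCoh.depth (Localization.AtPrime p.asIdeal) (LocalizedModule p.asIdeal.primeCompl M) +
        (((del hω p - del (isDualizing_CB hω I q) p').toNat : ℕ) : ℕ∞) := by
  haveI := flat_CB I q
  haveI := isNoetherianRing_CB I q
  obtain ⟨e⟩ := nonempty_MB I q M
  rw [← depth_EM hω (isDualizing_CB hω I q) M p' p hp]
  exact LocH.idealDepth_congr ((IsLocalizedModule.linearEquiv p'.asIdeal.primeCompl
    (LocalizedModule.mkLinearMap p'.asIdeal.primeCompl _)
    ((LocalizedModule.mkLinearMap p'.asIdeal.primeCompl (DualFlat.EM (A := A) (CB I q) M)).comp e.toLinearMap)).extendScalarsOfIsLocalization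
      p'.asIdeal.primeCompl _) _

omit [IsNoetherianRing A] in
theorem le_of_comap {p' : PrimeSpectrum (CB I q)} {p : PrimeSpectrum A}
    (hp : PrimeSpectrum.comap (algebraMap A (CB I q)) p' = p) [IsNoetherianRing A] : p ≤ q := by
  subst hp
  obtain ⟨n, hn, hle⟩ := p'.asIdeal.exists_le_maximal p'.isPrime.ne_top
  exact (Ideal.comap_mono hle).trans (maximal_CB I q n hn).1.le

variable (s : ℕ)

include hω in
/-- Primes cut out by `I` inside `T` have depth `> s`. -/
theorem depth_gt_of_completions (T : Set (PrimeSpectrum A))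
    (h6 : ∀ q : PrimeSpectrum A, q ∈ T → ∀ p' : PrimeSpectrum (CB I q),
      ¬ (I.map (algebraMap A (CB I q))) ≤ p'.asIdeal →
      (∀ q' : PrimeSpectrum (CB I q), p' ≤ q' → (I.map (algebraMap A (CB I q))) ≤ q'.asIdeal → q'.asIdeal.IsMaximal) →
      (s : ℕ∞) < LocCoh.depth (Localization.AtPrime p'.asIdeal) (LocalizedModule p'.asIdeal.primeCompl
        (AdicCompletion (I.map (algebraMap A (Localization.AtPrime q.asIdeal))) (LocalizedModule q.asIdeal.primeCompl M))))
    (p q : PrimeSpectrum A) (hpq : p ≤ q) (hp : ¬ I ≤ p.asIdeal) (hIq : I ≤ q.asIdeal)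
    (hr : ∀ r : PrimeSpectrum A, p ≤ r → r ≤ q → I ≤ r.asIdeal → r ∈ T) :
    (s : ℕ∞) < LocCoh.depth (Localization.AtPrime p.asIdeal) (LocalizedModule p.asIdeal.primeCompl M) := by
  obtain ⟨r, hr₀, hr₀q⟩ : ∃ r : PrimeSpectrum A, r.asIdeal ∈ (p.asIdeal ⊔ I).minimalPrimes ∧ r ≤ q := by
    obtain ⟨r₀, hr₀, hr₀q⟩ := Ideal.exists_minimalPrimes_le (I := p.asIdeal ⊔ I) (J := q.asIdeal) (sup_le hpq hIq)
    exact ⟨⟨r₀, hr₀.1.1⟩, hr₀, hr₀q⟩
  have hrT : r ∈ T := hr r (le_sup_left.trans hr₀.1.2) hr₀q (le_sup_right.trans hr₀.1.2)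
  haveI := flat_CB I r
  haveI := isNoetherianRing_CB I r
  haveI : Nontrivial (CB I r) := by
    by_contra hn
    haveI : Subsingleton (CB I r) := not_nontrivial_iff_subsingleton.1 hn
    have h := congrArg (AdicCompletion.evalₐ (I.map (algebraMap A (Localization.AtPrime r.asIdeal))) 1)
      (Subsingleton.elim (1 : CB I r) 0)
    rw [map_one, map_zero] at h
    rw [← map_one (Ideal.Quotient.mk _), Ideal.Quotient.eq_zero_iff_mem, pow_one] at h
    refine (maximalIdeal.isMaximal (Localization.AtPrime r.asIdeal)).ne_top ((Ideal.eq_top_iff_one _).2 ?_)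
    rw [← Localization.AtPrime.map_eq_maximalIdeal]
    exact Ideal.map_mono (show I ≤ r.asIdeal from le_sup_right.trans hr₀.1.2) h
  obtain ⟨n, hn⟩ := Ideal.exists_maximal (CB I r)
  obtain ⟨hn1, hn2⟩ := maximal_CB I r n hn
  have hpn : p.asIdeal.map (algebraMap A (CB I r)) ≤ n :=
    hn2 ▸ Ideal.map_mono (le_sup_left.trans hr₀.1.2)
  obtain ⟨P, hP, -⟩ := Ideal.exists_minimalPrimes_le hpn
  let p' : PrimeSpectrum (CB I r) := ⟨P, hP.1.1⟩
  have hc := comap_minimal p p' hP
  have h := h6 r hrT p' (fun hle => hp ?_) (fun q' hq' hIq' => ?_)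
  · rw [depth_MB hω I r M p' p hc, del_eq_of_minimal hω (isDualizing_CB hω I r) p p' hP, sub_self,
      Int.toNat_zero, Nat.cast_zero, add_zero] at h
    exact h
  · rw [← hc]; exact Ideal.map_le_iff_le_comap.1 hle
  · obtain ⟨n', hn', hle⟩ := q'.asIdeal.exists_le_maximal q'.isPrime.ne_top
    have h1 : p.asIdeal ⊔ I ≤ q'.asIdeal.comap (algebraMap A (CB I r)) :=
      sup_le (hc ▸ Ideal.comap_mono hq') (Ideal.map_le_iff_le_comap.1 hIq')
    have h2 : q'.asIdeal.comap (algebraMap A (CB I r)) ≤ r.asIdeal :=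
      (Ideal.comap_mono hle).trans (maximal_CB I r n' hn').1.le
    have h3 : r.asIdeal ≤ q'.asIdeal.comap (algebraMap A (CB I r)) := hr₀.2 ⟨inferInstance, h1⟩ h2
    have h4 : n' ≤ q'.asIdeal := (maximal_CB I r n' hn').2 ▸ Ideal.map_le_iff_le_comap.2 h3
    rw [le_antisymm hle h4]
    exact hn'

include hω in
/-- Dimension of the branches of a completion are bounded by `cd`. -/
theorem del_sub_le {d : ℕ} (hcd : LocCoh.CdLE A I d) (p' n : PrimeSpectrum (CB I q)) (hn : n.asIdeal.IsMaximal)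
    (hle : p' ≤ n)
    (h : ∀ q' : PrimeSpectrum (CB I q), p' ≤ q' → (I.map (algebraMap A (CB I q))) ≤ q'.asIdeal → q'.asIdeal.IsMaximal)
    (hIn : I.map (algebraMap A (CB I q)) ≤ n.asIdeal) :
    haveI := flat_CB I q
    haveI := isNoetherianRing_CB I q
    (del (isDualizing_CB hω I q) p' - del (isDualizing_CB hω I q) n).toNat ≤ d := by
  haveI := flat_CB I q
  haveI := isNoetherianRing_CB I q
  have hk := cdLE_baseChange (CB I q ⧸ p'.asIdeal) hcd
  rw [IsScalarTower.algebraMap_eq A (CB I q) (CB I q ⧸ p'.asIdeal), ← Ideal.map_map,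
    Ideal.Quotient.algebraMap_eq] at hk
  let π := Ideal.Quotient.mk p'.asIdeal
  have hker : RingHom.ker π = p'.asIdeal := Ideal.mk_ker
  have hπ : Function.Surjective π := Ideal.Quotient.mk_surjective
  have hcm : (n.asIdeal.map π).comap π = n.asIdeal := by
    rw [Ideal.comap_map_of_surjective _ hπ, ← RingHom.ker_eq_comap_bot, hker, sup_eq_left.2 hle]
  haveI := hn
  haveI hmax : (n.asIdeal.map π).IsMaximal := by
    refine (Ideal.map_eq_top_or_isMaximal_of_surjective π hπ hn).resolve_left fun ht => hn.ne_top ?_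
    rw [← hcm, ht, Ideal.comap_top]
  have hmin : n.asIdeal.map π ∈ ((I.map (algebraMap A (CB I q))).map π).minimalPrimes := by
    refine ⟨⟨hmax.isPrime, Ideal.map_mono hIn⟩, fun Q hQ hQn => ?_⟩
    have hQ' : (Q.comap π).IsMaximal := h ⟨Q.comap π, hQ.1.comap π⟩
      (show p'.asIdeal ≤ Q.comap π from hker.ge.trans (Ideal.comap_mono bot_le)) (Ideal.map_le_iff_le_comap.1 hQ.2)
    rw [← Ideal.map_comap_of_surjective π hπ Q]
    exact Ideal.map_mono (hQ'.eq_of_le hn.ne_top (hcm ▸ Ideal.comap_mono hQn)).ge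
  have h1 := LocH.height_le_of_cdLE hk hmin
  have h2 : ((n.asIdeal.map π).height : WithBot ℕ∞) = ringKrullDim (CB I q ⧸ p'.asIdeal) := by
    haveI : IsLocalRing (CB I q ⧸ p'.asIdeal) := IsLocalRing.of_unique_max_ideal ⟨n.asIdeal.map π, hmax, fun Q hQ => by
      haveI := hQ
      rw [← Ideal.map_comap_of_surjective π hπ Q,
        maximal_CB_unique I q _ n.asIdeal (Ideal.comap_isMaximal_of_surjective π hπ) hn]⟩
    rw [eq_maximalIdeal hmax]
    exact IsLocalRing.maximalIdeal_height_eq_ringKrullDim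
  have h3 : ringKrullDim (CB I q ⧸ p'.asIdeal) = Order.krullDim (Set.Icc p' n) := by
    rw [ringKrullDim_quotient]
    refine Order.krullDim_eq_of_orderIso (OrderIso.setCongr _ _ ?_)
    ext x
    refine ⟨fun hx => ⟨hx, ?_⟩, fun hx => hx.1⟩
    obtain ⟨n', hn', hle'⟩ := x.asIdeal.exists_le_maximal x.isPrime.ne_top
    exact hle'.trans (maximal_CB_unique I q n' n.asIdeal hn' hn).le
  rw [h3, krullDim_Icc (isDualizing_CB hω I q) hle] at h2
  have h4 : ((n.asIdeal.map π).height : WithBot ℕ∞) ≤ ((d : ℕ∞) : WithBot ℕ∞) := WithBot.coe_le_coe.2 h1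
  rw [h2, WithBot.coe_natCast] at h4
  exact_mod_cast h4

include hω in
/-- Condition on depth of completions from depth plus dimension. -/
theorem depth_completion_gt {d : ℕ} (hcd : LocCoh.CdLE A I d) (hIq : I ≤ q.asIdeal)
    (hc : ∀ p : PrimeSpectrum A, p ≤ q → ¬ I ≤ p.asIdeal →
      (s : ℕ∞) < LocCoh.depth (Localization.AtPrime p.asIdeal) (LocalizedModule p.asIdeal.primeCompl M) ∨
        (((d + s : ℕ) : ℕ∞) : WithBot ℕ∞) <
          ((LocCoh.depth (Localization.AtPrime p.asIdeal) (LocalizedModule p.asIdeal.primeCompl M) : ℕ∞) : WithBot ℕ∞) +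
            Formal2.dimBetween A p.asIdeal q.asIdeal)
    (p' : PrimeSpectrum (CB I q)) (hp' : ¬ (I.map (algebraMap A (CB I q))) ≤ p'.asIdeal)
    (h : ∀ q' : PrimeSpectrum (CB I q), p' ≤ q' → (I.map (algebraMap A (CB I q))) ≤ q'.asIdeal → q'.asIdeal.IsMaximal) :
    (s : ℕ∞) < LocCoh.depth (Localization.AtPrime p'.asIdeal) (LocalizedModule p'.asIdeal.primeCompl
      (AdicCompletion (I.map (algebraMap A (Localization.AtPrime q.asIdeal))) (LocalizedModule q.asIdeal.primeCompl M))) := by
  haveI := flat_CB I q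
  haveI := isNoetherianRing_CB I q
  obtain ⟨p, hp⟩ : ∃ p, PrimeSpectrum.comap (algebraMap A (CB I q)) p' = p := ⟨_, rfl⟩
  have hpq := le_of_comap I q hp
  have hIp : ¬ I ≤ p.asIdeal := fun hle => hp' (Ideal.map_le_iff_le_comap.2 (by rw [← hp] at hle; exact hle))
  rw [depth_MB hω I q M p' p hp]
  rcases hc p hpq hIp with hd | hd
  · exact lt_of_lt_of_le hd le_self_add
  obtain ⟨n₀, hn₀, hle⟩ := p'.asIdeal.exists_le_maximal p'.isPrime.ne_top
  obtain ⟨hn1, hn2⟩ := maximal_CB I q n₀ hn₀
  let n : PrimeSpectrum (CB I q) := ⟨n₀, hn₀.isPrime⟩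
  have hIn : I.map (algebraMap A (CB I q)) ≤ n.asIdeal := (Ideal.map_mono hIq).trans hn2.le
  have hδn : del (isDualizing_CB hω I q) n = del hω q :=
    del_eq_of_minimal hω _ q n ⟨⟨hn₀.isPrime, hn2.le⟩, fun Q hQ _ => hn2.ge.trans hQ.2⟩
  have h1 := del_sub_le hω I q hcd p' n hn₀ hle h hIn
  have h2 := del_le_comap hω (isDualizing_CB hω I q) p'
  rw [hp] at h2
  have h3 := del_le (isDualizing_CB hω I q) (show p' ≤ n from hle)
  rw [hδn] at h1 h3
  rw [WithBot.coe_natCast, HTLib.dimBetween_eq hω hpq] at hd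
  exact depth_arith hd (int_aux₁ h2 h3 rfl h1)

end

end Groth.Agent.HTLib
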