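import Groth.Agent.HTLib.CplDepth

/-!
Depth along the `I`-adic completion of a ring with a dualizing complex.
-/

set_option autoImplicit false
set_option maxHeartbeats 1000000
set_option linter.style.haveILetI false
universe u

namespace Groth.Agent.HTLib

open CategoryTheory DualCx TensorProduct IsLocalRing

attribute [local instance] HasDerivedCategory.standard

noncomputable section

theorem nat_aux {x y z : ℤ} (hzx : z ≤ x) (hyz : y ≤ z) : (x - z).toNat + (z - y).toNat = (x - y).toNat := by
  omega

variable {A : Type u} [CommRing A] [IsNoetherianRing A] {ω : Dual.D A} (hω : Dual.IsDualizing A ω) (I : Ideal A)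

include hω in
theorem depth_completion (M : Type u) [AddCommGroup M] [Module A M] [Module.Finite A M]
    (p' q' : PrimeSpectrum (AdicCompletion I A)) (hpq : p' ≤ q')
    (hq : Ideal.map (algebraMap A (AdicCompletion I A)) I ≤ q'.asIdeal) :
    LocCoh.depth (Localization.AtPrime (p'.asIdeal.comap (algebraMap A (AdicCompletion I A))))
        (LocalizedModule (p'.asIdeal.comap (algebraMap A (AdicCompletion I A))).primeCompl M) ≤
      LocCoh.depth (Localization.AtPrime p'.asIdeal) (LocalizedModule p'.asIdeal.primeCompl (AdicCompletion I M)) ∧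
    ((LocCoh.depth (Localization.AtPrime p'.asIdeal) (LocalizedModule p'.asIdeal.primeCompl (AdicCompletion I M)) : ℕ∞) : WithBot ℕ∞) +
        Order.krullDim (Set.Icc p' q') =
      ((LocCoh.depth (Localization.AtPrime (p'.asIdeal.comap (algebraMap A (AdicCompletion I A))))
        (LocalizedModule (p'.asIdeal.comap (algebraMap A (AdicCompletion I A))).primeCompl M) : ℕ∞) : WithBot ℕ∞) +
        Order.krullDim (Set.Icc ((PrimeSpectrum.comap (algebraMap A (AdicCompletion I A))) p')
          ((PrimeSpectrum.comap (algebraMap A (AdicCompletion I A))) q')) := by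
  let B := AdicCompletion I A
  haveI : IsNoetherianRing B := ResExt.isNoetherianRing_adicCompletion _ (IsNoetherian.noetherian _)
  haveI : Module.Flat A B := AdicCompletion.flat_of_isNoetherian I
  haveI := DRingKP.hasLBaseChange (algebraMap A B)
  have hB : Dual.IsDualizing B (DualFlat.KB B ω) :=
    DualCx.isDualizing_of_iso (DualCx.lBaseChangeObjIso (algebraMap A B) ω)
      (DualFlat.isDualizing_lBaseChange_unramified B ω (fun n hn => by
        haveI := hn
        exact (AdicFibres.maximal_setup A I n).2.2.symm) hω)
  let p := PrimeSpectrum.comap (algebraMap A B) p'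
  let q := PrimeSpectrum.comap (algebraMap A B) q'
  have hp : del hB p' ≤ del hω p := del_le_comap hω hB p'
  have hpq' : p ≤ q := Ideal.comap_mono hpq
  have hqmin : q'.asIdeal ∈ (q.asIdeal.map (algebraMap A B)).minimalPrimes := by
    refine ⟨⟨q'.isPrime, Ideal.map_comap_le⟩, fun Q hQ _ b hb => hQ.2 ?_⟩
    obtain ⟨a, h1⟩ := AdicFibres.exists_sub_mem_map A I b
    have h2 : a ∈ q.asIdeal := by
      show algebraMap A B a ∈ q'.asIdeal
      have := sub_mem hb (hq h1)
      rwa [sub_sub_cancel] at this
    have h3 : I ≤ q.asIdeal := Ideal.map_le_iff_le_comap.1 hq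
    have := add_mem (Ideal.map_mono (f := algebraMap A B) h3 h1) (Ideal.mem_map_of_mem (algebraMap A B) h2)
    rwa [sub_add_cancel] at this
  have hδq : del hB q' = del hω q := del_eq_of_minimal hω hB q q' hqmin
  have e : AdicCompletion I M ≃ₗ[B] DualFlat.EM (A := A) B M :=
    (AdicCompletion.ofTensorProductEquivOfFiniteNoetherian I M).symm ≪≫ₗ (DualFlat.tens (A := A) B M).symm
  have hd : LocCoh.depth (Localization.AtPrime p'.asIdeal) (LocalizedModule p'.asIdeal.primeCompl (AdicCompletion I M)) =
      LocCoh.depth (Localization.AtPrime p.asIdeal) (LocalizedModule p.asIdeal.primeCompl M) +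
        (((del hω p - del hB p').toNat : ℕ) : ℕ∞) := by
    rw [← depth_EM hω hB M p' p rfl]
    exact LocH.idealDepth_congr ((IsLocalizedModule.linearEquiv p'.asIdeal.primeCompl
      (LocalizedModule.mkLinearMap p'.asIdeal.primeCompl _)
      ((LocalizedModule.mkLinearMap p'.asIdeal.primeCompl (DualFlat.EM (A := A) B M)).comp e.toLinearMap)).extendScalarsOfIsLocalization
        p'.asIdeal.primeCompl _) _
  refine ⟨hd ▸ le_self_add, ?_⟩
  rw [hd, krullDim_Icc hB hpq, krullDim_Icc hω hpq', WithBot.coe_add, WithBot.coe_natCast, add_assoc, ← Nat.cast_add,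
    nat_aux hp (del_le hB hpq), hδq]
  rfl

end

end Groth.Agent.HTLib
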