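import Groth.Agent.HTLib.CplGlobal
import Groth.Agent.RigPts.ComplEquiv
import Groth.Agent.FormalStalk.Completion

/-!
The completions of the local rings of an adic completion.
-/

set_option autoImplicit false
set_option maxHeartbeats 1000000
set_option linter.style.haveILetI false
universe u

namespace Groth.Agent.HTLib

open CategoryTheory DualCx TensorProduct IsLocalRing

attribute [local instance] HasDerivedCategory.standard

noncomputable section

variable {A : Type u} [CommRing A] [IsNoetherianRing A] (I : Ideal A)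

/-- `(A^)_q` and `A_q` have the same `I`-adic completion. -/
theorem nonempty_CB_equiv (q : PrimeSpectrum (AdicCompletion I A))
    (hq : I.map (algebraMap A (AdicCompletion I A)) ≤ q.asIdeal) :
    Nonempty (CB I (PrimeSpectrum.comap (algebraMap A (AdicCompletion I A)) q) ≃ₐ[A]
      CB (I.map (algebraMap A (AdicCompletion I A))) q) := by
  let B := AdicCompletion I A
  let q₀ := PrimeSpectrum.comap (algebraMap A B) q
  let R := Localization.AtPrime q₀.asIdeal
  let S := Localization.AtPrime q.asIdeal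
  have hu : ∀ x : q₀.asIdeal.primeCompl, IsUnit (algebraMap A S x) := fun x => by
    rw [IsScalarTower.algebraMap_apply A B S]
    exact IsLocalization.map_units S (⟨algebraMap A B x, x.2⟩ : q.asIdeal.primeCompl)
  let f : R →ₐ[A] S := IsLocalization.liftAlgHom (f := Algebra.ofId A S) hu
  have hK : (I.map (algebraMap A B)).map (algebraMap B S) = (I.map (algebraMap A R)).map f.toRingHom := by
    rw [Ideal.map_map, Ideal.map_map, ← IsScalarTower.algebraMap_eq]
    congr 1
    exact (AlgHom.comp_algebraMap f).symm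
  have hKn : ∀ n : ℕ, ((I.map (algebraMap A B)).map (algebraMap B S)) ^ n =
      (((I ^ n).map (algebraMap A B)).map (algebraMap B S)) := fun n => by
    rw [Ideal.map_pow, Ideal.map_pow]
  have key : ∀ (n : ℕ) (a : A), algebraMap A B a ∈ (I ^ n).map (algebraMap A B) → a ∈ I ^ n := fun n a h => by
    rw [Ideal.map_pow, ← FormalStalk.ker_evalₐ I (IsNoetherian.noetherian I)] at h
    exact Ideal.Quotient.eq_zero_iff_mem.1 ((FormalStalk.evalₐ_algebraMap I n a).symm.trans h)
  have happ : ∀ (n : ℕ) (x : B), ∃ a : A, x - algebraMap A B a ∈ (I ^ n).map (algebraMap A B) := fun n x => by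
    obtain ⟨a, ha⟩ := Ideal.Quotient.mk_surjective (AdicCompletion.evalₐ I n x)
    refine ⟨a, ?_⟩
    rw [Ideal.map_pow, ← FormalStalk.ker_evalₐ I (IsNoetherian.noetherian I), RingHom.mem_ker]
    show AdicCompletion.evalₐ I n (x - algebraMap A B a) = 0
    rw [map_sub, FormalStalk.evalₐ_algebraMap, ha, sub_self]
  have hfa : ∀ a : A, f (algebraMap A R a) = algebraMap B S (algebraMap A B a) := fun a => by
    rw [AlgHom.commutes, IsScalarTower.algebraMap_apply A B S]
  refine RigPts.adicCompletion_algEquiv (A := A) f (I.map (algebraMap A R))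
    ((I.map (algebraMap A B)).map (algebraMap B S)) (fun n => ?_) (fun n b hb => ?_) (fun n d => ?_)
  · rw [← Ideal.map_le_iff_le_comap, Ideal.map_pow, hK]
  · obtain ⟨⟨a, c⟩, hb'⟩ := IsLocalization.surj q₀.asIdeal.primeCompl b
    have h1 : algebraMap B S (algebraMap A B a) ∈ ((I ^ n).map (algebraMap A B)).map (algebraMap B S) := by
      rw [← hfa, ← hb', map_mul, ← hKn]
      exact Ideal.mul_mem_right _ _ hb
    obtain ⟨⟨⟨x, hx⟩, v⟩, hxv⟩ := (IsLocalization.mem_map_algebraMap_iff q.asIdeal.primeCompl S).1 h1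
    rw [← map_mul] at hxv
    obtain ⟨w, hw⟩ := (IsLocalization.eq_iff_exists q.asIdeal.primeCompl S).1 hxv
    obtain ⟨t, ht⟩ := happ (n + 1) ((w * v : q.asIdeal.primeCompl) : B)
    have hle : (I ^ (n + 1)).map (algebraMap A B) ≤ (I ^ n).map (algebraMap A B) :=
      Ideal.map_mono (Ideal.pow_le_pow_right (Nat.le_succ n))
    have h3 : algebraMap A B (t * a) ∈ (I ^ n).map (algebraMap A B) := by
      have e : algebraMap A B (t * a) = ((w : B) * (algebraMap A B a * (v : B))) -
          (((w * v : q.asIdeal.primeCompl) : B) - algebraMap A B t) * algebraMap A B a := by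
        rw [map_mul, Submonoid.coe_mul]; ring
      rw [e, hw]
      exact sub_mem (Ideal.mul_mem_left _ _ hx) (Ideal.mul_mem_right _ _ (hle ht))
    have ht0 : t ∉ q₀.asIdeal := fun h => (w * v).2 (by
      have := add_mem (hq (Ideal.map_mono (Ideal.pow_le_self (Nat.succ_ne_zero n)) ht))
        (show algebraMap A B t ∈ q.asIdeal from h)
      rwa [sub_add_cancel] at this)
    rw [← Ideal.map_pow]
    refine (IsLocalization.mem_map_algebraMap_iff q₀.asIdeal.primeCompl R).2
      ⟨⟨⟨t * a, key n _ h3⟩, ⟨t, ht0⟩ * c⟩, ?_⟩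
    show b * algebraMap A R (t * (c : A)) = algebraMap A R (t * a)
    rw [map_mul, map_mul, ← hb']
    ring
  · obtain ⟨⟨x, v⟩, hd⟩ := IsLocalization.surj q.asIdeal.primeCompl d
    obtain ⟨a, ha⟩ := happ n x
    obtain ⟨c, hc⟩ := happ (n + 1) v
    have hc0 : c ∉ q₀.asIdeal := fun h => v.2 (by
      have := add_mem (hq (Ideal.map_mono (Ideal.pow_le_self (Nat.succ_ne_zero n)) hc))
        (show algebraMap A B c ∈ q.asIdeal from h)
      rwa [sub_add_cancel] at this)
    refine ⟨IsLocalization.mk' R a (⟨c, hc0⟩ : q₀.asIdeal.primeCompl), ?_⟩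
    have hcu : IsUnit (algebraMap B S (algebraMap A B c)) :=
      IsLocalization.map_units S (⟨algebraMap A B c, hc0⟩ : q.asIdeal.primeCompl)
    have hfm : f (IsLocalization.mk' R a (⟨c, hc0⟩ : q₀.asIdeal.primeCompl)) * algebraMap B S (algebraMap A B c) =
        algebraMap B S (algebraMap A B a) := by
      rw [← hfa, ← map_mul, IsLocalization.mk'_spec, hfa]
    rw [← Ideal.mul_unit_mem_iff_mem _ hcu, sub_mul, hfm, hKn]
    have e : algebraMap B S (algebraMap A B a) - d * algebraMap B S (algebraMap A B c) =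
        algebraMap B S (algebraMap A B a - x) + d * algebraMap B S ((v : B) - algebraMap A B c) := by
      rw [map_sub, map_sub, mul_sub, hd]; ring
    rw [e]
    refine add_mem (Ideal.mem_map_of_mem _ ?_) (Ideal.mul_mem_left _ _ (Ideal.mem_map_of_mem _
      (Ideal.map_mono (Ideal.pow_le_pow_right (Nat.le_succ n)) hc)))
    rw [← neg_sub]
    exact neg_mem ha

variable {ω : Dual.D A} (hω : Dual.IsDualizing A ω)

theorem depth_arith₂ {e : ℕ∞} {s k₁ k₂ k : ℕ} (h : (s : ℕ∞) < e + (k : ℕ∞)) (hk : k ≤ k₁ + k₂) :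
    (s : ℕ∞) < e + (k₁ : ℕ∞) + (k₂ : ℕ∞) := by
  rw [add_assoc, ← Nat.cast_add]
  exact h.trans_le (by gcongr)

theorem int_aux₂ {a b c d n m : ℤ} (hba : b ≤ a) (hcb : c ≤ b) (h : (d - n).toNat = (c - m).toNat) (hnm : n = m)
    (hmc : m ≤ c) (hnd : n ≤ d) : (a - d).toNat ≤ (a - b).toNat + (b - c).toNat := by omega

include hω in
theorem depth_completion_iter (M : Type u) [AddCommGroup M] [Module A M] [Module.Finite A M] (s : ℕ)
    (q : PrimeSpectrum (AdicCompletion I A)) (hq : I.map (algebraMap A (AdicCompletion I A)) ≤ q.asIdeal)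
    (h6 : ∀ P : PrimeSpectrum (CB I (PrimeSpectrum.comap (algebraMap A (AdicCompletion I A)) q)),
      ¬ (I.map (algebraMap A (CB I (PrimeSpectrum.comap (algebraMap A (AdicCompletion I A)) q)))) ≤ P.asIdeal →
      (∀ Q : PrimeSpectrum (CB I (PrimeSpectrum.comap (algebraMap A (AdicCompletion I A)) q)), P ≤ Q →
        (I.map (algebraMap A (CB I (PrimeSpectrum.comap (algebraMap A (AdicCompletion I A)) q)))) ≤ Q.asIdeal →
        Q.asIdeal.IsMaximal) →
      (s : ℕ∞) < LocCoh.depth (Localization.AtPrime P.asIdeal) (LocalizedModule P.asIdeal.primeCompl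
        (AdicCompletion (I.map (algebraMap A (Localization.AtPrime (PrimeSpectrum.comap (algebraMap A (AdicCompletion I A)) q).asIdeal)))
          (LocalizedModule (PrimeSpectrum.comap (algebraMap A (AdicCompletion I A)) q).asIdeal.primeCompl M))))
    (p' : PrimeSpectrum (CB (I.map (algebraMap A (AdicCompletion I A))) q))
    (hp' : ¬ (I.map (algebraMap A (AdicCompletion I A))).map
      (algebraMap (AdicCompletion I A) (CB (I.map (algebraMap A (AdicCompletion I A))) q)) ≤ p'.asIdeal)
    (h : ∀ q' : PrimeSpectrum (CB (I.map (algebraMap A (AdicCompletion I A))) q), p' ≤ q' →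
      (I.map (algebraMap A (AdicCompletion I A))).map
        (algebraMap (AdicCompletion I A) (CB (I.map (algebraMap A (AdicCompletion I A))) q)) ≤ q'.asIdeal →
      q'.asIdeal.IsMaximal) :
    (s : ℕ∞) < LocCoh.depth (Localization.AtPrime p'.asIdeal) (LocalizedModule p'.asIdeal.primeCompl
      (AdicCompletion ((I.map (algebraMap A (AdicCompletion I A))).map
          (algebraMap (AdicCompletion I A) (Localization.AtPrime q.asIdeal)))
        (LocalizedModule q.asIdeal.primeCompl (AdicCompletion I M)))) := by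
  haveI : IsNoetherianRing (AdicCompletion I A) := ResExt.isNoetherianRing_adicCompletion _ (IsNoetherian.noetherian _)
  haveI : Module.Flat A (AdicCompletion I A) := AdicCompletion.flat_of_isNoetherian I
  haveI := DRingKP.hasLBaseChange (algebraMap A (AdicCompletion I A))
  have hB : Dual.IsDualizing (AdicCompletion I A) (DualFlat.KB (AdicCompletion I A) ω) :=
    DualCx.isDualizing_of_iso (DualCx.lBaseChangeObjIso (algebraMap A (AdicCompletion I A)) ω)
      (DualFlat.isDualizing_lBaseChange_unramified (AdicCompletion I A) ω (fun n hn => by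
        haveI := hn
        exact (AdicFibres.maximal_setup A I n).2.2.symm) hω)
  let eM : AdicCompletion I M ≃ₗ[AdicCompletion I A] DualFlat.EM (A := A) (AdicCompletion I A) M :=
    (AdicCompletion.ofTensorProductEquivOfFiniteNoetherian I M).symm ≪≫ₗ
      (DualFlat.tens (A := A) (AdicCompletion I A) M).symm
  haveI := finite_EM (A := A) (B := AdicCompletion I A) M
  haveI : Module.Finite (AdicCompletion I A) (AdicCompletion I M) := Module.Finite.equiv eM.symm
  obtain ⟨q₀, hq₀⟩ : ∃ q₀, q₀ = PrimeSpectrum.comap (algebraMap A (AdicCompletion I A)) q := ⟨_, rfl⟩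
  obtain ⟨e⟩ := nonempty_CB_equiv I q hq
  subst hq₀
  let q₀ := PrimeSpectrum.comap (algebraMap A (AdicCompletion I A)) q
  haveI := flat_CB I q₀
  haveI := isNoetherianRing_CB I q₀
  haveI := flat_CB (I.map (algebraMap A (AdicCompletion I A))) q
  haveI := isNoetherianRing_CB (I.map (algebraMap A (AdicCompletion I A))) q
  let P : PrimeSpectrum (CB I q₀) := PrimeSpectrum.comap e.toRingEquiv.toRingHom p'
  let p := PrimeSpectrum.comap (algebraMap (AdicCompletion I A) (CB (I.map (algebraMap A (AdicCompletion I A))) q)) p'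
  let p₀ := PrimeSpectrum.comap (algebraMap A (AdicCompletion I A)) p
  have hcomp : algebraMap A (CB (I.map (algebraMap A (AdicCompletion I A))) q) =
      e.toRingEquiv.toRingHom.comp (algebraMap A (CB I q₀)) := (AlgHom.comp_algebraMap e.toAlgHom).symm
  have hIe : (I.map (algebraMap A (AdicCompletion I A))).map
      (algebraMap (AdicCompletion I A) (CB (I.map (algebraMap A (AdicCompletion I A))) q)) =
      (I.map (algebraMap A (CB I q₀))).map e.toRingEquiv.toRingHom := by
    exact (Ideal.map_map _ _).trans ((congrArg (fun g : A →+* CB (I.map (algebraMap A (AdicCompletion I A))) q => I.map g)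
      ((IsScalarTower.algebraMap_eq A (AdicCompletion I A)
        (CB (I.map (algebraMap A (AdicCompletion I A))) q)).symm.trans hcomp)).trans (Ideal.map_map _ _).symm)
  have hP : PrimeSpectrum.comap (algebraMap A (CB I q₀)) P = p₀ := by
    refine PrimeSpectrum.ext ?_
    show (p'.asIdeal.comap e.toRingEquiv.toRingHom).comap (algebraMap A (CB I q₀)) = p₀.asIdeal
    exact (Ideal.comap_comap _ _).trans ((congrArg
      (fun g : A →+* CB (I.map (algebraMap A (AdicCompletion I A))) q => p'.asIdeal.comap g)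
      (hcomp.symm.trans (IsScalarTower.algebraMap_eq A (AdicCompletion I A)
        (CB (I.map (algebraMap A (AdicCompletion I A))) q)))).trans (Ideal.comap_comap _ _).symm)
  have h6' := h6 P (fun hle => hp' (by rw [hIe]; exact Ideal.map_le_iff_le_comap.2 hle)) (fun Q hPQ hIQ => ?_)
  swap
  · let Q' : PrimeSpectrum (CB (I.map (algebraMap A (AdicCompletion I A))) q) :=
      PrimeSpectrum.comap e.symm.toRingEquiv.toRingHom Q
    have hQ : Q = PrimeSpectrum.comap e.toRingEquiv.toRingHom Q' := by
      refine PrimeSpectrum.ext (Ideal.ext fun x => ?_)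
      show x ∈ Q.asIdeal ↔ e.symm (e x) ∈ Q.asIdeal
      rw [AlgEquiv.symm_apply_apply]
    have h1 : p' ≤ Q' := fun x hx => hPQ (show e (e.symm x) ∈ p'.asIdeal by rw [AlgEquiv.apply_symm_apply]; exact hx)
    have h2 := h Q' h1 (by
      rw [hIe, Ideal.map_le_iff_le_comap]
      exact fun x hx => show e.symm (e x) ∈ Q.asIdeal by rw [AlgEquiv.symm_apply_apply]; exact hIQ hx)
    haveI := h2
    rw [hQ]
    exact Ideal.comap_isMaximal_of_surjective e.toRingEquiv.toRingHom e.surjective
  rw [depth_MB hω I q₀ M P p₀ hP] at h6'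
  rw [depth_MB hB (I.map (algebraMap A (AdicCompletion I A))) q (AdicCompletion I M) p' p rfl]
  have hd : LocCoh.depth (Localization.AtPrime p.asIdeal) (LocalizedModule p.asIdeal.primeCompl (AdicCompletion I M)) =
      LocCoh.depth (Localization.AtPrime p₀.asIdeal) (LocalizedModule p₀.asIdeal.primeCompl M) +
        (((del hω p₀ - del hB p).toNat : ℕ) : ℕ∞) := by
    rw [← depth_EM hω hB M p p₀ rfl]
    exact LocH.idealDepth_congr ((IsLocalizedModule.linearEquiv p.asIdeal.primeCompl
      (LocalizedModule.mkLinearMap p.asIdeal.primeCompl _)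
      ((LocalizedModule.mkLinearMap p.asIdeal.primeCompl (DualFlat.EM (A := A) (AdicCompletion I A) M)).comp
        eM.toLinearMap)).extendScalarsOfIsLocalization p.asIdeal.primeCompl _) _
  rw [hd]
  obtain ⟨n₀, hn₀, hle⟩ := p'.asIdeal.exists_le_maximal p'.isPrime.ne_top
  obtain ⟨-, hn2⟩ := maximal_CB (I.map (algebraMap A (AdicCompletion I A))) q n₀ hn₀
  let n : PrimeSpectrum (CB (I.map (algebraMap A (AdicCompletion I A))) q) := ⟨n₀, hn₀.isPrime⟩
  let nD : PrimeSpectrum (CB I q₀) := PrimeSpectrum.comap e.toRingEquiv.toRingHom n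
  have hnD : nD.asIdeal.IsMaximal := by
    haveI := hn₀
    exact Ideal.comap_isMaximal_of_surjective e.toRingEquiv.toRingHom e.surjective
  obtain ⟨-, hD2⟩ := maximal_CB I q₀ nD.asIdeal hnD
  have hPn : P ≤ nD := Ideal.comap_mono hle
  have hδn : del (isDualizing_CB hB (I.map (algebraMap A (AdicCompletion I A))) q) n = del hB q :=
    del_eq_of_minimal hB _ q n ⟨⟨hn₀.isPrime, hn2.le⟩, fun Q hQ _ => hn2.ge.trans hQ.2⟩
  have hδD : del (isDualizing_CB hω I q₀) nD = del hω q₀ :=
    del_eq_of_minimal hω _ q₀ nD ⟨⟨nD.isPrime, hD2.le⟩, fun Q hQ _ => hD2.ge.trans hQ.2⟩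
  have hqmin : q.asIdeal ∈ (q₀.asIdeal.map (algebraMap A (AdicCompletion I A))).minimalPrimes := by
    refine ⟨⟨q.isPrime, Ideal.map_comap_le⟩, fun Q hQ _ b hb => hQ.2 ?_⟩
    obtain ⟨a, h1⟩ := AdicFibres.exists_sub_mem_map A I b
    have h2 : a ∈ q₀.asIdeal := by
      show algebraMap A (AdicCompletion I A) a ∈ q.asIdeal
      have := sub_mem hb (hq h1)
      rwa [sub_sub_cancel] at this
    have := add_mem (Ideal.map_mono (f := algebraMap A (AdicCompletion I A)) (Ideal.map_le_iff_le_comap.1 hq) h1)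
      (Ideal.mem_map_of_mem (algebraMap A (AdicCompletion I A)) h2)
    rwa [sub_add_cancel] at this
  have hδq : del hB q = del hω q₀ := del_eq_of_minimal hω hB q₀ q hqmin
  have hIcc : Order.krullDim (Set.Icc P nD) = Order.krullDim (Set.Icc p' n) := by
    let φ : PrimeSpectrum (CB (I.map (algebraMap A (AdicCompletion I A))) q) ≃o PrimeSpectrum (CB I q₀) :=
      (PrimeSpectrum.comapEquiv e.toRingEquiv).symm
    exact (Order.krullDim_eq_of_orderIso
      (α := Set.Icc p' n) (β := Set.Icc P nD)
      { toFun := fun x => ⟨φ x.1, φ.monotone x.2.1, φ.monotone x.2.2⟩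
        invFun := fun x => ⟨φ.symm x.1, φ.le_symm_apply.2 x.2.1, φ.symm_apply_le.2 x.2.2⟩
        left_inv := fun x => Subtype.ext (φ.symm_apply_apply x.1)
        right_inv := fun x => Subtype.ext (φ.apply_symm_apply x.1)
        map_rel_iff' := fun {a b} => φ.le_iff_le }).symm
  rw [krullDim_Icc (isDualizing_CB hω I q₀) hPn,
    krullDim_Icc (isDualizing_CB hB (I.map (algebraMap A (AdicCompletion I A))) q) (show p' ≤ n from hle)] at hIcc
  have hk : (del (isDualizing_CB hω I q₀) P - del (isDualizing_CB hω I q₀) nD).toNat =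
      (del (isDualizing_CB hB (I.map (algebraMap A (AdicCompletion I A))) q) p' -
        del (isDualizing_CB hB (I.map (algebraMap A (AdicCompletion I A))) q) n).toNat := by exact_mod_cast hIcc
  rw [hδn, hδD, hδq] at hk
  refine depth_arith₂ h6' (int_aux₂ (del_le_comap hω hB p) (del_le_comap hB _ p') hk rfl ?_ ?_)
  · rw [← hδq, ← hδn]; exact del_le _ (show p' ≤ n from hle)
  · rw [← hδD]; exact del_le _ hPn

include hω in
/-- The conditions of the bootstrap pass to the completion. -/
theorem four_completion (M : Type u) [AddCommGroup M] [Module A M] [Module.Finite A M] (T : Set (PrimeSpectrum A))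
    (s d : ℕ) (h4 : ∀ p r q : PrimeSpectrum A, p ≤ r → r ≤ q → ¬ I ≤ p.asIdeal → I ≤ r.asIdeal → r ∉ T → q ∈ T →
      (s : ℕ∞) ≤ LocCoh.depth (Localization.AtPrime p.asIdeal) (LocalizedModule p.asIdeal.primeCompl M) ∨
      ((d + s : ℕ) : WithBot ℕ∞) < (LocCoh.depth (Localization.AtPrime p.asIdeal)
        (LocalizedModule p.asIdeal.primeCompl M) : WithBot ℕ∞) + Formal2.dimBetween A p.asIdeal q.asIdeal)
    (p r q : PrimeSpectrum (AdicCompletion I A)) (hpr : p ≤ r) (hrq : r ≤ q)
    (hp : ¬ (I.map (algebraMap A (AdicCompletion I A))) ≤ p.asIdeal)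
    (hr : (I.map (algebraMap A (AdicCompletion I A))) ≤ r.asIdeal)
    (hrT : r ∉ (PrimeSpectrum.comap (algebraMap A (AdicCompletion I A))) ⁻¹' T)
    (hqT : q ∈ (PrimeSpectrum.comap (algebraMap A (AdicCompletion I A))) ⁻¹' T) :
    (s : ℕ∞) ≤ LocCoh.depth (Localization.AtPrime p.asIdeal) (LocalizedModule p.asIdeal.primeCompl (AdicCompletion I M)) ∨
      ((d + s : ℕ) : WithBot ℕ∞) < (LocCoh.depth (Localization.AtPrime p.asIdeal)
        (LocalizedModule p.asIdeal.primeCompl (AdicCompletion I M)) : WithBot ℕ∞) +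
        Formal2.dimBetween (AdicCompletion I A) p.asIdeal q.asIdeal := by
  obtain ⟨hle, heq⟩ := depth_completion hω I M p q (hpr.trans hrq) (hr.trans hrq)
  rcases h4 (PrimeSpectrum.comap (algebraMap A (AdicCompletion I A)) p)
    (PrimeSpectrum.comap (algebraMap A (AdicCompletion I A)) r) (PrimeSpectrum.comap (algebraMap A (AdicCompletion I A)) q)
    (Ideal.comap_mono hpr) (Ideal.comap_mono hrq)
    (fun h => hp (Ideal.map_le_iff_le_comap.2 h)) (Ideal.map_le_iff_le_comap.1 hr) hrT hqT with h | h
  · exact Or.inl (h.trans hle)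
  · refine Or.inr ?_
    rw [dimBetween_eq_krullDim] at h ⊢
    rw [heq]
    exact h

end

end Groth.Agent.HTLib
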