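import Groth.Agent.HTLib.Basic
import Groth.Agent.RGammaI.HDI

/-!
`H^q_T` of a K-injective complex on cycles.
-/

set_option autoImplicit false
set_option linter.style.haveILetI false
set_option backward.isDefEq.respectTransparency false
set_option backward.isDefEq.respectTransparency.types false
universe u

namespace Groth.Agent.HTLib.Cx

open CategoryTheory Limits Opposite HomologicalComplex

attribute [local instance] HasDerivedCategory.standard

variable {A : Type u} [CommRing A] {T : Set (PrimeSpectrum A)} (C : DRing.Cx A) (q : ℤ)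

/-- The diagram `I ↦ Hom(A/I, C[q])`. -/
noncomputable abbrev hdtF (T : Set (PrimeSpectrum A)) : (Dual2.IdealsIn T)ᵒᵖ ⥤ ModuleCat.{u + 1} A :=
  (localCohomology.ringModIdeals (Dual2.idealsInDiagram T) ⋙
    DerivedCategory.singleFunctor (ModuleCat.{u} A) 0).op ⋙
      (linearYoneda A (Dual.D A)).obj ((DerivedCategory.Q.obj C)⟦q⟧)

instance (T : Set (PrimeSpectrum A)) :
    PreservesColimit (hdtF C q T) (CategoryTheory.forget (ModuleCat.{u + 1} A)) :=
  haveI : PreservesFilteredColimitsOfSize.{u, u} (CategoryTheory.forget AddCommGrpCat.{u + 1}) :=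
    preservesFilteredColimitsOfSize_shrink.{u, u + 1, u, u + 1} _
  comp_preservesColimit (forget₂ (ModuleCat.{u + 1} A) AddCommGrpCat.{u + 1}) (CategoryTheory.forget AddCommGrpCat.{u + 1})

/-- A section killed by `I`, as a map out of `A/I`. -/
noncomputable def kHom (I : Ideal A) (z : C.X q) (hz : ∀ a ∈ I, a • z = 0) : ModuleCat.of A (A ⧸ I) ⟶ C.X q :=
  ModuleCat.ofHom (I.liftQ (LinearMap.toSpanSingleton A (C.X q) z) fun a ha => hz a ha)

theorem kHom_closed (I : Ideal A) (z : C.X q) (hz : ∀ a ∈ I, a • z = 0) (hd : C.d q (q + 1) z = 0) :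
    kHom C q I z hz ≫ C.d q (q + 1) = 0 := by
  apply ModuleCat.hom_ext
  refine Submodule.linearMap_qext _ (LinearMap.ext fun r => ?_)
  change C.d q (q + 1) (r • z) = 0
  rw [map_smul, hd, smul_zero]

/-- The class of a cycle killed by `X`. -/
noncomputable def clsT (X : Dual2.IdealsIn T) (z : C.X q) (hz : ∀ a ∈ X.obj, a • z = 0)
    (hd : C.d q (q + 1) z = 0) : (colimit (hdtF C q T) : ModuleCat.{u + 1} A) :=
  colimit.ι (hdtF C q T) (op X) (RGammaI.cd C q (kHom C q X.obj z hz) (kHom_closed C q X.obj z hz hd))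

theorem smul_clsT (c : A) (X : Dual2.IdealsIn T) (z : C.X q) (hz : ∀ a ∈ X.obj, a • z = 0)
    (hd : C.d q (q + 1) z = 0) :
    c • clsT C q X z hz hd = clsT C q X (c • z) (fun a ha => by rw [smul_comm, hz a ha, smul_zero])
      (by rw [map_smul, hd, smul_zero]) := by
  rw [clsT, clsT, ← map_smul]
  refine congrArg (fun v => colimit.ι (hdtF C q T) (op X) v) ?_
  refine (RGammaI.cd_smul C q c _ _ (by rw [Linear.smul_comp, kHom_closed C q X.obj z hz hd, smul_zero])).symm.trans
    (RGammaI.cd_congr C q _ _ ?_)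
  apply ModuleCat.hom_ext
  refine Submodule.linearMap_qext _ (LinearMap.ext fun r => ?_)
  change c • r • z = r • c • z
  rw [smul_comm]

theorem clsT_congr (X : Dual2.IdealsIn T) {z z' : C.X q} (h : z = z') (hz : ∀ a ∈ X.obj, a • z = 0)
    (hd : C.d q (q + 1) z = 0) :
    clsT C q X z hz hd = clsT C q X z' (h ▸ hz) (h ▸ hd) := by
  subst h; rfl

theorem clsT_le {X Y : Dual2.IdealsIn T} (hle : Y.obj ≤ X.obj) (z : C.X q) (hz : ∀ a ∈ X.obj, a • z = 0)
    (hd : C.d q (q + 1) z = 0) :
    clsT C q Y z (fun a ha => hz a (hle ha)) hd = clsT C q X z hz hd := by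
  let f : (op X : (Dual2.IdealsIn T)ᵒᵖ) ⟶ op Y := (ObjectProperty.homMk (homOfLE hle)).op
  have e := congr($(colimit.w (hdtF C q T) f) (RGammaI.cd C q (kHom C q X.obj z hz) (kHom_closed C q X.obj z hz hd)))
  refine Eq.trans ?_ e
  refine congrArg (fun v => colimit.ι (hdtF C q T) (op Y) v) ?_
  refine Eq.trans ?_ (RGammaI.cd_precomp C q ((localCohomology.ringModIdeals (Dual2.idealsInDiagram T)).map f.unop)
    (kHom C q X.obj z hz) (kHom_closed C q X.obj z hz hd) (by
      rw [Category.assoc, kHom_closed C q X.obj z hz hd, comp_zero]))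
  refine RGammaI.cd_congr C q _ _ ?_
  apply ModuleCat.hom_ext
  exact Submodule.linearMap_qext _ (LinearMap.ext fun r => rfl)

/-- The cycles killed by `X`. -/
def cycIn (X : Dual2.IdealsIn T) : Submodule A (C.X q) where
  carrier := {z | (∀ a ∈ X.obj, a • z = 0) ∧ C.d q (q + 1) z = 0}
  zero_mem' := ⟨fun _ _ => smul_zero _, map_zero _⟩
  add_mem' := fun hx hy => ⟨fun a ha => by rw [smul_add, hx.1 a ha, hy.1 a ha, add_zero],
    by rw [map_add, hx.2, hy.2, add_zero]⟩
  smul_mem' := fun c z hz => ⟨fun a ha => by rw [smul_comm, hz.1 a ha, smul_zero], by rw [map_smul, hz.2, smul_zero]⟩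

theorem clsT_add (X : Dual2.IdealsIn T) (z z' : C.X q) (hz : ∀ a ∈ X.obj, a • z = 0) (hd : C.d q (q + 1) z = 0)
    (hz' : ∀ a ∈ X.obj, a • z' = 0) (hd' : C.d q (q + 1) z' = 0) :
    clsT C q X (z + z') (fun a ha => by rw [smul_add, hz a ha, hz' a ha, add_zero]) (by rw [map_add, hd, hd', add_zero]) =
      clsT C q X z hz hd + clsT C q X z' hz' hd' := by
  rw [clsT, clsT, clsT]
  refine Eq.trans ?_ (map_add _ _ _)
  refine congrArg (fun v => colimit.ι (hdtF C q T) (op X) v) ?_
  refine (RGammaI.cd_congr C q _ (by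
    rw [Preadditive.add_comp, kHom_closed C q X.obj z hz hd, kHom_closed C q X.obj z' hz' hd', add_zero]) ?_).trans
    (RGammaI.cd_add C q _ _ _ _ _)
  apply ModuleCat.hom_ext
  refine Submodule.linearMap_qext _ (LinearMap.ext fun r => ?_)
  change r • (z + z') = r • z + r • z'
  rw [smul_add]

/-- The classes of the cycles killed by `X`. -/
noncomputable def clsLin (X : Dual2.IdealsIn T) : cycIn C q X →ₗ[A] (colimit (hdtF C q T) : ModuleCat.{u + 1} A) where
  toFun z := clsT C q X z.1 z.2.1 z.2.2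
  map_add' x y := clsT_add C q X x.1 y.1 x.2.1 x.2.2 y.2.1 y.2.2
  map_smul' c x := (smul_clsT C q c X x.1 x.2.1 x.2.2).symm

variable [C.IsKInjective]

theorem exists_clsT (v : (colimit (hdtF C q T) : ModuleCat.{u + 1} A)) :
    ∃ (X : Dual2.IdealsIn T) (z : C.X q) (hz : ∀ a ∈ X.obj, a • z = 0) (hd : C.d q (q + 1) z = 0),
      clsT C q X z hz hd = v := by
  obtain ⟨⟨X⟩, w, rfl⟩ := Concrete.colimit_exists_rep (hdtF C q T) v
  obtain ⟨f, hf, rfl⟩ := RGammaI.cd_surjective w
  let z : C.X q := f (Submodule.Quotient.mk (1 : A))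
  have hz : ∀ a ∈ X.obj, a • z = 0 := fun a ha => by
    refine (map_smul f.hom a _).symm.trans ?_
    have : a • (Submodule.Quotient.mk (1 : A) : A ⧸ X.obj) = 0 := by
      rw [← Submodule.Quotient.mk_smul, Submodule.Quotient.mk_eq_zero]
      simpa using ha
    exact (congrArg f.hom this).trans (map_zero _)
  have hd : C.d q (q + 1) z = 0 := congr($hf (Submodule.Quotient.mk (1 : A)))
  refine ⟨X, z, hz, hd, congrArg (fun v => colimit.ι (hdtF C q T) (op X) v) (RGammaI.cd_congr C q _ hf ?_)⟩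
  apply ModuleCat.hom_ext
  refine Submodule.linearMap_qext _ (LinearMap.ext_ring ?_)
  change (1 : A) • z = z
  rw [one_smul]

theorem clsT_eq_zero_iff (X : Dual2.IdealsIn T) (z : C.X q) (hz : ∀ a ∈ X.obj, a • z = 0)
    (hd : C.d q (q + 1) z = 0) :
    clsT C q X z hz hd = 0 ↔
      ∃ Y : Dual2.IdealsIn T, Y.obj ≤ X.obj ∧ ∃ w : C.X (q - 1), (∀ a ∈ Y.obj, a • w = 0) ∧ C.d (q - 1) q w = z := by
  constructor
  · intro h
    obtain ⟨⟨Y⟩, f₁, f₂, hm⟩ := Concrete.colimit_exists_of_rep_eq (hdtF C q T) (i := op X) (j := op X)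
      (RGammaI.cd C q (kHom C q X.obj z hz) (kHom_closed C q X.obj z hz hd)) 0 (h.trans (map_zero _).symm)
    rw [map_zero] at hm
    have hle : Y.obj ≤ X.obj := leOfHom ((Dual2.idealsInDiagram T).map f₁.unop)
    have hz' := fun a ha => hz a (hle ha)
    obtain ⟨g, hg⟩ := (RGammaI.cd_eq_zero_iff (kHom C q Y.obj z hz') (kHom_closed C q Y.obj z hz' hd)).1 (by
      refine Eq.trans ?_ hm
      refine Eq.trans ?_ (RGammaI.cd_precomp C q
        ((localCohomology.ringModIdeals (Dual2.idealsInDiagram T)).map f₁.unop)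
        (kHom C q X.obj z hz) (kHom_closed C q X.obj z hz hd) (by
          rw [Category.assoc, kHom_closed C q X.obj z hz hd, comp_zero]))
      refine RGammaI.cd_congr C q _ _ ?_
      apply ModuleCat.hom_ext
      exact Submodule.linearMap_qext _ (LinearMap.ext fun r => rfl))
    refine ⟨Y, hle, g (Submodule.Quotient.mk (1 : A)), fun a ha => ?_,
      (congr($hg (Submodule.Quotient.mk (1 : A)))).trans (one_smul _ _)⟩
    refine (map_smul g.hom a _).symm.trans ?_
    have : a • (Submodule.Quotient.mk (1 : A) : A ⧸ Y.obj) = 0 := by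
      rw [← Submodule.Quotient.mk_smul, Submodule.Quotient.mk_eq_zero]
      simpa using ha
    exact (congrArg g.hom this).trans (map_zero _)
  · rintro ⟨Y, hle, w, hw, hwz⟩
    let f : (op X : (Dual2.IdealsIn T)ᵒᵖ) ⟶ op Y := (ObjectProperty.homMk (homOfLE hle)).op
    have e := congr($(colimit.w (hdtF C q T) f) (RGammaI.cd C q (kHom C q X.obj z hz) (kHom_closed C q X.obj z hz hd)))
    refine (Eq.symm e).trans ?_
    have h0 : (hdtF C q T).map f (RGammaI.cd C q (kHom C q X.obj z hz) (kHom_closed C q X.obj z hz hd)) = 0 := by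
      refine (RGammaI.cd_precomp C q ((localCohomology.ringModIdeals (Dual2.idealsInDiagram T)).map f.unop)
        (kHom C q X.obj z hz) (kHom_closed C q X.obj z hz hd) (by
          rw [Category.assoc, kHom_closed C q X.obj z hz hd, comp_zero])).symm.trans ?_
      refine (RGammaI.cd_eq_zero_iff _ _).2 ⟨ModuleCat.ofHom (Y.obj.liftQ
        (LinearMap.toSpanSingleton A (C.X (q - 1)) w) fun a ha => hw a ha), ?_⟩
      apply ModuleCat.hom_ext
      refine Submodule.linearMap_qext _ (LinearMap.ext fun r => ?_)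
      change C.d (q - 1) q (r • w) = r • z
      rw [map_smul, hwz]
    exact (congrArg (fun v => colimit.ι (hdtF C q T) (op Y) v) h0).trans (map_zero _)

omit [C.IsKInjective] in
theorem nonempty_hdt_equiv (T : Set (PrimeSpectrum A)) {K : Dual.D A} (e : RGammaI.qh C ≅ K) :
    Nonempty ((colimit (hdtF C q T) : ModuleCat.{u + 1} A) ≃ₗ[A] Dual2.HDT A T K q) :=
  ⟨(HasColimit.isoOfNatIso (Functor.isoWhiskerLeft _
    ((linearYoneda A (Dual.D A)).mapIso ((shiftFunctor (Dual.D A) q).mapIso
      (((DerivedCategory.quotientCompQhIso (ModuleCat.{u} A)).app C).symm ≪≫ e))))).toLinearEquiv⟩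

end Groth.Agent.HTLib.Cx
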