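import Groth.Agent.HTLib.KillDev
import Groth.Agent.LocH.Annihilator
import Groth.Agent.RGammaI.Torsion

/-!
The dévissage for the torsion subcomplexes of a complex of injective modules indexed by `ℤ`.
-/

set_option autoImplicit false
set_option backward.isDefEq.respectTransparency false
set_option backward.isDefEq.respectTransparency.types false

universe u

namespace Groth.Agent.HTLib.Cx

open CategoryTheory CategoryTheory.Limits Groth.Agent.LocH

variable {R : Type u} [CommRing R] (C : DRing.Cx R)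

/-- The boundaries of `Γ_I C` in degree `j`. -/
noncomputable def bd (I : Ideal R) (j : ℤ) : Submodule R (C.X j) :=
  (DRing.torsionSub I (C.X (j - 1))).map (C.d (j - 1) j).hom

/-- `a` kills the cohomology of `Γ_q C` in degree `j` at the point `q`. -/
def KillLocal (q : Ideal R) (j : ℤ) (a : R) : Prop :=
  ∀ x ∈ DRing.torsionSub q (C.X j), C.d j (j + 1) x = 0 → ∃ u ∉ q, u • a • x ∈ bd C q j

theorem bd_anti {I K : Ideal R} (h : I ≤ K) (j : ℤ) : bd C K j ≤ bd C I j :=
  Submodule.map_mono (torsionSub_anti h _)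

theorem bd_le (I : Ideal R) (j : ℤ) : bd C I j ≤ DRing.torsionSub I (C.X j) := by
  rintro _ ⟨y, hy, rfl⟩
  exact DRing.map_mem_torsionSub I (C.d (j - 1) j).hom hy

theorem d_bd (I : Ideal R) {j : ℤ} {x : C.X j} (hx : x ∈ bd C I j) : C.d j (j + 1) x = 0 := by
  obtain ⟨y, -, rfl⟩ := hx
  exact RGammaI.dd_apply C (j - 1) j (j + 1) y

variable [IsNoetherianRing R] {C} (hC : RGammaI.TI C)

include hC in
theorem divModTors (I : Ideal R) (a : R) (i : ℤ) : DivModTors a ↥(DRing.torsionSub I (C.X i)) := by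
  have : Module.Injective R (C.X i) := Module.injective_module_of_injective_object R _ (inj := hC i)
  exact divModTors_torsionSub (R' := R) I a

include hC in
theorem exists_correction {K : Ideal R} {u : R} {j : ℤ} {x : C.X j} (hx : u • x ∈ bd C K j) :
    ∃ b ∈ bd C K j, ∃ m : ℕ, u ^ m • (x - b) = 0 := by
  obtain ⟨y, hy, e⟩ := hx
  obtain ⟨⟨w, hw⟩, m, h⟩ := divModTors hC K u (j - 1) 1 ⟨y, hy⟩
  refine ⟨C.d (j - 1) j w, ⟨w, hw, rfl⟩, m + 1, ?_⟩
  have h' : u ^ m • (u • w - y) = 0 := by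
    have h1 := congrArg Subtype.val h
    rw [pow_one] at h1
    exact h1
  have h2 : u ^ m • (u • C.d (j - 1) j w - u • x) = 0 := by
    have := congrArg (C.d (j - 1) j).hom h'
    rw [map_smul, map_sub, map_smul, map_zero, e] at this
    exact this
  rw [pow_succ, mul_smul, smul_sub u, ← neg_sub, smul_neg, h2, neg_zero]

variable (C) in
theorem exists_torsion_multiple {L I' p : Ideal R} [p.IsPrime] (hp : p ∈ L.minimalPrimes) (hI'p : ¬ I' ≤ p) {j : ℤ}
    {z : C.X j} (hdz : C.d j (j + 1) z ∈ DRing.torsionSub I' (C.X (j + 1))) (hL : L ≤ torsionColon I' z) :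
    ∃ w ∉ p, w • z ∈ DRing.torsionSub p (C.X j) ∧ C.d j (j + 1) (w • z) = 0 := by
  obtain ⟨b, hb, hbp⟩ := SetLike.not_le_iff_exists.1 hI'p
  obtain ⟨s, n, hs, hsn⟩ : ∃ (s : R) (n : ℕ), s ∉ p ∧ ∀ a ∈ p ^ n, s * a ∈ L := by
    exact exists_notMem_smul_pow_le hp
  obtain ⟨k, hk⟩ := hdz
  have hle : Ideal.span {s * b} * p ^ n ≤
      Ideal.radical (LinearMap.ker (LinearMap.toSpanSingleton R (C.X j) z) : Ideal R) := by
    rw [Ideal.span_singleton_mul_le_iff]
    intro a ha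
    obtain ⟨N, hN⟩ := mem_torsionColon.1 (hL (hsn a ha))
    obtain ⟨M, hM⟩ := hN
    refine ⟨N + M, ?_⟩
    show (s * b * a) ^ (N + M) • z = 0
    rw [show (s * b * a) ^ (N + M) = (s * a) ^ M * b ^ N * (b ^ M * (s * a) ^ N) by ring, mul_smul, mul_smul (b ^ M),
      hM _ (Ideal.pow_mem_pow hb M), smul_zero]
  obtain ⟨e, he⟩ := Ideal.exists_pow_le_of_le_radical_of_fg hle (IsNoetherian.noetherian _)
  refine ⟨b ^ k * (s * b) ^ e, fun h => ?_, ⟨n * e, fun a ha => ?_⟩, ?_⟩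
  · rcases (inferInstance : p.IsPrime).mem_or_mem h with h1 | h1
    · exact hbp (Ideal.IsPrime.mem_of_pow_mem ‹_› k h1)
    · exact ((inferInstance : p.IsPrime).mem_or_mem (Ideal.IsPrime.mem_of_pow_mem ‹_› e h1)).elim hs hbp
  · rw [← mul_smul, show a * (b ^ k * (s * b) ^ e) = b ^ k * ((s * b) ^ e * a) by ring, mul_smul]
    have h1 : (s * b) ^ e * a ∈ (Ideal.span {s * b} * p ^ n) ^ e := by
      rw [mul_pow (Ideal.span {s * b}) (p ^ n) e, ← pow_mul]
      exact Ideal.mul_mem_mul (Ideal.pow_mem_pow (Ideal.mem_span_singleton_self _) e) ha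
    rw [show ((s * b) ^ e * a) • z = 0 from he h1, smul_zero]
  · rw [map_smul, mul_comm, mul_smul, hk _ (Ideal.pow_mem_pow hb k), smul_zero]

theorem le_torsionColon_self {I I' : Ideal R} {n : ℤ} {z : C.X n} (hz : z ∈ DRing.torsionSub I (C.X n)) :
    I ≤ torsionColon I' z := fun a ha => by
  obtain ⟨k, hk⟩ := hz
  exact mem_torsionColon.2 ⟨k, by rw [hk _ (Ideal.pow_mem_pow ha k)]; exact Submodule.zero_mem _⟩

include hC

theorem exists_smul_pow_mem_sup {I I' P : Ideal R} [P.IsPrime] (j : ℤ) (a : R)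
    (hv : ∀ (p : Ideal R) [p.IsPrime], I ≤ p → ¬ I' ≤ p → p ≤ P → KillLocal C p j a) :
    ∀ (k : ℕ) (L : Ideal R), I ≤ L →
      (∀ (p : Ideal R) [p.IsPrime], L ≤ p → ¬ I' ≤ p → p ≤ P → hgt P < hgt p + k) →
      ∀ z ∈ DRing.torsionSub I (C.X j),
      C.d j (j + 1) z ∈ DRing.torsionSub I' (C.X (j + 1)) → L ≤ torsionColon I' z →
      ∃ s ∉ P, s • a ^ k • z ∈ DRing.torsionSub I' (C.X j) ⊔ bd C I j := by
  classical
  intro k
  induction k with
  | zero =>
    intro L hIL hh z hzI hdz hL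
    have hfin : L.minimalPrimes.Finite := Ideal.finite_minimalPrimes_of_isNoetherianRing R L
    have hgood : ∀ p ∈ L.minimalPrimes, I' ≤ p ∨ ¬ p ≤ P := fun p hp => by
      by_contra h
      push Not at h
      haveI := hp.1.1
      have h1 := hh p hp.1.2 h.1 h.2
      have h2 := hgt_le h.2
      omega
    have ht : ∀ p : hfin.toFinset.filter (fun p => ¬ I' ≤ p), ∃ t, t ∈ p.1 ∧ t ∉ P := fun p => by
      obtain ⟨h1, h2⟩ := Finset.mem_filter.1 p.2
      exact SetLike.not_le_iff_exists.1 ((hgood p.1 (hfin.mem_toFinset.1 h1)).resolve_left h2)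
    choose t htp htP using ht
    let u := ∏ p, t p
    have huP : u ∉ P := fun h => by
      obtain ⟨p, -, hp⟩ := (Ideal.IsPrime.prod_mem_iff).1 h
      exact htP p hp
    have hle : I' * Ideal.span {u} ≤ torsionColon I' z := by
      refine le_trans ?_ ((Ideal.radical_mono hL).trans (le_of_eq (Ideal.radical_idem _)))
      rw [← Ideal.sInf_minimalPrimes (I := L)]
      refine le_sInf fun p hp => ?_
      by_cases h : I' ≤ p
      · exact Ideal.mul_le_left.trans h
      · refine Ideal.mul_le_right.trans ((Ideal.span_singleton_le_iff_mem p).2 ?_)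
        exact p.mem_of_dvd (Finset.dvd_prod_of_mem t (Finset.mem_univ
          ⟨p, Finset.mem_filter.2 ⟨hfin.mem_toFinset.2 hp, h⟩⟩)) (htp ⟨p, Finset.mem_filter.2 ⟨hfin.mem_toFinset.2 hp, h⟩⟩)
    obtain ⟨e, he⟩ := Ideal.exists_pow_le_of_le_radical_of_fg hle (IsNoetherian.noetherian _)
    refine ⟨u ^ e, fun h => huP (Ideal.IsPrime.mem_of_pow_mem ‹_› e h), ?_⟩
    rw [pow_zero, one_smul]
    refine Submodule.mem_sup_left (mem_torsionSub_of_le_torsionColon fun c hc => mem_torsionColon.2 ⟨e, ?_⟩)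
    rw [← mul_smul, ← mul_pow]
    exact he (Ideal.pow_mem_pow (Ideal.mul_mem_mul hc (Ideal.mem_span_singleton_self u)) e)
  | succ k ih =>
    intro L hIL hh z hzI hdz hL
    have hfin : L.minimalPrimes.Finite := Ideal.finite_minimalPrimes_of_isNoetherianRing R L
    let S := hfin.toFinset.filter (fun p => ¬ I' ≤ p ∧ p ≤ P)
    let 𝔟 : Ideal R := (bd C L j).comap (LinearMap.toSpanSingleton R _ (a • z))
    have hS : ∀ p ∈ S, p.IsPrime ∧ ¬ 𝔟 ≤ p := fun p hp => by
      obtain ⟨h1, h2, h3⟩ := Finset.mem_filter.1 hp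
      have hp' := hfin.mem_toFinset.1 h1
      haveI := hp'.1.1
      refine ⟨hp'.1.1, fun hle => ?_⟩
      obtain ⟨w, hw, hwT, hwd⟩ := exists_torsion_multiple C hp' h2 hdz hL
      obtain ⟨u, hu, hub⟩ := hv p (hIL.trans hp'.1.2) h2 h3 _ hwT hwd
      refine ((inferInstance : p.IsPrime).mem_or_mem (hle (show u * w ∈ 𝔟 from ?_))).elim hu hw
      show (u * w) • a • z ∈ bd C L j
      rw [mul_smul, smul_comm w a]
      exact bd_anti C hp'.1.2 j hub
    obtain ⟨b, hb, hbS⟩ : ∃ b ∈ 𝔟, ∀ p ∈ S, b ∉ p := by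
      by_contra hne
      push Not at hne
      rcases S.eq_empty_or_nonempty with h0 | ⟨p₀, hp₀⟩
      · obtain ⟨p, hp, -⟩ := hne 0 (Submodule.zero_mem _)
        exact Finset.notMem_empty p (h0 ▸ hp)
      · obtain ⟨p, hp, hle⟩ := (Ideal.subset_union_prime (f := fun p => p) p₀ p₀ (fun p hp _ _ => (hS p hp).1)).1
          (fun x hx => Set.mem_iUnion₂.2 ((hne x hx).imp fun p h => ⟨h.1, h.2⟩))
        exact (hS p hp).2 hle
    obtain ⟨c, hc, m, hm⟩ := exists_correction hC (show b • a • z ∈ bd C L j from hb)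
    have hcI : c ∈ bd C I j := bd_anti C hIL j hc
    obtain ⟨s, hs, key⟩ := ih (L ⊔ Ideal.span {b}) (hIL.trans le_sup_left) (fun p _ hLp hI'p hpP => by
      obtain ⟨p', hp', hle⟩ := Ideal.exists_minimalPrimes_le (le_sup_left.trans hLp)
      haveI := hp'.1.1
      have h1 := hh p' hp'.1.2 (fun h => hI'p (h.trans hle)) (hle.trans hpP)
      have hne : p' ≠ p := fun h => hbS p'
        (Finset.mem_filter.2 ⟨hfin.mem_toFinset.2 hp', fun h' => hI'p (h'.trans hle), hle.trans hpP⟩)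
        (h ▸ hLp (Submodule.mem_sup_right (Ideal.mem_span_singleton_self b)))
      have h2 := hgt_lt (lt_of_le_of_ne hle hne)
      omega)
      (a • z - c) (Submodule.sub_mem _ (Submodule.smul_mem _ _ hzI) (bd_le C I j hcI))
      (by rw [map_sub, d_bd C I hcI, sub_zero, map_smul]; exact Submodule.smul_mem _ _ hdz)
      (sup_le (fun e he => by
        obtain ⟨N, hN⟩ := mem_torsionColon.1 (hL he)
        obtain ⟨i, hi⟩ := bd_le C L j hc
        refine mem_torsionColon.2 ⟨i + N, ?_⟩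
        rw [smul_sub, pow_add, mul_smul, mul_comm, mul_smul _ _ c, hi _ (Ideal.pow_mem_pow he i),
          smul_zero, sub_zero, smul_comm _ a, smul_comm _ a]
        exact Submodule.smul_mem _ _ (Submodule.smul_mem _ _ hN))
      (Ideal.span_le.2 (Set.singleton_subset_iff.2 (mem_torsionColon.2
        ⟨m, by rw [hm]; exact Submodule.zero_mem _⟩))))
    refine ⟨s, hs, ?_⟩
    have := Submodule.add_mem _ key (Submodule.mem_sup_right (Submodule.smul_mem _ s (Submodule.smul_mem _ (a ^ k) hcI)))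
    rwa [← smul_add, ← smul_add, sub_add_cancel, smul_smul (a ^ k) a z, ← pow_succ] at this

/-- An `I`-boundary which is `I'`-torsion, times a power of `a`, is an `I'`-boundary near `P`. -/
theorem exists_smul_pow_mem_bd {I I' P : Ideal R} [P.IsPrime] {j : ℤ} (a : R) (k : ℕ) (hk : hgt P < k)
    (hv : ∀ (p : Ideal R) [p.IsPrime], I ≤ p → ¬ I' ≤ p → p ≤ P → KillLocal C p (j - 1) a)
    {x : C.X j} (hx : x ∈ DRing.torsionSub I' (C.X j)) (hb : x ∈ bd C I j) :
    ∃ s ∉ P, s • a ^ k • x ∈ bd C I' j := by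
  obtain ⟨w, hw, rfl⟩ := hb
  have key : ∀ j' : ℤ, j' = j → C.d (j - 1) j' w ∈ DRing.torsionSub I' (C.X j') := by
    rintro _ rfl
    exact hx
  obtain ⟨s, hs, hsw⟩ := exists_smul_pow_mem_sup hC (P := P) (j - 1) a hv k I le_rfl (fun p _ _ _ _ => by omega) w hw
    (key _ (sub_add_cancel j 1)) (le_torsionColon_self hw)
  obtain ⟨t, ht, b, hb, htb⟩ := Submodule.mem_sup.1 hsw
  have hdb : C.d (j - 1) j b = 0 := by
    obtain ⟨y, -, rfl⟩ := hb
    exact RGammaI.dd_apply C (j - 1 - 1) (j - 1) j y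
  refine ⟨s, hs, t, ht, ?_⟩
  rw [← map_smul, ← map_smul, ← htb, map_add, hdb, add_zero]

omit hC [IsNoetherianRing R] in
/-- Membership can be checked after multiplying by elements outside each maximal ideal. -/
theorem mem_of_local {G : Type u} [AddCommGroup G] [Module R G] (N : Submodule R G) (x : G)
    (h : ∀ m : Ideal R, m.IsMaximal → ∃ s ∉ m, s • x ∈ N) : x ∈ N := by
  by_contra hne
  let 𝔞 : Ideal R := N.comap (LinearMap.toSpanSingleton R _ x)
  have h𝔞 : 𝔞 ≠ ⊤ := fun htop => hne (by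
    have : (1 : R) ∈ 𝔞 := htop ▸ Submodule.mem_top
    simpa [𝔞] using this)
  obtain ⟨m, hm, hle⟩ := Ideal.exists_le_maximal 𝔞 h𝔞
  obtain ⟨s, hs, hsx⟩ := h m hm
  exact hs (hle hsx)

/-- A cycle times a power of `a` is a boundary. -/
theorem pow_smul_mem_bd {I : Ideal R} {j : ℤ} (a : R) (k : ℕ) (hk : ∀ m : Ideal R, m.IsPrime → hgt m < k)
    (hv : ∀ (p : Ideal R) [p.IsPrime], I ≤ p → KillLocal C p j a)
    {z : C.X j} (hz : z ∈ DRing.torsionSub I (C.X j)) (hd : C.d j (j + 1) z = 0) :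
    a ^ k • z ∈ bd C I j := by
  refine mem_of_local _ _ fun m hm => ?_
  obtain ⟨s, hs, hsz⟩ := exists_smul_pow_mem_sup hC (I' := ⊤) (P := m) j a (fun p _ h1 _ _ => hv p h1)
    k I le_rfl (fun p _ _ _ _ => by have := hk m hm.isPrime; omega) z hz
    (by rw [hd]; exact Submodule.zero_mem _) (le_torsionColon_self hz)
  obtain ⟨t, ⟨n, hn⟩, b, hb, htb⟩ := Submodule.mem_sup.1 hsz
  have ht0 : t = 0 := by
    have h1 := hn 1 (by rw [Ideal.top_pow]; exact Submodule.mem_top)
    rwa [one_smul] at h1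
  rw [ht0, zero_add] at htb
  exact ⟨s, hs, htb ▸ hb⟩

/-- Where nothing happens at the primes of `V(I) ∖ V(I')`, a cycle of `Γ_I` is a cycle of `Γ_{I'}` up to a boundary. -/
theorem mem_sup_bd {I I' : Ideal R} (j : ℤ) (hv : ∀ (p : Ideal R) [p.IsPrime], I ≤ p → ¬ I' ≤ p → KillLocal C p j 1)
    {z : C.X j} (hz : z ∈ DRing.torsionSub I (C.X j))
    (hd : C.d j (j + 1) z ∈ DRing.torsionSub I' (C.X (j + 1))) :
    z ∈ DRing.torsionSub I' (C.X j) ⊔ bd C I j := by
  refine mem_of_local _ _ fun m hm => ?_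
  haveI := hm.isPrime
  obtain ⟨s, hs, hsz⟩ := exists_smul_pow_mem_sup hC (P := m) j 1 (fun p _ h1 h2 _ => hv p h1 h2)
    (hgt m + 1) I le_rfl (fun p _ _ _ _ => by omega) z hz hd (le_torsionColon_self hz)
  rw [one_pow, one_smul] at hsz
  exact ⟨s, hs, hsz⟩

/-- Where nothing happens at the primes of `V(I) ∖ V(I')`, `I`-boundaries in `Γ_{I'}` are `I'`-boundaries. -/
theorem mem_bd {I I' : Ideal R} (j : ℤ)
    (hv : ∀ (p : Ideal R) [p.IsPrime], I ≤ p → ¬ I' ≤ p → KillLocal C p (j - 1) 1)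
    {x : C.X j} (hx : x ∈ DRing.torsionSub I' (C.X j)) (hb : x ∈ bd C I j) : x ∈ bd C I' j := by
  refine mem_of_local _ _ fun m hm => ?_
  haveI := hm.isPrime
  obtain ⟨s, hs, hsx⟩ := exists_smul_pow_mem_bd hC (P := m) 1 (hgt m + 1) (Nat.lt_succ_self _)
    (fun p _ h1 h2 _ => hv p h1 h2) hx hb
  rw [one_pow, one_smul] at hsx
  exact ⟨s, hs, hsx⟩

end Groth.Agent.HTLib.Cx
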