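import Groth.Agent.HTLib.CxDev
import Groth.Agent.HTLib.CxClass

/-!
Finiteness of `H^i_I` and `H^i_T` of complexes with finite cohomology from annihilation.
-/

set_option autoImplicit false
set_option linter.style.haveILetI false
set_option backward.isDefEq.respectTransparency false
set_option backward.isDefEq.respectTransparency.types false

universe u

namespace Groth.Agent.HTLib.Cx

open CategoryTheory CategoryTheory.Limits Groth.Agent.LocH

attribute [local instance] HasDerivedCategory.standard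

variable {A : Type u} [CommRing A]

/-- The cohomology of `Γ_I C` in degree `i` is finite. -/
def FinH (I : Ideal A) (C : DRing.Cx A) (i : ℤ) : Prop :=
  ∃ N : Submodule A (C.X i), N.FG ∧ N ≤ DRing.torsionSub I (C.X i) ⊓ LinearMap.ker (C.d i (i + 1)).hom ∧
    DRing.torsionSub I (C.X i) ⊓ LinearMap.ker (C.d i (i + 1)).hom ≤ N ⊔ bd C I i

theorem torsionSub_bot (G : Type u) [AddCommGroup G] [Module A G] : DRing.torsionSub (⊥ : Ideal A) G = ⊤ :=
  top_unique fun x _ => ⟨1, fun a ha => by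
    rw [pow_one, Ideal.mem_bot] at ha
    rw [ha, zero_smul]⟩

theorem finH_bot_iff (C : DRing.Cx A) (i : ℤ) :
    FinH ⊥ C i ↔ ∃ N : Submodule A (C.X i), N.FG ∧ N ≤ LinearMap.ker (C.d i (i + 1)).hom ∧
      LinearMap.ker (C.d i (i + 1)).hom ≤ N ⊔ LinearMap.range (C.d (i - 1) i).hom := by
  rw [FinH, bd, torsionSub_bot, torsionSub_bot, top_inf_eq, Submodule.map_top]

theorem finH_bot_of_finite (C : DRing.Cx A) (i : ℤ) (h : Module.Finite A (C.homology i)) : FinH ⊥ C i := by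
  classical
  rw [finH_bot_iff]
  obtain ⟨n, g, hg⟩ := Module.Finite.exists_fin (R := A) (M := C.homology i)
  choose c hc using fun k => FlatCx.homologyπ_surjective C (g k)
  refine ⟨Submodule.span A (Set.range fun k => C.iCycles i (c k)), Submodule.fg_span (Set.finite_range _),
    Submodule.span_le.2 (by rintro _ ⟨k, rfl⟩; exact FlatCx.d_iCycles C (k := i + 1) (c k)), fun x hx => ?_⟩
  obtain ⟨y, hy⟩ := FlatCx.exists_cycles C (j := i) (k := i + 1) (by simp) x hx
  have hmem : C.homologyπ i y ∈ Submodule.span A (Set.range g) := hg ▸ Submodule.mem_top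
  obtain ⟨r, hr⟩ := (Submodule.mem_span_range_iff_exists_fun A).1 hmem
  have h0 : C.homologyπ i (y - ∑ k, r k • c k) = 0 := by
    rw [map_sub, map_sum, ← hr]
    exact sub_eq_zero.2 (Finset.sum_congr rfl fun k _ => by rw [map_smul, hc])
  obtain ⟨w, hw⟩ := (FlatCx.homologyπ_eq_zero_iff C (i := i - 1) (by simp) _).1 h0
  rw [map_sub, map_sum, hy] at hw
  refine Submodule.mem_sup.2 ⟨∑ k, C.iCycles i (r k • c k), Submodule.sum_mem _ fun k _ => ?_, C.d (i - 1) i w, ⟨w, rfl⟩, ?_⟩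
  · rw [map_smul]
    exact Submodule.smul_mem _ _ (Submodule.subset_span ⟨k, rfl⟩)
  · rw [hw, add_sub_cancel]

/-- The cone of multiplication by `c`. -/
noncomputable def cone (C : DRing.Cx A) (c : A) : DRing.Cx A :=
  CochainComplex.of (fun i => ModuleCat.of A (C.X (i + 1) × C.X i))
    (fun i => ModuleCat.ofHom (LinearMap.prod (-(C.d (i + 1) (i + 1 + 1)).hom ∘ₗ LinearMap.fst A _ _)
      (c • ((LinearMap.fst A (C.X (i + 1)) (C.X i))) + (C.d i (i + 1)).hom ∘ₗ LinearMap.snd A _ _)))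
    fun i => by
      refine ModuleCat.hom_ext (LinearMap.ext fun x => Prod.ext ?_ ?_)
      · show -C.d (i + 1 + 1) (i + 1 + 1 + 1) (-C.d (i + 1) (i + 1 + 1) x.1) = 0
        rw [map_neg, neg_neg]
        exact RGammaI.dd_apply C (i + 1) (i + 1 + 1) (i + 1 + 1 + 1) x.1
      · show c • (-C.d (i + 1) (i + 1 + 1) x.1) + C.d (i + 1) (i + 1 + 1) (c • x.1 + C.d i (i + 1) x.2) = 0
        rw [map_add, map_smul, RGammaI.dd_apply C i (i + 1) (i + 1 + 1) x.2, smul_neg, add_zero, neg_add_cancel]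

theorem cone_d (C : DRing.Cx A) (c : A) (i : ℤ) (y : C.X (i + 1)) (x : C.X i) :
    (cone C c).d i (i + 1) (show (cone C c).X i from (y, x)) =
      ((-C.d (i + 1) (i + 1 + 1) y, c • y + C.d i (i + 1) x) : C.X (i + 1 + 1) × C.X (i + 1)) := by
  unfold cone
  simp [CochainComplex.of]

theorem ti_cone {C : DRing.Cx A} (hC : RGammaI.TI C) (c : A) : RGammaI.TI (cone C c) := fun i => by
  haveI : Module.Injective A (C.X (i + 1)) := Module.injective_module_of_injective_object A _ (inj := hC (i + 1))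
  haveI : Module.Injective A (C.X i) := Module.injective_module_of_injective_object A _ (inj := hC i)
  have : Module.Injective A (C.X (i + 1) × C.X i) := ⟨fun X Y _ _ _ _ f hf g => by
    obtain ⟨g₁, h₁⟩ := Module.Injective.out f hf (LinearMap.fst A _ _ ∘ₗ g)
    obtain ⟨g₂, h₂⟩ := Module.Injective.out f hf (LinearMap.snd A _ _ ∘ₗ g)
    exact ⟨g₁.prod g₂, fun x => Prod.ext (h₁ x) (h₂ x)⟩⟩
  exact (Module.injective_iff_injective_object A ((cone C c).X i)).1 this

variable [IsNoetherianRing A]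

/-- The cohomology of the cone is finite. -/
theorem finH_cone {C : DRing.Cx A} (c : A) (h : ∀ i, FinH ⊥ C i) (i : ℤ) : FinH ⊥ (cone C c) i := by
  rw [finH_bot_iff]
  obtain ⟨N₁, hN₁, -, hN₁'⟩ := (finH_bot_iff C (i + 1)).1 (h (i + 1))
  obtain ⟨N₂, hN₂, hN₂c, hN₂'⟩ := (finH_bot_iff C i).1 (h i)
  let π₁ : ((cone C c).X i : Type u) →ₗ[A] C.X (i + 1) := LinearMap.fst A (C.X (i + 1)) (C.X i)
  let ι₂ : (C.X i : Type u) →ₗ[A] (cone C c).X i := LinearMap.inr A (C.X (i + 1)) (C.X i)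
  let Z := LinearMap.ker ((cone C c).d i (i + 1)).hom
  haveI : IsNoetherian A N₁ := isNoetherian_of_fg_of_noetherian N₁ hN₁
  obtain ⟨G, hG⟩ : (Submodule.comap N₁.subtype (Z.map π₁)).FG := IsNoetherian.noetherian _
  choose z hz hzg using fun g : G => (hG ▸ Submodule.subset_span g.2 : (g : N₁) ∈ Submodule.comap N₁.subtype (Z.map π₁))
  refine ⟨Submodule.span A (Set.range z) ⊔ N₂.map ι₂, (Submodule.fg_span (Set.finite_range _)).sup (hN₂.map _),
    sup_le (Submodule.span_le.2 (by rintro _ ⟨g, rfl⟩; exact hz g)) ?_, fun w hw => ?_⟩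
  · rintro _ ⟨x, hx, rfl⟩
    refine (cone_d C c i 0 x).trans ?_
    rw [map_zero, neg_zero, smul_zero, zero_add, show C.d i (i + 1) x = 0 from hN₂c hx]
    rfl
  obtain ⟨y, x⟩ : C.X (i + 1) × C.X i := w
  have hd := (cone_d C c i y x).symm.trans hw
  have hy : C.d (i + 1) (i + 1 + 1) y = 0 := neg_eq_zero.1 (congrArg Prod.fst hd)
  obtain ⟨n, hn, b, ⟨v, hv⟩, hnb⟩ := Submodule.mem_sup.1 (hN₁' hy)
  -- the boundary part lifts
  obtain ⟨v', hv'⟩ : ∃ v' : C.X i, C.d i (i + 1) v' = b := by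
    have key : ∀ j : ℤ, j = i + 1 - 1 → ∃ v' : C.X j, C.d j (i + 1) v' = b := by
      rintro _ rfl
      exact ⟨v, hv⟩
    exact key i (by ring)
  have hnZ : (⟨n, hn⟩ : N₁) ∈ Submodule.comap N₁.subtype (Z.map π₁) := by
    refine ⟨(show (cone C c).X i from (n, x + c • v')), ?_, rfl⟩
    have hn0 : C.d (i + 1) (i + 1 + 1) n = 0 := by
      have h1 : n = y - b := (sub_eq_of_eq_add hnb.symm).symm
      rw [h1, map_sub, hy, ← hv', RGammaI.dd_apply C i (i + 1) (i + 1 + 1) v', sub_zero]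
    have h2 : c • y + C.d i (i + 1) x = 0 := congrArg Prod.snd hd
    refine (cone_d C c i n (x + c • v')).trans (Prod.ext ?_ ?_)
    · show -C.d (i + 1) (i + 1 + 1) n = 0
      rw [hn0, neg_zero]
    · show c • n + C.d i (i + 1) (x + c • v') = 0
      rw [map_add, map_smul, hv', ← h2, ← hnb, smul_add]
      abel
  rw [← hG] at hnZ
  obtain ⟨r, hr⟩ : ∃ r : G → A, ∑ g, r g • (g : N₁) = ⟨n, hn⟩ := by
    have : Set.range (fun g : G => (g : N₁)) = (G : Set N₁) := Subtype.range_coe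
    rw [← this] at hnZ
    exact (Submodule.mem_span_range_iff_exists_fun A).1 hnZ
  let s : ((cone C c).X i : Type u) := ∑ g, r g • z g
  have hs : s ∈ Submodule.span A (Set.range z) :=
    Submodule.sum_mem _ fun g _ => Submodule.smul_mem _ _ (Submodule.subset_span ⟨g, rfl⟩)
  have hs1 : π₁ s = n := by
    rw [map_sum]
    refine Eq.trans (Finset.sum_congr rfl fun g _ => (map_smul π₁ _ _).trans (congrArg _ (hzg g))) ?_
    exact (map_sum N₁.subtype _ _).symm.trans (congrArg N₁.subtype hr)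
  -- a boundary of the cone with first component `b`
  obtain ⟨β, ⟨β₀, hβ₀⟩, hβ1⟩ : ∃ β ∈ LinearMap.range ((cone C c).d (i - 1) i).hom, π₁ β = b := by
    have key : ∀ j : ℤ, j + 1 = i → ∃ β ∈ LinearMap.range ((cone C c).d j i).hom, π₁ β = b := by
      rintro j rfl
      refine ⟨(cone C c).d j (j + 1) (show (cone C c).X j from (-v', 0)), ⟨_, rfl⟩, ?_⟩
      refine (congrArg (LinearMap.fst A _ _) (cone_d C c j (-v') 0)).trans ?_
      show -C.d (j + 1) (j + 1 + 1) (-v') = b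
      rw [map_neg, neg_neg, hv']
    exact key (i - 1) (by ring)
  let w' : C.X (i + 1) × C.X i := ((show (cone C c).X i from (y, x)) - s - β : (cone C c).X i)
  have hw'1 : w'.1 = 0 := by
    show π₁ ((show (cone C c).X i from (y, x)) - s - β) = 0
    rw [map_sub, map_sub, hs1, hβ1]
    show y - n - b = 0
    rw [← hnb]; abel
  have hw'Z : (cone C c).d i (i + 1) (show (cone C c).X i from w') = 0 := by
    show (cone C c).d i (i + 1) ((show (cone C c).X i from (y, x)) - s - β) = 0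
    rw [map_sub, map_sub, ← hβ₀]
    rw [show (cone C c).d i (i + 1) ((cone C c).d (i - 1) i β₀) = 0 from RGammaI.dd_apply (cone C c) _ _ _ β₀]
    rw [show (cone C c).d i (i + 1) (show (cone C c).X i from (y, x)) = 0 from hw,
      show (cone C c).d i (i + 1) s = 0 from
        (Submodule.span_le (p := Z)).2 (by rintro _ ⟨g, rfl⟩; exact hz g) hs, sub_zero, sub_zero]
  have hw'2 : C.d i (i + 1) w'.2 = 0 := by
    have h3 := congrArg Prod.snd ((cone_d C c i w'.1 w'.2).symm.trans hw'Z)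
    simpa [hw'1] using h3
  obtain ⟨n₂, hn₂, b₂, ⟨v₂, hv₂⟩, hnb₂⟩ := Submodule.mem_sup.1 (hN₂' hw'2)
  have hb₂ : ι₂ b₂ ∈ LinearMap.range ((cone C c).d (i - 1) i).hom := by
    have key : ∀ j : ℤ, j + 1 = i → ∀ v₂ : C.X j, C.d j i v₂ = b₂ →
        ι₂ b₂ ∈ LinearMap.range ((cone C c).d j i).hom := by
      rintro j rfl v₂ hv₂
      refine ⟨(show (cone C c).X j from (0, v₂)), (cone_d C c j 0 v₂).trans ?_⟩
      rw [map_zero, neg_zero, smul_zero, zero_add, hv₂]
      rfl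
    exact key (i - 1) (by ring) v₂ hv₂
  refine Submodule.mem_sup.2 ⟨s + ι₂ n₂, Submodule.add_mem _ (Submodule.mem_sup_left hs)
    (Submodule.mem_sup_right ⟨n₂, hn₂, rfl⟩), β + ι₂ b₂, Submodule.add_mem _ ⟨β₀, hβ₀⟩ hb₂, ?_⟩
  have h4 : ι₂ n₂ + ι₂ b₂ = (show (cone C c).X i from w') := by
    rw [← map_add, hnb₂]
    exact Prod.ext hw'1.symm rfl
  rw [add_add_add_comm, h4]
  show s + β + ((show (cone C c).X i from (y, x)) - s - β) = (show (cone C c).X i from (y, x))
  abel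

theorem good_ofList {C : DRing.Cx A} (hC : RGammaI.TI C) :
    ∀ l : List A, (∀ f ∈ l, RGammaI.Kills f C) → RGammaI.Good (Ideal.ofList l) C
  | [], _ => by
    rw [Ideal.ofList_nil]
    exact RGammaI.good_bot C
  | f :: l, h => by
    rw [Ideal.ofList_cons, sup_comm]
    exact RGammaI.good_sup (divModTors hC _ f) (h f List.mem_cons_self)
      (good_ofList hC l fun g hg => h g (List.mem_cons_of_mem _ hg))

/-- `H^i_I` is finite in degrees `≤ n` once powers of generators of `I` kill it there. -/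
theorem finH_of_killed (fs : List A) : ∀ (todo done_ : List A) (C : DRing.Cx A), RGammaI.TI C →
    (∀ i, FinH ⊥ C i) → fs = done_ ++ todo → (∀ f ∈ done_, RGammaI.Kills f C) → ∀ n : ℤ,
    (∀ f ∈ fs, ∃ N : ℕ, ∀ i ≤ n, ∀ x ∈ DRing.torsionSub (Ideal.ofList fs) (C.X i), C.d i (i + 1) x = 0 →
      f ^ N • x ∈ bd C (Ideal.ofList fs) i) →
    ∀ i ≤ n, FinH (Ideal.ofList fs) C i := by
  intro todo
  induction todo with
  | nil =>
    intro done_ C hC hfin hfs hdone n _ i _
    rw [List.append_nil] at hfs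
    subst hfs
    have hgood := good_ofList hC fs hdone
    obtain ⟨N, hN, hNc, hN'⟩ := (finH_bot_iff C i).1 (hfin i)
    obtain ⟨G, hG⟩ := hN
    choose y hy using fun g : G => hgood.2 i g (hNc (hG ▸ Submodule.subset_span g.2))
    let tg : G → C.X i := fun g => (g : C.X i) - C.d (i - 1) i (y g)
    refine ⟨Submodule.span A (Set.range tg), Submodule.fg_span (Set.finite_range _), Submodule.span_le.2 ?_,
      fun x hx => ?_⟩
    · rintro _ ⟨g, rfl⟩
      refine ⟨hy g, ?_⟩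
      show C.d i (i + 1) ((g : C.X i) - C.d (i - 1) i (y g)) = 0
      rw [map_sub, RGammaI.dd_apply C (i - 1) i (i + 1) (y g), sub_zero]
      exact hNc (hG ▸ Submodule.subset_span g.2)
    obtain ⟨n, hn, b, hb, hnb⟩ := Submodule.mem_sup.1 (hN' hx.2)
    have hn' : n ∈ Submodule.span A (Set.range tg) ⊔ LinearMap.range (C.d (i - 1) i).hom := by
      rw [← hG] at hn
      refine (Submodule.span_le.2 ?_) hn
      intro g hg
      exact Submodule.mem_sup.2 ⟨tg ⟨g, hg⟩, Submodule.subset_span ⟨_, rfl⟩, _, ⟨y ⟨g, hg⟩, rfl⟩, sub_add_cancel _ _⟩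
    obtain ⟨t, ht, b', hb', rfl⟩ := Submodule.mem_sup.1 hn'
    refine Submodule.mem_sup.2 ⟨t, ht, b' + b, ?_, by rw [← hnb, add_assoc]⟩
    obtain ⟨w, hw⟩ := Submodule.add_mem _ hb' hb
    have htT : t ∈ DRing.torsionSub (Ideal.ofList fs) (C.X i) :=
      (Submodule.span_le.2 (by rintro _ ⟨g, rfl⟩; exact hy g)) ht
    obtain ⟨w', hw', hdw'⟩ := hgood.1 i (b' + b) (by
      have : b' + b = x - t := by rw [← hnb]; abel
      rw [this]
      exact Submodule.sub_mem _ hx.1 htT) w hw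
    exact ⟨w', hw', hdw'⟩
  | cons f todo ih =>
    intro done_ C hC hfin hfs hdone n hkill i hi
    obtain ⟨N, hN⟩ := hkill f (hfs ▸ List.mem_append_right _ List.mem_cons_self)
    let I := Ideal.ofList fs
    let K := cone C (f ^ N)
    have hfst : ∀ (j : ℤ) (w : C.X (j + 1) × C.X j), w ∈ DRing.torsionSub I (C.X (j + 1) × C.X j) ↔
        w.1 ∈ DRing.torsionSub I (C.X (j + 1)) ∧ w.2 ∈ DRing.torsionSub I (C.X j) := fun j w => by
      refine ⟨fun ⟨k, hk⟩ => ⟨⟨k, fun a ha => congrArg Prod.fst (hk a ha)⟩, ⟨k, fun a ha => congrArg Prod.snd (hk a ha)⟩⟩,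
        fun ⟨⟨k, hk⟩, ⟨l, hl⟩⟩ => ⟨max k l, fun a ha => Prod.ext ?_ ?_⟩⟩
      · exact hk a (Ideal.pow_le_pow_right (le_max_left k l) ha)
      · exact hl a (Ideal.pow_le_pow_right (le_max_right k l) ha)
    have hKkill : ∀ g ∈ fs, ∃ M : ℕ, ∀ j ≤ n - 1, ∀ w ∈ DRing.torsionSub I (K.X j), K.d j (j + 1) w = 0 →
        g ^ M • w ∈ bd K I j := fun g hg => by
      obtain ⟨M, hM⟩ := hkill g hg
      refine ⟨M + M, fun j hj w hw hdw => ?_⟩
      obtain ⟨y, x⟩ : C.X (j + 1) × C.X j := w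
      have hd := (cone_d C (f ^ N) j y x).symm.trans hdw
      obtain ⟨hy, hx⟩ := (hfst j (y, x)).1 hw
      obtain ⟨v, hv, hvy⟩ := hM (j + 1) (by lia) y hy (neg_eq_zero.1 (congrArg Prod.fst hd))
      obtain ⟨v', hv', hv'y⟩ : ∃ v' ∈ DRing.torsionSub I (C.X j), C.d j (j + 1) v' = g ^ M • y := by
        have key : ∀ k : ℤ, k = j + 1 - 1 → ∃ v' ∈ DRing.torsionSub I (C.X k), C.d k (j + 1) v' = g ^ M • y := by
          rintro _ rfl
          exact ⟨v, hv, hvy⟩
        exact key j (by ring)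
      have hx' : C.d j (j + 1) (g ^ M • x + f ^ N • v') = 0 := by
        rw [map_add, map_smul, map_smul, hv'y, smul_comm (f ^ N), ← smul_add,
          show C.d j (j + 1) x + f ^ N • y = 0 from (add_comm _ _).trans (congrArg Prod.snd hd), smul_zero]
      obtain ⟨u, hu, hux⟩ := hM j (by lia) (g ^ M • x + f ^ N • v')
        (Submodule.add_mem _ (Submodule.smul_mem _ _ hx) (Submodule.smul_mem _ _ hv')) hx'
      obtain ⟨j, rfl⟩ : ∃ k, j = k + 1 := ⟨j - 1, by ring⟩
      obtain ⟨u', hu', hu'x⟩ : ∃ u' ∈ DRing.torsionSub I (C.X j),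
          C.d j (j + 1) u' = g ^ M • (g ^ M • x + f ^ N • v') := by
        have key : ∀ k : ℤ, k = j + 1 - 1 → ∃ u' ∈ DRing.torsionSub I (C.X k),
            C.d k (j + 1) u' = g ^ M • (g ^ M • x + f ^ N • v') := by
          rintro _ rfl
          exact ⟨u, hu, hux⟩
        exact key j (by ring)
      have hmem : ∃ w ∈ DRing.torsionSub I (K.X j), K.d j (j + 1) w = g ^ (M + M) • (show K.X (j + 1) from (y, x)) := by
        refine ⟨(show K.X j from (-(g ^ M • v'), u')),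
          (hfst j (-(g ^ M • v'), u')).2 ⟨Submodule.neg_mem _ (Submodule.smul_mem _ _ hv'), hu'⟩, ?_⟩
        refine (cone_d C (f ^ N) j _ u').trans (Prod.ext ?_ ?_)
        · show -C.d (j + 1) (j + 1 + 1) (-(g ^ M • v')) = g ^ (M + M) • y
          rw [map_neg, neg_neg, map_smul, hv'y, smul_smul, ← pow_add]
        · show f ^ N • (-(g ^ M • v')) + C.d j (j + 1) u' = g ^ (M + M) • x
          rw [hu'x, smul_add, smul_smul (g ^ M) (g ^ M) x, ← pow_add, smul_neg, smul_comm (f ^ N)]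
          abel
      obtain ⟨w, hw, hwd⟩ := hmem
      have key : ∀ k : ℤ, k = j → g ^ (M + M) • (show K.X (j + 1) from (y, x)) ∈
          (DRing.torsionSub I (K.X k)).map (K.d k (j + 1)).hom := by
        rintro _ rfl
        exact ⟨w, hw, hwd⟩
      exact key (j + 1 - 1) (by ring)
    have hKdone : ∀ g ∈ done_ ++ [f], RGammaI.Kills g K := fun g hg j w hdw => by
      obtain ⟨y, x⟩ : C.X (j + 1) × C.X j := w
      have hd := (cone_d C (f ^ N) j y x).symm.trans hdw
      have hy : C.d (j + 1) (j + 1 + 1) y = 0 := neg_eq_zero.1 (congrArg Prod.fst hd)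
      have hx : f ^ N • y + C.d j (j + 1) x = 0 := congrArg Prod.snd hd
      obtain ⟨j, rfl⟩ : ∃ k, j = k + 1 := ⟨j - 1, by ring⟩
      suffices h : ∃ (M : ℕ) (v : C.X (j + 1) × C.X j),
          K.d j (j + 1) (show K.X j from v) = g ^ M • (show K.X (j + 1) from (y, x)) by
        obtain ⟨M, v, hv⟩ := h
        have key : ∀ k : ℤ, k = j → ∃ v' : K.X k, K.d k (j + 1) v' = g ^ M • (show K.X (j + 1) from (y, x)) := by
          rintro _ rfl
          exact ⟨v, hv⟩
        obtain ⟨v', hv'⟩ := key (j + 1 - 1) (by ring)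
        exact ⟨M, v', hv'⟩
      rcases List.mem_append.1 hg with hg | hg
      · obtain ⟨M, v, hv⟩ := hdone g hg (j + 1 + 1) y hy
        obtain ⟨v', hv'⟩ : ∃ v' : C.X (j + 1), C.d (j + 1) (j + 1 + 1) v' = g ^ M • y := by
          have key : ∀ k : ℤ, k = j + 1 + 1 - 1 → ∃ v' : C.X k, C.d k (j + 1 + 1) v' = g ^ M • y := by
            rintro _ rfl
            exact ⟨v, hv⟩
          exact key (j + 1) (by ring)
        have hx' : C.d (j + 1) (j + 1 + 1) (g ^ M • x + f ^ N • v') = 0 := by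
          rw [map_add, map_smul, map_smul, hv', smul_comm (f ^ N), ← smul_add,
            show C.d (j + 1) (j + 1 + 1) x + f ^ N • y = 0 from (add_comm _ _).trans hx, smul_zero]
        obtain ⟨M', u, hu⟩ := hdone g hg (j + 1) _ hx'
        obtain ⟨u', hu'⟩ : ∃ u' : C.X j, C.d j (j + 1) u' = g ^ M' • (g ^ M • x + f ^ N • v') := by
          have key : ∀ k : ℤ, k = j + 1 - 1 → ∃ u' : C.X k, C.d k (j + 1) u' = g ^ M' • (g ^ M • x + f ^ N • v') := by
            rintro _ rfl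
            exact ⟨u, hu⟩
          exact key j (by ring)
        refine ⟨M' + M, (-(g ^ M' • v'), u'), (cone_d C (f ^ N) j _ u').trans (Prod.ext ?_ ?_)⟩
        · show -C.d (j + 1) (j + 1 + 1) (-(g ^ M' • v')) = g ^ (M' + M) • y
          rw [map_neg, neg_neg, map_smul, hv', smul_smul, ← pow_add]
        · show f ^ N • (-(g ^ M' • v')) + C.d j (j + 1) u' = g ^ (M' + M) • x
          rw [hu', smul_add, smul_smul (g ^ M') (g ^ M) x, ← pow_add, smul_neg, smul_comm (f ^ N)]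
          abel
      · rw [List.mem_singleton] at hg
        subst hg
        refine ⟨N, (x, 0), (cone_d C (g ^ N) j x 0).trans ?_⟩
        rw [map_zero, add_zero, show -C.d (j + 1) (j + 1 + 1) x = g ^ N • y from neg_eq_of_add_eq_zero_left hx]
        rfl
    obtain ⟨i, rfl⟩ : ∃ k, i = k + 1 := ⟨i - 1, by ring⟩
    obtain ⟨Nw, hNw, hNwc, hNw'⟩ := ih (done_ ++ [f]) K (ti_cone hC _) (finH_cone _ hfin) (by simp [hfs]) hKdone
      (n - 1) hKkill i (by lia)
    let π₁ : (K.X i : Type u) →ₗ[A] C.X (i + 1) := LinearMap.fst A (C.X (i + 1)) (C.X i)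
    refine ⟨Nw.map π₁, hNw.map _, ?_, fun x hx => ?_⟩
    · rintro _ ⟨w, hw, rfl⟩
      obtain ⟨y, z⟩ : C.X (i + 1) × C.X i := w
      exact ⟨((hfst i (y, z)).1 (hNwc hw).1).1,
        neg_eq_zero.1 (congrArg Prod.fst ((cone_d C (f ^ N) i y z).symm.trans (hNwc hw).2))⟩
    obtain ⟨v, hv, hvx⟩ := hN (i + 1) hi x hx.1 hx.2
    obtain ⟨v', hv', hv'x⟩ : ∃ v' ∈ DRing.torsionSub I (C.X i), C.d i (i + 1) v' = f ^ N • x := by
      have key : ∀ k : ℤ, k = i + 1 - 1 → ∃ v' ∈ DRing.torsionSub I (C.X k), C.d k (i + 1) v' = f ^ N • x := by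
        rintro _ rfl
        exact ⟨v, hv, hvx⟩
      exact key i (by ring)
    have hxk : (show K.X i from (x, -v')) ∈
        DRing.torsionSub I (K.X i) ⊓ LinearMap.ker (K.d i (i + 1)).hom := by
      refine ⟨(hfst i (x, -v')).2 ⟨hx.1, Submodule.neg_mem _ hv'⟩, (cone_d C (f ^ N) i x (-v')).trans ?_⟩
      rw [show C.d (i + 1) (i + 1 + 1) x = 0 from hx.2, neg_zero, map_neg, hv'x, add_neg_cancel]
      rfl
    obtain ⟨m, hm, b, hb, hmb⟩ := Submodule.mem_sup.1 (hNw' hxk)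
    refine Submodule.mem_sup.2 ⟨π₁ m, ⟨m, hm, rfl⟩, π₁ b, ?_, (map_add π₁ m b).symm.trans (congrArg π₁ hmb)⟩
    obtain ⟨β, hβ, rfl⟩ := hb
    obtain ⟨i, rfl⟩ : ∃ k, i = k + 1 := ⟨i - 1, by ring⟩
    have key : ∀ k : ℤ, k = i → ∀ β ∈ DRing.torsionSub I (K.X k),
        π₁ (K.d k (i + 1) β) ∈ bd C I (i + 1 + 1) := by
      rintro i rfl β hβ
      obtain ⟨y, z⟩ : C.X (i + 1) × C.X i := β
      have e1 : π₁ (K.d i (i + 1) (show K.X i from (y, z))) = C.d (i + 1) (i + 1 + 1) (-y) :=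
        (congrArg (LinearMap.fst A _ _) (cone_d C (f ^ N) i y z)).trans (map_neg _ y).symm
      refine e1 ▸ ?_
      have key2 : ∀ l : ℤ, l = i + 1 → C.d (i + 1) (i + 1 + 1) (-y) ∈
          (DRing.torsionSub I (C.X l)).map (C.d l (i + 1 + 1)).hom := by
        rintro _ rfl
        exact ⟨-y, Submodule.neg_mem _ ((hfst i (y, z)).1 hβ).1, rfl⟩
      exact key2 (i + 1 + 1 - 1) (by ring)
    exact key (i + 1 - 1) (by ring) β hβ

/-- `H^i_T` is finite in degrees `≤ n` once an ideal with zero locus in `T` kills it there. -/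
theorem killLocal_one_of_killed {T : Set (PrimeSpectrum A)} {C : DRing.Cx A} (hC : RGammaI.TI C) {a : A} {n : ℤ}
    (hk : ∀ i ≤ n, ∀ x : C.X i, C.d i (i + 1) x = 0 → ∀ I : Ideal A, PrimeSpectrum.zeroLocus (I : Set A) ⊆ T →
      x ∈ DRing.torsionSub I (C.X i) → ∃ K : Ideal A, PrimeSpectrum.zeroLocus (K : Set A) ⊆ T ∧ K ≤ I ∧
        a • x ∈ bd C K i) (hT : StableUnderSpecialization T) :
    ∀ h : ℕ, ∃ N : ℕ, ∀ q : PrimeSpectrum A, q ∈ T → hgt q.asIdeal < h → ∀ i ≤ n, KillLocal C q.asIdeal i (a ^ N)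
  | 0 => ⟨0, fun q _ hq => absurd hq (Nat.not_lt_zero _)⟩
  | h + 1 => by
    obtain ⟨N, hN⟩ := killLocal_one_of_killed hC hk hT h
    refine ⟨N * (h + 1) + 1, fun q hqT hqh j hj x hx hd => ?_⟩
    obtain ⟨K, hK, hKq, hK0⟩ := hk j hj x hd q.asIdeal (fun r hr => hT ((PrimeSpectrum.le_iff_specializes q r).1 hr) hqT) hx
    obtain ⟨u, hu, hux⟩ := exists_smul_pow_mem_bd hC (P := q.asIdeal) (a ^ N) (h + 1) hqh
      (fun p hp h1 h2 h3 => hN ⟨p, hp⟩ (hK h1)
        (lt_of_lt_of_le (hgt_lt (lt_of_le_of_ne h3 fun h => h2 (h ▸ le_rfl))) (Nat.le_of_lt_succ hqh)) (j - 1) (by lia))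
      (Submodule.smul_mem _ a hx) hK0
    refine ⟨u, hu, ?_⟩
    rw [pow_succ, pow_mul, mul_smul]
    exact hux

end Groth.Agent.HTLib.Cx
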