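import Groth.Agent.HTLib.Basic
import Groth.Agent.HTLib.Vanish
import Groth.Agent.LocH.DepthPrimes

/-!
Annihilators of local cohomology from annihilators at the points of the support.
-/

set_option autoImplicit false
set_option backward.isDefEq.respectTransparency false
set_option backward.isDefEq.respectTransparency.types false

namespace Groth.Agent.HTLib

universe u

open CategoryTheory CategoryTheory.Limits Groth.Agent.LocH

variable {R : Type u} [CommRing R] {M : ModuleCat.{u} R} (J : InjectiveResolution M)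

/-- `a` kills `H^j` at the point `q`, on cycles. -/
def KillLocal (q : Ideal R) (j : ℕ) (a : R) : Prop :=
  ∀ x ∈ DRing.torsionSub q (J.cocomplex.X j), J.cocomplex.d j (j + 1) x = 0 →
    ∃ u ∉ q, u • a • x ∈ boundary J q j

/-- The height of a prime. -/
noncomputable def hgt (q : Ideal R) : ℕ := q.height.toNat

variable [IsNoetherianRing R]

theorem hgt_lt {p q : Ideal R} [p.IsPrime] [q.IsPrime] (h : p < q) : hgt p < hgt q :=
  by
    have h1 := Ideal.height_strict_mono_of_isPrime h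
    rwa [← ENat.natCast_toNat (Ideal.height_ne_top (I := p) (Ideal.IsPrime.ne_top inferInstance)),
      ← ENat.natCast_toNat (Ideal.height_ne_top (I := q) (Ideal.IsPrime.ne_top inferInstance)), Nat.cast_lt] at h1

theorem hgt_le {p q : Ideal R} [p.IsPrime] [q.IsPrime] (h : p ≤ q) : hgt p ≤ hgt q :=
  ENat.toNat_le_toNat (Ideal.height_mono h) (Ideal.height_ne_top (Ideal.IsPrime.ne_top inferInstance))

omit [IsNoetherianRing R] in
theorem floc_eq_zero {I' p : Ideal R} [p.IsPrime] {b : R} (hb : b ∈ I') (hbp : b ∉ p) [IsNoetherianRing R] {n : ℕ}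
    {x : J.cocomplex.X n} (hx : x ∈ DRing.torsionSub I' (J.cocomplex.X n)) : floc p.primeCompl J n x = 0 := by
  obtain ⟨k, hk⟩ := hx
  exact (IsLocalizedModule.eq_zero_iff p.primeCompl (floc p.primeCompl J n)).2
    ⟨⟨b ^ k, pow_mem (S := p.primeCompl) hbp k⟩, hk _ (Ideal.pow_mem_pow hb k)⟩

theorem exists_torsion_multiple {L I' p : Ideal R} [p.IsPrime] (hp : p ∈ L.minimalPrimes) (hI'p : ¬ I' ≤ p) {j : ℕ}
    {z : J.cocomplex.X j} (hdz : J.cocomplex.d j (j + 1) z ∈ DRing.torsionSub I' (J.cocomplex.X (j + 1)))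
    (hL : L ≤ torsionColon I' z) :
    ∃ w ∉ p, w • z ∈ DRing.torsionSub p (J.cocomplex.X j) ∧ J.cocomplex.d j (j + 1) (w • z) = 0 := by
  obtain ⟨b, hb, hbp⟩ := SetLike.not_le_iff_exists.1 hI'p
  have hmax : floc p.primeCompl J j z ∈ DRing.torsionSub (p.map (algebraMap R (Localization p.primeCompl)))
      ((J.cocomplex.X j).localizedModule p.primeCompl) := by
    apply mem_torsionSub_of_le_torsionColon
    rw [← IsLocalization.AtPrime.radical_map_of_mem_minimalPrimes (Localization p.primeCompl) p L hp]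
    refine (Ideal.radical_mono (Ideal.map_le_iff_le_comap.2 fun a ha => ?_)).trans (le_of_eq (Ideal.radical_idem _))
    obtain ⟨N, hN⟩ := mem_torsionColon.1 (hL ha)
    refine mem_torsionColon.2 ⟨N, ?_⟩
    rw [← map_pow, algebraMap_smul, ← map_smul, floc_eq_zero J hb hbp hN]
    exact Submodule.zero_mem _
  obtain ⟨x, hx, s, hs⟩ := exists_rep p.primeCompl J _ hmax
  rw [← map_smul] at hs
  obtain ⟨u, hu⟩ := IsLocalizedModule.exists_of_eq (S := p.primeCompl) (f := floc p.primeCompl J j) hs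
  obtain ⟨v, hv⟩ := (IsLocalizedModule.eq_zero_iff p.primeCompl (floc p.primeCompl J (j + 1))).1
    (floc_eq_zero J hb hbp hdz)
  refine ⟨((v * u * s : p.primeCompl) : R), (v * u * s).2, ?_, ?_⟩
  · change (u : R) • ((s : R) • z) = (u : R) • x at hu
    rw [Submonoid.coe_mul, Submonoid.coe_mul, mul_smul, mul_smul, hu]
    exact Submodule.smul_mem _ _ (Submodule.smul_mem _ _ hx)
  · change (v : R) • J.cocomplex.d j (j + 1) z = 0 at hv
    rw [map_smul, Submonoid.coe_mul, Submonoid.coe_mul, mul_assoc, mul_comm, mul_smul, hv, smul_zero]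

theorem exists_smul_pow_mem_sup {I I' P : Ideal R} [P.IsPrime] (j : ℕ) (a : R)
    (hv : ∀ (p : Ideal R) [p.IsPrime], I ≤ p → ¬ I' ≤ p → p ≤ P → KillLocal J p j a) :
    ∀ (k : ℕ) (L : Ideal R), I ≤ L →
      (∀ (p : Ideal R) [p.IsPrime], L ≤ p → ¬ I' ≤ p → p ≤ P → hgt P < hgt p + k) →
      ∀ z ∈ DRing.torsionSub I (J.cocomplex.X j),
      J.cocomplex.d j (j + 1) z ∈ DRing.torsionSub I' (J.cocomplex.X (j + 1)) → L ≤ torsionColon I' z →
      ∃ s ∉ P, s • a ^ k • z ∈ DRing.torsionSub I' (J.cocomplex.X j) ⊔ boundary J I j := by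
  classical
  intro k
  induction k with
  | zero =>
    intro L hIL hh z hzI hdz hL
    have hfin : L.minimalPrimes.Finite := Ideal.finite_minimalPrimes_of_isNoetherianRing R L
    have hgood : ∀ p ∈ L.minimalPrimes, I' ≤ p ∨ ¬ p ≤ P := fun p hp => by
      by_contra h
      push Not at h
      haveI := hp.1.1
      have h1 := hh p hp.1.2 h.1 h.2
      have h2 := hgt_le h.2
      omega
    have ht : ∀ p : hfin.toFinset.filter (fun p => ¬ I' ≤ p), ∃ t, t ∈ p.1 ∧ t ∉ P := fun p => by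
      obtain ⟨h1, h2⟩ := Finset.mem_filter.1 p.2
      exact SetLike.not_le_iff_exists.1 ((hgood p.1 (hfin.mem_toFinset.1 h1)).resolve_left h2)
    choose t htp htP using ht
    let u := ∏ p, t p
    have huP : u ∉ P := fun h => by
      obtain ⟨p, -, hp⟩ := (Ideal.IsPrime.prod_mem_iff).1 h
      exact htP p hp
    have hle : I' * Ideal.span {u} ≤ torsionColon I' z := by
      refine le_trans ?_ ((Ideal.radical_mono hL).trans (le_of_eq (Ideal.radical_idem _)))
      rw [← Ideal.sInf_minimalPrimes (I := L)]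
      refine le_sInf fun p hp => ?_
      by_cases h : I' ≤ p
      · exact Ideal.mul_le_left.trans h
      · refine Ideal.mul_le_right.trans ((Ideal.span_singleton_le_iff_mem p).2 ?_)
        exact p.mem_of_dvd (Finset.dvd_prod_of_mem t (Finset.mem_univ
          ⟨p, Finset.mem_filter.2 ⟨hfin.mem_toFinset.2 hp, h⟩⟩)) (htp ⟨p, Finset.mem_filter.2 ⟨hfin.mem_toFinset.2 hp, h⟩⟩)
    obtain ⟨e, he⟩ := Ideal.exists_pow_le_of_le_radical_of_fg hle (IsNoetherian.noetherian _)
    refine ⟨u ^ e, fun h => huP (Ideal.IsPrime.mem_of_pow_mem ‹_› e h), ?_⟩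
    rw [pow_zero, one_smul]
    refine Submodule.mem_sup_left (mem_torsionSub_of_le_torsionColon fun c hc => mem_torsionColon.2 ⟨e, ?_⟩)
    rw [← mul_smul, ← mul_pow]
    exact he (Ideal.pow_mem_pow (Ideal.mul_mem_mul hc (Ideal.mem_span_singleton_self u)) e)
  | succ k ih =>
    intro L hIL hh z hzI hdz hL
    have hfin : L.minimalPrimes.Finite := Ideal.finite_minimalPrimes_of_isNoetherianRing R L
    let S := hfin.toFinset.filter (fun p => ¬ I' ≤ p ∧ p ≤ P)
    let 𝔟 : Ideal R := (boundary J L j).comap (LinearMap.toSpanSingleton R _ (a • z))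
    have hS : ∀ p ∈ S, p.IsPrime ∧ ¬ 𝔟 ≤ p := fun p hp => by
      obtain ⟨h1, h2, h3⟩ := Finset.mem_filter.1 hp
      have hp' := hfin.mem_toFinset.1 h1
      haveI := hp'.1.1
      refine ⟨hp'.1.1, fun hle => ?_⟩
      obtain ⟨w, hw, hwT, hwd⟩ := exists_torsion_multiple J hp' h2 hdz hL
      obtain ⟨u, hu, hub⟩ := hv p (hIL.trans hp'.1.2) h2 h3 _ hwT hwd
      refine ((inferInstance : p.IsPrime).mem_or_mem (hle (show u * w ∈ 𝔟 from ?_))).elim hu hw
      show (u * w) • a • z ∈ boundary J L j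
      rw [mul_smul, smul_comm w a]
      exact boundary_anti J hp'.1.2 j hub
    obtain ⟨b, hb, hbS⟩ : ∃ b ∈ 𝔟, ∀ p ∈ S, b ∉ p := by
      by_contra hne
      push Not at hne
      rcases S.eq_empty_or_nonempty with h0 | ⟨p₀, hp₀⟩
      · obtain ⟨p, hp, -⟩ := hne 0 (Submodule.zero_mem _)
        exact Finset.notMem_empty p (h0 ▸ hp)
      · obtain ⟨p, hp, hle⟩ := (Ideal.subset_union_prime (f := fun p => p) p₀ p₀ (fun p hp _ _ => (hS p hp).1)).1
          (fun x hx => Set.mem_iUnion₂.2 ((hne x hx).imp fun p h => ⟨h.1, h.2⟩))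
        exact (hS p hp).2 hle
    obtain ⟨c, hc, m, hm⟩ := exists_boundary_killed_correction J (show b • a • z ∈ boundary J L j from hb)
    have hcI : c ∈ boundary J I j := boundary_anti J hIL j hc
    obtain ⟨s, hs, key⟩ := ih (L ⊔ Ideal.span {b}) (hIL.trans le_sup_left) (fun p _ hLp hI'p hpP => by
      obtain ⟨p', hp', hle⟩ := Ideal.exists_minimalPrimes_le (le_sup_left.trans hLp)
      haveI := hp'.1.1
      have h1 := hh p' hp'.1.2 (fun h => hI'p (h.trans hle)) (hle.trans hpP)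
      have hne : p' ≠ p := fun h => hbS p'
        (Finset.mem_filter.2 ⟨hfin.mem_toFinset.2 hp', fun h' => hI'p (h'.trans hle), hle.trans hpP⟩)
        (h ▸ hLp (Submodule.mem_sup_right (Ideal.mem_span_singleton_self b)))
      have h2 := hgt_lt (lt_of_le_of_ne hle hne)
      omega)
      (a • z - c) (Submodule.sub_mem _ (Submodule.smul_mem _ _ hzI) (boundary_le_torsionSub J I j hcI))
      (by rw [map_sub, d_boundary J I hcI, sub_zero, map_smul]; exact Submodule.smul_mem _ _ hdz)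
      (sup_le (fun e he => by
        obtain ⟨N, hN⟩ := mem_torsionColon.1 (hL he)
        obtain ⟨i, hi⟩ := boundary_le_torsionSub J L j hc
        refine mem_torsionColon.2 ⟨i + N, ?_⟩
        rw [smul_sub, pow_add, mul_smul, mul_comm, mul_smul _ _ c, hi _ (Ideal.pow_mem_pow he i),
          smul_zero, sub_zero, smul_comm _ a, smul_comm _ a]
        exact Submodule.smul_mem _ _ (Submodule.smul_mem _ _ hN))
      (Ideal.span_le.2 (Set.singleton_subset_iff.2 (mem_torsionColon.2
        ⟨m, by rw [hm]; exact Submodule.zero_mem _⟩))))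
    refine ⟨s, hs, ?_⟩
    have := Submodule.add_mem _ key (Submodule.mem_sup_right (Submodule.smul_mem _ s (Submodule.smul_mem _ (a ^ k) hcI)))
    rwa [← smul_add, ← smul_add, sub_add_cancel, smul_smul (a ^ k) a z, ← pow_succ] at this

theorem le_torsionColon_self {I I' : Ideal R} {n : ℕ} {z : J.cocomplex.X n}
    (hz : z ∈ DRing.torsionSub I (J.cocomplex.X n)) : I ≤ torsionColon I' z := fun a ha => by
  obtain ⟨k, hk⟩ := hz
  exact mem_torsionColon.2 ⟨k, by rw [hk _ (Ideal.pow_mem_pow ha k)]; exact Submodule.zero_mem _⟩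

/-- An `I`-boundary which is `I'`-torsion, times a power of `a`, is an `I'`-boundary near `P`. -/
theorem exists_smul_pow_mem_boundary {I I' P : Ideal R} [P.IsPrime] {j : ℕ} (a : R) (k : ℕ) (hk : hgt P < k)
    (hv : ∀ (p : Ideal R) [p.IsPrime], I ≤ p → ¬ I' ≤ p → p ≤ P → ∀ i, i + 1 = j → KillLocal J p i a)
    {x : J.cocomplex.X j} (hx : x ∈ DRing.torsionSub I' (J.cocomplex.X j)) (hb : x ∈ boundary J I j) :
    ∃ s ∉ P, s • a ^ k • x ∈ boundary J I' j := by
  cases j with
  | zero =>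
    refine ⟨1, fun h => Ideal.IsPrime.ne_top ‹_› ((Ideal.eq_top_iff_one P).2 h), ?_⟩
    exact Submodule.smul_mem _ _ (by rw [(Submodule.mem_bot R).1 hb, smul_zero]; exact Submodule.zero_mem _)
  | succ i =>
    obtain ⟨w, hw, rfl⟩ := hb
    obtain ⟨s, hs, hsw⟩ := exists_smul_pow_mem_sup J (P := P) i a (fun p _ h1 h2 h3 => hv p h1 h2 h3 i rfl)
      k I le_rfl (fun p _ _ _ _ => by omega) w hw hx (le_torsionColon_self J hw)
    obtain ⟨t, ht, b, hb, htb⟩ := Submodule.mem_sup.1 hsw
    refine ⟨s, hs, t, ht, ?_⟩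
    rw [← map_smul, ← map_smul, ← htb, map_add, d_boundary J I hb, add_zero]

/-- A cycle times a power of `a` is a boundary. -/
theorem pow_smul_mem_boundary {I : Ideal R} {j : ℕ} (a : R) (k : ℕ) (hk : ∀ m : Ideal R, m.IsPrime → hgt m < k)
    (hv : ∀ (p : Ideal R) [p.IsPrime], I ≤ p → KillLocal J p j a)
    {z : J.cocomplex.X j} (hz : z ∈ DRing.torsionSub I (J.cocomplex.X j)) (hd : J.cocomplex.d j (j + 1) z = 0) :
    a ^ k • z ∈ boundary J I j := by
  by_contra hne
  let 𝔞 : Ideal R := (boundary J I j).comap (LinearMap.toSpanSingleton R _ (a ^ k • z))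
  have h𝔞 : 𝔞 ≠ ⊤ := fun htop => hne (by
    have : (1 : R) ∈ 𝔞 := htop ▸ Submodule.mem_top
    simpa [𝔞] using this)
  obtain ⟨m, hm, hle⟩ := Ideal.exists_le_maximal 𝔞 h𝔞
  obtain ⟨s, hs, hsz⟩ := exists_smul_pow_mem_sup J (I' := ⊤) (P := m) j a (fun p _ h1 _ _ => hv p h1)
    k I le_rfl (fun p _ _ _ _ => by have := hk m hm.isPrime; omega) z hz
    (by rw [hd]; exact Submodule.zero_mem _) (le_torsionColon_self J hz)
  obtain ⟨t, ⟨n, hn⟩, b, hb, htb⟩ := Submodule.mem_sup.1 hsz
  have ht0 : t = 0 := by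
    have h1 := hn 1 (by rw [Ideal.top_pow]; exact Submodule.mem_top)
    rwa [one_smul] at h1
  rw [ht0, zero_add] at htb
  exact hs (hle (show s • a ^ k • z ∈ boundary J I j from htb ▸ hb))

end Groth.Agent.HTLib
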