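import Groth.Agent.DualCx.LocGlobal
import Groth.Agent.DualCx.Duality
import Groth.Agent.DualCx.DualityApps
import Groth.Agent.InjHull.Basic
import Groth.Agent.HTLib.KillDev

/-!
Annihilators of `H^i_{qA_q}(M_q)` through a dualizing complex of `A`.
-/

set_option autoImplicit false
set_option maxHeartbeats 1000000
set_option backward.isDefEq.respectTransparency false
set_option backward.isDefEq.respectTransparency.types false

universe u

namespace Groth.Agent.HTLib

open CategoryTheory CategoryTheory.Limits DerivedCategory Groth.Agent.DualCx Groth.Agent.LocH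

attribute [local instance] HasDerivedCategory.standard

noncomputable section

section Transfer

variable {A B : Type u} [CommRing A] [CommRing B] (φ : A →+* B) (S : Submonoid A) [IsLocMap φ S]
  [PreservesFiniteLimits (ext φ)] [IsNoetherianRing A] {ω : Dual.D A} (M : Type u) [AddCommGroup M] [Module A M]

/-- Maps into the localized shift. -/
def tau (ω : Dual.D A) (j : ℤ) :
    ((locD φ).obj (Dual.inD A M) ⟶ (locD φ).obj (ω⟦j⟧)) ≃ₗ[B] T ((locD φ).obj ω) ((ext φ).obj (ModuleCat.of A M)) j :=
  CategoryTheory.Linear.homCongr B (locInD φ M) (((locD φ).commShiftIso j).app ω)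

variable [Module.Finite A M]

include S in
theorem killed_iff (a₀ : ℤ) [ω.IsGE a₀] (j : ℤ) (a : A) :
    (∀ f : T ((locD φ).obj ω) ((ext φ).obj (ModuleCat.of A M)) j, φ a • f = 0) ↔
      ∀ x : T ω M j, ∃ t ∈ S, t • a • x = 0 := by
  haveI := exists_isGE_shift ω a₀ j
  haveI := isLE_inD (A := A) M
  refine ⟨fun h x => ?_, fun h f => ?_⟩
  · have h1 := h (tau φ M ω j ((locD φ).map x))
    rw [← map_smul, ← locD_smul, LinearEquiv.map_eq_zero_iff] at h1
    exact exists_smul_eq_zero_of_locD φ S (K := Dual.inD A M) (L := ω⟦j⟧) 0 (a₀ - j) (finite_hd_inD M) _ h1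
  · obtain ⟨g₀, rfl⟩ := (tau φ M ω j).surjective f
    obtain ⟨s, hs, g, hg⟩ := exists_locD_map_eq φ S (K := Dual.inD A M) (L := ω⟦j⟧) 0 (a₀ - j) (finite_hd_inD M) g₀
    obtain ⟨t, ht, hta⟩ := h g
    have h1 : (φ t * φ s) • φ a • g₀ = 0 := by
      rw [mul_smul, smul_comm (φ s) (φ a), hg, ← locD_smul, ← locD_smul, hta, Functor.map_zero]
    letI := φ.toAlgebra
    haveI : IsLocalization S B := IsLocMap.isLocalization (φ := φ)
    have hu : IsUnit (φ t * φ s) :=
      (IsLocalization.map_units B (⟨t, ht⟩ : S)).mul (IsLocalization.map_units B (⟨s, hs⟩ : S))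
    rw [← map_smul, (hu.smul_eq_zero).1 h1, map_zero]

end Transfer

variable {A : Type u} [CommRing A] [IsNoetherianRing A] {ω : Dual.D A}

/-- `a` kills `H^i` at `q`, on the dual side. -/
def KillAt (hω : Dual.IsDualizing A ω) (q : PrimeSpectrum A) (M : Type u) [AddCommGroup M] [Module A M] (i : ℕ)
    (a : A) : Prop :=
  ∀ x : T ω M (-del hω q - i), ∃ t ∈ q.asIdeal.primeCompl, t • a • x = 0

theorem nonempty_extEquiv_aux {B : Type u} [CommRing B] (φ : A →+* B) (alg : Algebra A B) (h : φ.toAlgebra = alg)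
    (X : Type u) [AddCommGroup X] [Module A X] :
    Nonempty ((ext φ).obj (ModuleCat.of A X) ≃ₗ[B] TensorProduct A B X) := by
  subst h
  exact ⟨LinearEquiv.refl B _⟩

/-- Extension of scalars is the tensor product. -/
theorem nonempty_extEquiv (B : Type u) [CommRing B] [Algebra A B] (X : Type u) [AddCommGroup X] [Module A X] :
    Nonempty ((ext (algebraMap A B)).obj (ModuleCat.of A X) ≃ₗ[B] TensorProduct A B X) :=
  nonempty_extEquiv_aux (algebraMap A B) ‹Algebra A B› (Algebra.algebra_ext _ _ fun _ => rfl) X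

theorem exists_quot_equiv (q : PrimeSpectrum A) :
    Nonempty ((ext (algebraMap A (Localization.AtPrime q.asIdeal))).obj (ModuleCat.of A (A ⧸ q.asIdeal)) ≃ₗ[Localization.AtPrime q.asIdeal]
      Localization.AtPrime q.asIdeal ⧸ IsLocalRing.maximalIdeal (Localization.AtPrime q.asIdeal)) := by
  let B := Localization.AtPrime q.asIdeal
  have hm : (q.asIdeal • (⊤ : Submodule A B)) =
      (IsLocalRing.maximalIdeal B).restrictScalars A := by
    rw [Ideal.smul_top_eq_map, IsLocalization.AtPrime.map_eq_maximalIdeal q.asIdeal B]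
  let e : TensorProduct A B (A ⧸ q.asIdeal) ≃ₗ[A] B ⧸ IsLocalRing.maximalIdeal B :=
    TensorProduct.tensorQuotEquivQuotSMul B q.asIdeal ≪≫ₗ Submodule.quotEquivOfEq _ _ hm ≪≫ₗ
      Submodule.Quotient.restrictScalarsEquiv A (IsLocalRing.maximalIdeal B)
  obtain ⟨e'⟩ := nonempty_extEquiv (A := A) B (A ⧸ q.asIdeal)
  exact ⟨e' ≪≫ₗ e.extendScalarsOfIsLocalization q.asIdeal.primeCompl B⟩

/-- The normalized dualizing complex of `A_q`. -/
theorem killed_H_iff (hω : Dual.IsDualizing A ω) (q : PrimeSpectrum A) (M : Type u) [AddCommGroup M] [Module A M]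
    [Module.Finite A M] (i : ℕ) (a : A) :
    (∀ y : LocCoh.H (IsLocalRing.maximalIdeal (Localization.AtPrime q.asIdeal)) i
        (LocalizedModule q.asIdeal.primeCompl M), algebraMap A (Localization.AtPrime q.asIdeal) a • y = 0) ↔
      KillAt hω q M i a := by
  obtain ⟨lo, hi, hb⟩ := bounded_of_dualizing hω
  obtain ⟨hle, hge⟩ := isLE_isGE_of_bounded hb
  let B := Localization.AtPrime q.asIdeal
  let φ := algebraMap A B
  let S := q.asIdeal.primeCompl
  haveI : IsLocMap φ S := isLocMap_algebraMap S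
  haveI := preservesFiniteLimits_of_isLocMap φ S
  let ν := (locD φ).obj ω
  have hν : Dual.IsDualizing B ν := isDualizing_locD φ S hω
  let d := -del hω q
  obtain ⟨eq⟩ := exists_quot_equiv q
  have hres : ∀ j : ℤ, j ≠ d → Subsingleton (T ν (B ⧸ IsLocalRing.maximalIdeal B) j) := fun j hj => by
    refine (DualCx.subsingleton_congr eq).1 (subsingleton_of_forall_eq 0 fun f => ?_)
    have hv : Van ω q.asIdeal (A ⧸ q.asIdeal) j := not_not.1 fun h => hj ((not_van_iff hω q j).1 h)
    have h1 := (killed_iff φ S (A ⧸ q.asIdeal) lo j 1).2 (fun x => by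
      obtain ⟨u, hu, hux⟩ := hv x
      exact ⟨u, hu, by rw [one_smul]; exact hux⟩) f
    rwa [map_one, one_smul] at h1
  have hν' : Dual.IsDualizing B (ν⟦d⟧) := isDualizing_shift hν d
  have hn : Dual.IsNormalized B (ν⟦d⟧) := fun j hj =>
    (shiftT ν (Dual.inD B (B ⧸ IsLocalRing.maximalIdeal B)) d j (d + j) rfl).toEquiv.subsingleton_congr.2
      (hres (d + j) (by lia))
  obtain ⟨E, _, _, f, hf⟩ := InjHull.exists_isInjectiveHull B (B ⧸ IsLocalRing.maximalIdeal B)
  obtain ⟨eH⟩ := localDuality hν' hn hf (LocalizedModule S M) i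
  haveI : Module.Finite B (T (ν⟦d⟧) (LocalizedModule S M) (-(i : ℤ))) := finite_T hν' _ _
  have h1 : (∀ y : LocCoh.H (IsLocalRing.maximalIdeal B) i (LocalizedModule S M), φ a • y = 0) ↔
      φ a ∈ Module.annihilator B (T (ν⟦d⟧) (LocalizedModule S M) (-(i : ℤ))) := by
    rw [← annihilator_dual hf, ← eH.annihilator_eq, Module.mem_annihilator]
  obtain ⟨eX⟩ := nonempty_extEquiv (A := A) B M
  let eT : T (ν⟦d⟧) (LocalizedModule S M) (-(i : ℤ)) ≃ₗ[B] T ν ((ext φ).obj (ModuleCat.of A M)) (d - i) :=
    shiftT ν (Dual.inD B (LocalizedModule S M)) d (-(i : ℤ)) (d - i) rfl ≪≫ₗ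
      DualCx.congr ν (d - i) (eX ≪≫ₗ (LocalizedModule.equivTensorProduct S M).symm)
  rw [h1, eT.annihilator_eq, Module.mem_annihilator]
  exact killed_iff φ S M lo (d - i) a

theorem killed_iff_cycles {B : Type u} [CommRing B] {X Y : ModuleCat.{u} B} (e : X ≅ Y) (res : InjectiveResolution X)
    (K : Ideal B) (j : ℕ) (b : B) :
    (∀ y : ((localCohomology K j).obj Y : ModuleCat B), b • y = 0) ↔
      ∀ z ∈ DRing.torsionSub K (res.cocomplex.X j), res.cocomplex.d j (j + 1) z = 0 →
        b • z ∈ boundary res K j := by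
  let e' := ((localCohomology K j).mapIso e).toLinearEquiv
  refine ⟨fun h z hz hd => ?_, fun h y => ?_⟩
  · obtain ⟨c, hc⟩ := exists_cycle (I := K) res j z hz hd
    have h0 : b • cyclesToH res j c = 0 := e'.injective (by rw [map_smul, map_zero]; exact h _)
    rw [← map_smul, cyclesToH_eq_zero_iff_mem] at h0
    have e2 : cycleVal res j (b • c) = b • cycleVal res j c :=
      (congrArg _ (map_smul _ _ c)).trans (map_smul _ _ _)
    rw [e2, hc] at h0
    exact h0
  · obtain ⟨y', rfl⟩ := e'.surjective y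
    obtain ⟨c, rfl⟩ := cyclesToH_surjective res j y'
    rw [← map_smul, ← map_smul, (cyclesToH_eq_zero_iff_mem res j (b • c)).2 ?_, map_zero]
    rw [show cycleVal res j (b • c) = b • cycleVal res j c from
      (congrArg _ (map_smul _ _ c)).trans (map_smul _ _ _)]
    exact h _ ((gammaComplex res K).iCycles j c).2 (d_cycleVal res j c)

/-- The cycle form. -/
theorem killLocal_iff {M : ModuleCat.{u} A} (res : InjectiveResolution M) (q : Ideal A) [q.IsPrime] (j : ℕ) (a : A) :
    (∀ y : LocCoh.H (IsLocalRing.maximalIdeal (Localization q.primeCompl)) j (LocalizedModule q.primeCompl M),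
        algebraMap A (Localization q.primeCompl) a • y = 0) ↔ KillLocal res q j a := by
  let B := Localization q.primeCompl
  let φ := algebraMap A B
  let res' := localizeRes q.primeCompl res
  have key := killed_iff_cycles (localizedIso q.primeCompl M) res' (IsLocalRing.maximalIdeal B) j (φ a)
  rw [← IsLocalization.AtPrime.map_eq_maximalIdeal q B] at key
  rw [← IsLocalization.AtPrime.map_eq_maximalIdeal q B]
  have key' : (∀ z : (res.cocomplex.X j).localizedModule q.primeCompl,
      z ∈ DRing.torsionSub (q.map φ) ((res.cocomplex.X j).localizedModule q.primeCompl) →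
      dloc q.primeCompl res j (j + 1) z = 0 →
      φ a • z ∈ (boundary res' (q.map φ) j : Submodule B ((res.cocomplex.X j).localizedModule q.primeCompl))) ↔
        KillLocal res q j a := by
    refine ⟨fun h x hx hd => ?_, fun h z hz hd => ?_⟩
    · have h2 := h _ (floc_mem q.primeCompl res hx) (by rw [dloc_floc, hd, map_zero])
      rw [algebraMap_smul, ← map_smul] at h2
      obtain ⟨s, hs⟩ := exists_smul_mem_boundary q.primeCompl res h2
      exact ⟨s, s.2, hs⟩
    · obtain ⟨x, hx, s, hs⟩ := exists_rep q.primeCompl res z hz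
      have h0 : floc q.primeCompl res (j + 1) (res.cocomplex.d j (j + 1) x) = 0 := by
        rw [← dloc_floc, ← hs, LinearMap.map_smul_of_tower, hd, smul_zero]
      obtain ⟨t, ht⟩ := (IsLocalizedModule.eq_zero_iff q.primeCompl (floc q.primeCompl res (j + 1))).1 h0
      obtain ⟨u, hu, hub⟩ := h ((t : A) • x) (Submodule.smul_mem _ _ hx) (by rw [map_smul]; exact ht)
      have hb := floc_mem_boundary q.primeCompl res hub
      rw [map_smul, map_smul, map_smul, ← hs, smul_comm a (t : A), smul_comm a (s : A), smul_smul, smul_smul,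
        ← algebraMap_smul B (u * (t : A) * (s : A)), ← algebraMap_smul B a] at hb
      exact (Submodule.smul_mem_iff_of_isUnit
        (boundary res' (q.map φ) j : Submodule B ((res.cocomplex.X j).localizedModule q.primeCompl))
        (IsLocalization.map_units B ((⟨u, hu⟩ : q.primeCompl) * t * s))).1 hb
  exact key.trans key'

end

end Groth.Agent.HTLib
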