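import Groth.Agent.HTLib.CxDev
import Groth.Agent.HTLib.LocalDual
import Groth.Agent.RGammaI.Change
import Groth.Agent.DualCxDuality.Unbounded

/-!
The cohomology of `Γ_q C` at `q` through a dualizing complex, for complexes with finite cohomology.
-/

set_option autoImplicit false
set_option maxHeartbeats 1000000
set_option linter.style.haveILetI false
set_option backward.isDefEq.respectTransparency false
set_option backward.isDefEq.respectTransparency.types false

universe u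

namespace Groth.Agent.HTLib.Cx

open CategoryTheory CategoryTheory.Limits DerivedCategory Pretriangulated Groth.Agent.DualCx

attribute [local instance] HasDerivedCategory.standard

noncomputable section

variable {A : Type u} [CommRing A]

/-- Restriction along the lower part of a truncation is injective. -/
theorem eq_zero_of_comp {X K Y L : Dual.D A} {f : X ⟶ K} {g : K ⟶ Y} {h : Y ⟶ X⟦(1 : ℤ)⟧}
    (hT : Triangle.mk f g h ∈ distTriang (Dual.D A)) (h0 : Subsingleton (Y ⟶ L)) {x : K ⟶ L} (hx : f ≫ x = 0) :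
    x = 0 := by
  obtain ⟨y, hy⟩ := Triangle.yoneda_exact₂ _ hT x hx
  rw [hy, show y = 0 from @Subsingleton.elim _ h0 _ _]
  exact comp_zero

/-- Restriction along the lower part of a truncation is surjective. -/
theorem exists_extend {X K Y L : Dual.D A} {f : X ⟶ K} {g : K ⟶ Y} {h : Y ⟶ X⟦(1 : ℤ)⟧}
    (hT : Triangle.mk f g h ∈ distTriang (Dual.D A)) (h0 : Subsingleton (Y⟦(-1 : ℤ)⟧ ⟶ L)) (x : X ⟶ L) :
    ∃ x' : K ⟶ L, f ≫ x' = x := by
  have hT' := inv_rot_of_distTriang _ hT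
  obtain ⟨y, hy⟩ := Triangle.yoneda_exact₂ _ hT' x (@Subsingleton.elim _ h0 _ _)
  exact ⟨y, hy.symm⟩

section Transfer

variable [IsNoetherianRing A] {B : Type u} [CommRing B] (φ : A →+* B) (S : Submonoid A) [IsLocMap φ S]
  [PreservesFiniteLimits (ext φ)] {ω : Dual.D A} {K : Dual.D A}

include S in
theorem killedK_iff (hω : Dual.IsDualizing A ω) (hK : ∀ i : ℤ, Module.Finite A (Dual.HD A K i)) (j : ℤ) (a : A) :
    (∀ f : (locD φ).obj K ⟶ ((locD φ).obj ω)⟦j⟧, φ a • f = 0) ↔ ∀ x : K ⟶ ω⟦j⟧, ∃ t ∈ S, t • a • x = 0 := by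
  obtain ⟨a₀, b₀, hab⟩ := hω.finite_injective_dimension
  have hamp := (DRingKP.injAmp_iff ω a₀ b₀).2 fun I i hi => hab (A ⧸ I) i hi
  have hν := isDualizing_locD φ S hω
  obtain ⟨a₁, b₁, hab₁⟩ := hν.finite_injective_dimension
  haveI := hν.isNoetherianRing
  have hamp₁ := (DRingKP.injAmp_iff ((locD φ).obj ω) a₁ b₁).2 fun I i hi => hab₁ (B ⧸ I) i hi
  obtain ⟨lo, hi, hb⟩ := bounded_of_dualizing hω
  obtain ⟨-, hge⟩ := isLE_isGE_of_bounded hb
  haveI := exists_isGE_shift ω lo j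
  let c : ℤ := max (b₀ - j) (b₁ - j)
  obtain ⟨X, Y, hX, hY, u, v, w, hT⟩ := DerivedCategory.TStructure.t.exists_triangle K c (c + 1) rfl
  haveI : X.IsLE c := ⟨hX⟩
  haveI : Y.IsGE (c + 1) := ⟨hY⟩
  have hfinX := (finite_hd_trunc hT c hK).1
  have hY0 : Subsingleton (Y ⟶ ω⟦j⟧) := subsingleton_hom_of_isGE hamp Y (c + 1) j (by lia)
  have hY1 : Subsingleton (Y⟦(-1 : ℤ)⟧ ⟶ ω⟦j⟧) := by
    haveI : (Y⟦(-1 : ℤ)⟧).IsGE (c + 2) := DerivedCategory.TStructure.t.isGE_shift Y (c + 1) (-1) (c + 2) (by lia)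
    exact subsingleton_hom_of_isGE hamp _ (c + 2) j (by lia)
  have hTB : (locD φ).mapTriangle.obj (Triangle.mk u v w) ∈ distTriang (Dual.D B) :=
    Functor.map_distinguished _ _ hT
  have hYB : Subsingleton ((locD φ).obj Y ⟶ ((locD φ).obj ω)⟦j⟧) := by
    haveI := isGE_locD φ Y (c + 1)
    exact subsingleton_hom_of_isGE hamp₁ _ (c + 1) j (by lia)
  let e := ((locD φ).commShiftIso j).app ω
  letI := φ.toAlgebra
  haveI : IsLocalization S B := IsLocMap.isLocalization (φ := φ)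
  refine ⟨fun h x => ?_, fun h f => ?_⟩
  · have h1 := h ((locD φ).map x ≫ e.hom)
    rw [← Linear.smul_comp, ← locD_smul] at h1
    have h2 : (locD φ).map (a • x) = 0 := (cancel_mono e.hom).1 (h1.trans zero_comp.symm)
    have h3 : (locD φ).map (u ≫ (a • x)) = 0 := by rw [Functor.map_comp, h2, comp_zero]
    obtain ⟨t, ht, h4⟩ := exists_smul_eq_zero_of_locD φ S (L := ω⟦j⟧) c (lo - j) hfinX _ h3
    exact ⟨t, ht, eq_zero_of_comp hT hY0 (by rw [Linear.comp_smul]; exact h4)⟩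
  · obtain ⟨s, hs, g, hg⟩ := exists_locD_map_eq φ S (K := X) (L := ω⟦j⟧) c (lo - j) hfinX
      ((locD φ).map u ≫ f ≫ e.inv)
    obtain ⟨x, rfl⟩ := exists_extend hT hY1 g
    obtain ⟨t, ht, htx⟩ := h x
    have h1 : (φ t * φ s) • ((locD φ).map u ≫ (φ a • f) ≫ e.inv) = 0 := by
      rw [Linear.smul_comp, Linear.comp_smul, mul_smul, smul_comm (φ s) (φ a), hg, ← locD_smul, ← locD_smul,
        ← Linear.comp_smul, ← Linear.comp_smul, htx, comp_zero, Functor.map_zero]
    have hu : IsUnit (φ t * φ s) :=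
      (IsLocalization.map_units B (⟨t, ht⟩ : S)).mul (IsLocalization.map_units B (⟨s, hs⟩ : S))
    have h2 := (hu.smul_eq_zero).1 h1
    rw [← Category.assoc] at h2
    exact eq_zero_of_comp hTB hYB ((cancel_mono e.inv).1 (h2.trans zero_comp.symm))

end Transfer

variable [IsNoetherianRing A] {ω : Dual.D A}

/-- `a` kills `H^i` of `K` at `q`, on the dual side. -/
def KillAt (hω : Dual.IsDualizing A ω) (q : PrimeSpectrum A) (K : Dual.D A) (i : ℤ) (a : A) : Prop :=
  ∀ x : K ⟶ ω⟦-del hω q - i⟧, ∃ t ∈ q.asIdeal.primeCompl, t • a • x = 0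

/-- `Hom_D(K, ω[j])` vanishes at `p`. -/
def VanK (ω : Dual.D A) (p : Ideal A) (K : Dual.D A) (j : ℤ) : Prop :=
  ∀ x : K ⟶ ω⟦j⟧, ∃ t ∉ p, t • x = 0

omit [IsNoetherianRing A] in
theorem smul_loc_iff {B : Type u} [CommRing B] [Algebra A B] (S : Submonoid A) [IsLocalization S B]
    (H : Type (u + 1)) [AddCommGroup H] [Module A H] (a : A) :
    (∀ y : TensorProduct A B H, algebraMap A B a • y = 0) ↔ ∀ x : H, ∃ t ∈ S, t • a • x = 0 := by
  haveI : IsLocalizedModule S (TensorProduct.mk A B H 1) :=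
    (isLocalizedModule_iff_isBaseChange S B _).2 (TensorProduct.isBaseChange A H B)
  simp_rw [algebraMap_smul]
  refine ⟨fun h x => ?_, fun h y => ?_⟩
  · obtain ⟨t, ht⟩ := (IsLocalizedModule.eq_zero_iff S (TensorProduct.mk A B H 1) (m := a • x)).1 (by
      rw [map_smul]; exact h _)
    exact ⟨t.1, t.2, ht⟩
  · obtain ⟨⟨x, s⟩, hs⟩ := IsLocalizedModule.surj S (TensorProduct.mk A B H 1) y
    obtain ⟨t, ht, htx⟩ := h x
    refine (IsLocalizedModule.smul_inj (TensorProduct.mk A B H 1) (⟨t, ht⟩ * s : S) _ _).1 ?_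
    rw [Submonoid.smul_def, Submonoid.coe_mul, mul_smul, smul_comm (s : A) a, ← Submonoid.smul_def s y, hs, ← map_smul,
      ← map_smul, htx, map_zero, smul_zero]

/-- At `q`, the local cohomology of `K_q` is killed iff the dual side is. -/
theorem killed_HDI_local_iff (hω : Dual.IsDualizing A ω) {K : Dual.D A} (hK : ∀ i : ℤ, Module.Finite A (Dual.HD A K i))
    (q : PrimeSpectrum A) [DRing.HasLBaseChange (algebraMap A (Localization.AtPrime q.asIdeal))] (i : ℤ) (a : A) :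
    (∀ y : Dual2.HDI (Localization.AtPrime q.asIdeal) (IsLocalRing.maximalIdeal (Localization.AtPrime q.asIdeal))
        ((DRing.LBaseChange (algebraMap A (Localization.AtPrime q.asIdeal))).obj K) i,
        algebraMap A (Localization.AtPrime q.asIdeal) a • y = 0) ↔ KillAt hω q K i a := by
  let B := Localization.AtPrime q.asIdeal
  let φ := algebraMap A B
  let S := q.asIdeal.primeCompl
  haveI : IsLocMap φ S := isLocMap_algebraMap S
  haveI := preservesFiniteLimits_of_isLocMap φ S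
  let ν := (locD φ).obj ω
  have hν : Dual.IsDualizing B ν := isDualizing_locD φ S hω
  let d := -del hω q
  obtain ⟨lo, hi, hb⟩ := bounded_of_dualizing hω
  obtain ⟨-, hge⟩ := isLE_isGE_of_bounded hb
  obtain ⟨eq⟩ := exists_quot_equiv q
  have hres : ∀ j : ℤ, j ≠ d → Subsingleton (DualCx.T ν (B ⧸ IsLocalRing.maximalIdeal B) j) := fun j hj => by
    refine (DualCx.subsingleton_congr eq).1 (subsingleton_of_forall_eq 0 fun f => ?_)
    have hv : Van ω q.asIdeal (A ⧸ q.asIdeal) j := not_not.1 fun h => hj ((not_van_iff hω q j).1 h)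
    have h1 := (HTLib.killed_iff φ S (A ⧸ q.asIdeal) lo j 1).2 (fun x => by
      obtain ⟨u, hu, hux⟩ := hv x
      exact ⟨u, hu, by rw [one_smul]; exact hux⟩) f
    rwa [map_one, one_smul] at h1
  have hν' : Dual.IsDualizing B (ν⟦d⟧) := isDualizing_shift hν d
  have hn : Dual.IsNormalized B (ν⟦d⟧) := fun j hj =>
    (shiftT ν (Dual.inD B (B ⧸ IsLocalRing.maximalIdeal B)) d j (d + j) rfl).toEquiv.subsingleton_congr.2
      (hres (d + j) (by lia))
  obtain ⟨E, _, _, f, hf⟩ := InjHull.exists_isInjectiveHull B (B ⧸ IsLocalRing.maximalIdeal B)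
  have hfin : ∀ j, Module.Finite B (Dual.HD B ((locD φ).obj K) j) := fun j => finite_locHD φ (hK j)
  let eL := DualCx.lBaseChangeObjIso φ K
  have hfinL : ∀ j, Module.Finite B (Dual.HD B ((DRing.LBaseChange φ).obj K) j) := fun j =>
    haveI := hfin j
    Module.Finite.equiv ((DerivedCategory.homologyFunctor (ModuleCat.{u} B) j).mapIso eL.symm).toLinearEquiv
  obtain ⟨eH⟩ := DualCxDuality.localDuality_hdi hν' hn hf ((DRing.LBaseChange φ).obj K) hfinL i
  haveI : Module.Finite B ((DRing.LBaseChange φ).obj K ⟶ (ν⟦d⟧)⟦-i⟧) := DualCxDuality.finite_hom hν' _ hfinL _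
  let eT : ((DRing.LBaseChange φ).obj K ⟶ (ν⟦d⟧)⟦-i⟧) ≃ₗ[B] ((locD φ).obj K ⟶ ν⟦d - i⟧) :=
    CategoryTheory.Linear.homCongr B eL ((shiftFunctorAdd' (Dual.D B) d (-i) (d - i) (by lia)).symm.app ν)
  have h1 : (∀ y : Dual2.HDI B (IsLocalRing.maximalIdeal B) ((DRing.LBaseChange φ).obj K) i, φ a • y = 0) ↔
      φ a ∈ Module.annihilator B ((DRing.LBaseChange φ).obj K ⟶ (ν⟦d⟧)⟦-i⟧) := by
    rw [← annihilator_dual hf, ← eH.annihilator_eq, Module.mem_annihilator]
  rw [h1, eT.annihilator_eq, Module.mem_annihilator]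
  exact killedK_iff φ S hω hK (d - i) a

/-- The cycle form. -/
theorem killLocal_iff_killAt (hω : Dual.IsDualizing A ω) {K : Dual.D A} (hK : ∀ i : ℤ, Module.Finite A (Dual.HD A K i))
    {C : DRing.Cx A} [C.IsKInjective] (e : RGammaI.qh C ≅ K)
    (q : PrimeSpectrum A) [DRing.HasLBaseChange (algebraMap A (Localization.AtPrime q.asIdeal))] (i : ℤ) (a : A) :
    KillLocal C q.asIdeal i a ↔ KillAt hω q K i a := by
  let B := Localization.AtPrime q.asIdeal
  rw [← killed_HDI_local_iff hω hK q i a]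
  haveI : Module.Flat A B := IsLocalization.flat B q.asIdeal.primeCompl
  obtain ⟨eB⟩ := RGammaI.nonempty_HDI_baseChange (B := B) q.asIdeal K i
  rw [← IsLocalization.AtPrime.map_eq_maximalIdeal q.asIdeal B]
  let eH := eB.toLinearEquiv ≪≫ₗ RGammaI.extEquiv.{u + 1} (A := A) (B := B) (Dual2.HDI A q.asIdeal K i)
  have h2 : (∀ y : Dual2.HDI B (q.asIdeal.map (algebraMap A B)) ((DRing.LBaseChange (algebraMap A B)).obj K) i,
      algebraMap A B a • y = 0) ↔ ∀ y : TensorProduct A B (Dual2.HDI A q.asIdeal K i), algebraMap A B a • y = 0 := by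
    refine ⟨fun h y => ?_, fun h y => eH.injective ?_⟩
    · rw [← eH.apply_symm_apply y, ← map_smul, h, map_zero]
    · rw [map_smul, h, map_zero]
  rw [h2, smul_loc_iff q.asIdeal.primeCompl]
  let eK : (colimit (RGammaI.hdiF q.asIdeal C i) : ModuleCat.{u + 1} A) ≃ₗ[A] Dual2.HDI A q.asIdeal K i :=
    (HasColimit.isoOfNatIso (Functor.isoWhiskerLeft _
      ((linearYoneda A (Dual.D A)).mapIso ((shiftFunctor (Dual.D A) i).mapIso
        (((DerivedCategory.quotientCompQhIso (ModuleCat.{u} A)).app C).symm ≪≫ e))))).toLinearEquiv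
  refine ⟨fun h x => ?_, fun h x hx hd => ?_⟩
  · obtain ⟨c, hc⟩ := RGammaI.θ_surjective (I := q.asIdeal) (J := C) (q := i) (eK.symm x)
    obtain ⟨u, hu, hux⟩ := h (RGammaI.zval c) ((RGammaI.gc q.asIdeal C).iCycles i c).2 (RGammaI.zval_closed c)
    refine ⟨u, hu, eK.symm.injective ?_⟩
    rw [map_zero, map_smul, map_smul, ← hc, ← map_smul, ← map_smul, RGammaI.θ_eq_zero_iff,
      FlatCx.homologyπ_eq_zero_iff (RGammaI.gc q.asIdeal C) (i := i - 1) (by simp)]
    obtain ⟨w, hw, hwx⟩ := hux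
    refine ⟨⟨w, hw⟩, Subtype.ext (hwx.trans ?_)⟩
    have hv : ∀ (r : A) (c : (RGammaI.gc q.asIdeal C).cycles i), RGammaI.zval (r • c) = r • RGammaI.zval c := fun r c =>
      congrArg Subtype.val (map_smul ((RGammaI.gc q.asIdeal C).iCycles i).hom r c)
    exact ((hv u _).trans (congrArg (u • ·) (hv a c))).symm
  · obtain ⟨c, hc⟩ := FlatCx.exists_cycles (RGammaI.gc q.asIdeal C) (j := i) (k := i + 1) (by simp)
      ⟨x, hx⟩ (Subtype.ext hd)
    have hv : RGammaI.zval c = x := congrArg Subtype.val hc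
    obtain ⟨u, hu, hux⟩ := h (eK (RGammaI.θ q.asIdeal C i c))
    have h0 : RGammaI.θ q.asIdeal C i (u • a • c) = 0 := eK.injective (by
      rw [map_smul, map_smul, map_smul, map_smul, hux, map_zero])
    rw [RGammaI.θ_eq_zero_iff, FlatCx.homologyπ_eq_zero_iff (RGammaI.gc q.asIdeal C) (i := i - 1) (by simp)] at h0
    obtain ⟨⟨w, hw⟩, hwx⟩ := h0
    refine ⟨u, hu, w, hw, (congrArg Subtype.val hwx).trans ?_⟩
    have hv' : ∀ (r : A) (c : (RGammaI.gc q.asIdeal C).cycles i), RGammaI.zval (r • c) = r • RGammaI.zval c := fun r c =>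
      congrArg Subtype.val (map_smul ((RGammaI.gc q.asIdeal C).iCycles i).hom r c)
    exact (hv' u _).trans ((congrArg (u • ·) (hv' a c)).trans (by rw [hv]))

end

end Groth.Agent.HTLib.Cx
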