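import Groth.Agent.HTLib.CxFinite
import Groth.Agent.HTLib.CxLocal
import Groth.Agent.HTLib.Annihilator

/-!
Finiteness and the annihilator theorem for `H^i_T` of complexes with finite cohomology.
-/

set_option autoImplicit false
set_option maxHeartbeats 1000000
set_option linter.style.haveILetI false
set_option backward.isDefEq.respectTransparency false
set_option backward.isDefEq.respectTransparency.types false

universe u

namespace Groth.Agent.HTLib.Cx

open CategoryTheory CategoryTheory.Limits Opposite Groth.Agent.LocH Groth.Agent.DualCx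

attribute [local instance] HasDerivedCategory.standard

noncomputable section

variable {A : Type u} [CommRing A]

/-- The identification of the two cohomologies. -/
def homologyIso {K : Dual.D A} {C : DRing.Cx A} (e : RGammaI.qh C ≅ K) (i : ℤ) :
    C.homology i ≅ (DerivedCategory.homologyFunctor (ModuleCat.{u} A) i).obj K :=
  ((DerivedCategory.homologyFunctorFactors (ModuleCat.{u} A) i).app C).symm ≪≫
    (DerivedCategory.homologyFunctor (ModuleCat.{u} A) i).mapIso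
      (((DerivedCategory.quotientCompQhIso (ModuleCat.{u} A)).app C).symm ≪≫ e)

theorem finH_bot {K : Dual.D A} {C : DRing.Cx A} (e : RGammaI.qh C ≅ K)
    (hK : ∀ i : ℤ, Module.Finite A (Dual.HD A K i)) (i : ℤ) : FinH ⊥ C i :=
  haveI := hK i
  finH_bot_of_finite C i (Module.Finite.equiv (homologyIso e i).toLinearEquiv.symm)

/-- Below the cohomology, `H^i_T` vanishes. -/
theorem subsingleton_HDT_of_lt (T : Set (PrimeSpectrum A)) {K : Dual.D A} (a : ℤ)
    (hKa : ∀ i : ℤ, i < a → Subsingleton (Dual.HD A K i)) {i : ℤ} (hi : i < a) :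
    Subsingleton (Dual2.HDT A T K i) := by
  obtain ⟨C, hC, -, ⟨e⟩⟩ := RGammaI.exists_rep K
  obtain ⟨ε⟩ := nonempty_hdt_equiv C i T e
  haveI hQ : (DerivedCategory.Q.obj C).IsGE a := (DerivedCategory.isGE_iff _ a).2 fun j hj => by
    haveI := hKa j hj
    exact (ModuleCat.isZero_of_subsingleton _).of_iso ((DerivedCategory.homologyFunctor (ModuleCat.{u} A) j).mapIso
      (((DerivedCategory.quotientCompQhIso (ModuleCat.{u} A)).app C).symm ≪≫ e))
  haveI : ((DerivedCategory.Q.obj C)⟦i⟧).IsGE (a - i) :=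
    DerivedCategory.TStructure.t.isGE_shift _ a i (a - i) (by lia)
  refine ε.toEquiv.subsingleton_congr.1 (subsingleton_of_forall_eq 0 fun v => ?_)
  obtain ⟨⟨X⟩, w, rfl⟩ := Concrete.colimit_exists_rep (hdtF C i T) v
  have hw : w = 0 := DerivedCategory.TStructure.t.zero_of_isLE_of_isGE w 0 (a - i) (by lia)
    (inferInstance : ((DerivedCategory.singleFunctor (ModuleCat.{u} A) 0).obj _).IsLE 0)
    (inferInstance : ((DerivedCategory.Q.obj C)⟦i⟧).IsGE (a - i))
  exact (congrArg (fun v => colimit.ι (hdtF C i T) (op X) v) hw).trans (map_zero _)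

variable [IsNoetherianRing A] {T : Set (PrimeSpectrum A)}

/-- Annihilation of `H^i_T`, on cycles. -/
theorem kill_cycles {K : Dual.D A} {C : DRing.Cx A} [C.IsKInjective] (e : RGammaI.qh C ≅ K) {c : A} {n : ℤ}
    (hk : ∀ i ≤ n, ∀ y : Dual2.HDT A T K i, c • y = 0) :
    ∀ i ≤ n, ∀ x : C.X i, C.d i (i + 1) x = 0 → ∀ I : Ideal A, PrimeSpectrum.zeroLocus (I : Set A) ⊆ T →
      x ∈ DRing.torsionSub I (C.X i) → ∃ K : Ideal A, PrimeSpectrum.zeroLocus (K : Set A) ⊆ T ∧ K ≤ I ∧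
        c • x ∈ bd C K i := fun i hi x hd I hI ⟨m, hm⟩ => by
  obtain ⟨ε⟩ := nonempty_hdt_equiv C i T e
  let X : Dual2.IdealsIn T := mkIn (I ^ (m + 1)) (pow_in I hI (m + 1))
  have hx : ∀ r ∈ X.obj, r • x = 0 := fun r hr => hm r (Ideal.pow_le_pow_right (Nat.le_succ m) hr)
  have h0 : c • clsT C i X x hx hd = 0 := ε.injective (by rw [map_smul, hk i hi, map_zero])
  rw [smul_clsT] at h0
  obtain ⟨Y, hY, w, hw, hwx⟩ := (clsT_eq_zero_iff C i X (c • x) _ _).1 h0
  exact ⟨Y.obj, Y.property, hY.trans (Ideal.pow_le_self (Nat.succ_ne_zero m)), w,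
    ⟨1, fun r hr => hw r (by rwa [pow_one] at hr)⟩, hwx⟩

theorem finite_of_killed (hT : StableUnderSpecialization T) {K : Dual.D A}
    (hK : ∀ i : ℤ, Module.Finite A (Dual.HD A K i)) {J : Ideal A} (hJ : PrimeSpectrum.zeroLocus (J : Set A) ⊆ T) {n : ℤ}
    (hk : ∀ i ≤ n, ∀ c ∈ J, ∀ y : Dual2.HDT A T K i, c • y = 0) (i : ℤ) (hi : i ≤ n) :
    Module.Finite A (Dual2.HDT A T K i) := by
  classical
  obtain ⟨C, hKI, hC, ⟨e⟩⟩ := RGammaI.exists_rep K
  haveI := hKI
  obtain ⟨fs, hfs⟩ : ∃ fs : List A, Ideal.ofList fs = J := by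
    obtain ⟨s, hs⟩ := IsNoetherian.noetherian J
    exact ⟨s.toList, (congrArg Ideal.span (Set.ext fun x => by simp)).trans hs⟩
  have hv : ∀ q : PrimeSpectrum A, q ∈ T → ¬ J ≤ q.asIdeal → ∀ j ≤ n, KillLocal C q.asIdeal j 1 := fun q hq hJq j hj x hx hd => by
    obtain ⟨c, hcJ, hcq⟩ := SetLike.not_le_iff_exists.1 hJq
    obtain ⟨N, hN⟩ := killLocal_one_of_killed hC (a := c) (kill_cycles e fun i hi => hk i hi c hcJ) hT (hgt q.asIdeal + 1)
    obtain ⟨u, hu, hux⟩ := hN q hq (Nat.lt_succ_self _) j hj x hx hd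
    refine ⟨u * c ^ N, fun h => (q.isPrime.mem_or_mem h).elim hu (fun h' => hcq (q.isPrime.mem_of_pow_mem N h')), ?_⟩
    rw [one_smul, mul_smul]
    exact hux
  have hfin : FinH J C i := by
    rw [← hfs]
    refine finH_of_killed fs fs [] C hC (finH_bot e hK) rfl (fun f hf => absurd hf List.not_mem_nil) n
      (fun f hf => ⟨1, fun j hj x hx hd => ?_⟩) i hi
    rw [hfs] at hx ⊢
    rw [pow_one]
    obtain ⟨L, hL, hLJ, hb⟩ := kill_cycles e (fun i hi => hk i hi f (hfs ▸ Ideal.subset_span hf)) j hj x hd J hJ hx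
    exact mem_bd hC j (fun p _ h1 h2 => hv ⟨p, ‹_›⟩ (hL h1) h2 (j - 1) (by lia)) (Submodule.smul_mem _ f hx) hb
  obtain ⟨N, hN, hNc, hN'⟩ := hfin
  obtain ⟨G, hG⟩ := hN
  have hgen : ∀ g : G, ∃ m : ℕ, ∀ r ∈ J ^ m, r • (g : C.X i) = 0 := fun g => (hNc (hG ▸ Submodule.subset_span g.2)).1
  choose m hm using hgen
  let M := Finset.univ.sup m
  let X₀ : Dual2.IdealsIn T := mkIn (J ^ M) (pow_in J hJ M)
  have hNX : N ≤ cycIn C i X₀ := by
    rw [← hG, Submodule.span_le]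
    exact fun g hg => ⟨fun r hr => hm ⟨g, hg⟩ r (Ideal.pow_le_pow_right (Finset.le_sup (Finset.mem_univ _)) hr),
      (hNc (hG ▸ Submodule.subset_span hg)).2⟩
  haveI : Module.Finite A N := Module.Finite.iff_fg.2 ⟨G, hG⟩
  obtain ⟨ε⟩ := nonempty_hdt_equiv C i T e
  refine Module.Finite.of_surjective (ε.toLinearMap ∘ₗ clsLin C i X₀ ∘ₗ Submodule.inclusion hNX) ?_
  refine ε.surjective.comp fun v => ?_
  obtain ⟨X, z, hz, hd, rfl⟩ := exists_clsT C i v
  let I : Ideal A := J * X.obj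
  have hI : PrimeSpectrum.zeroLocus (I : Set A) ⊆ T := mul_in hJ X.property
  have hzI : z ∈ DRing.torsionSub I (C.X i) :=
    ⟨1, fun r hr => hz r (by rw [pow_one] at hr; exact (Ideal.mul_le_right (I := J) (J := X.obj)) hr)⟩
  obtain ⟨t, ht, b, hb, htb⟩ := Submodule.mem_sup.1 (mem_sup_bd hC i
    (fun p _ h1 h2 => hv ⟨p, ‹_›⟩ (hI h1) h2 i hi) (I' := J) hzI (by rw [hd]; exact Submodule.zero_mem _))
  have htd : C.d i (i + 1) t = 0 := by
    have h1 : t = z - b := (sub_eq_of_eq_add htb.symm).symm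
    rw [h1, map_sub, hd, d_bd C I hb, sub_zero]
  obtain ⟨y, hy, b', hb', hyb⟩ := Submodule.mem_sup.1 (hN' ⟨ht, htd⟩)
  obtain ⟨w, ⟨k, hk'⟩, hwd⟩ := Submodule.add_mem _ (bd_anti C (show I ≤ J from Ideal.mul_le_left) i hb') hb
  let Y : Dual2.IdealsIn T := mkIn (X.obj * J ^ M * I ^ k) (mul_in (mul_in X.property (pow_in J hJ M)) (pow_in I hI k))
  have hYX : Y.obj ≤ X.obj := Ideal.mul_le_left.trans Ideal.mul_le_left
  have hY0 : Y.obj ≤ X₀.obj := Ideal.mul_le_left.trans Ideal.mul_le_right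
  have hYk : Y.obj ≤ I ^ k := Ideal.mul_le_right
  refine ⟨⟨y, hy⟩, ?_⟩
  show clsT C i X₀ y (hNX hy).1 (hNX hy).2 = clsT C i X z hz hd
  rw [← clsT_le C i hY0 y (hNX hy).1 (hNX hy).2, ← clsT_le C i hYX z hz hd, ← sub_eq_zero]
  have hdw : C.d i (i + 1) (C.d (i - 1) i w) = 0 := RGammaI.dd_apply C _ _ _ w
  have hzw : z = y + C.d (i - 1) i w := by
    rw [← htb, ← hyb, add_assoc]
    exact congrArg (y + ·) hwd.symm
  have hwY : ∀ r ∈ Y.obj, r • C.d (i - 1) i w = 0 := fun r hr => by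
    rw [← map_smul, hk' r (hYk hr), map_zero]
  rw [clsT_congr C i Y hzw (fun r hr => hz r (hYX hr)) hd,
    clsT_add C i Y y (C.d (i - 1) i w) (fun r hr => (hNX hy).1 r (hY0 hr)) (hNX hy).2 hwY hdw,
    sub_add_cancel_left, neg_eq_zero, clsT_eq_zero_iff]
  exact ⟨Y, le_rfl, w, fun r hr => hk' r (hYk hr), rfl⟩

theorem exists_killer {K : Dual.D A} (a : ℤ) (hKa : ∀ i : ℤ, i < a → Subsingleton (Dual.HD A K i)) (n : ℤ)
    (h : ∀ i ≤ n, Module.Finite A (Dual2.HDT A T K i)) :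
    ∃ J : Ideal A, PrimeSpectrum.zeroLocus (J : Set A) ⊆ T ∧
      ∀ i ≤ n, ∀ c ∈ J, ∀ y : Dual2.HDT A T K i, c • y = 0 := by
  classical
  obtain ⟨C, hKI, -, ⟨e⟩⟩ := RGammaI.exists_rep K
  haveI := hKI
  refine ⟨(Finset.Icc a n).inf fun i => Module.annihilator A (Dual2.HDT A T K i), fun p hp => ?_,
    fun i hi c hc y => ?_⟩
  · by_contra hpT
    obtain ⟨i, hi, hle⟩ := (p.isPrime.inf_le').1 (show _ ≤ p.asIdeal from hp)
    haveI := h i (Finset.mem_Icc.1 hi).2
    have hsupp : p ∈ Module.support A (Dual2.HDT A T K i) := by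
      rw [Module.support_eq_zeroLocus]
      exact hle
    refine Module.notMem_support_iff'.2 (fun y => ?_) hsupp
    obtain ⟨ε⟩ := nonempty_hdt_equiv C i T e
    obtain ⟨X, z, hz, hd, hv⟩ := exists_clsT C i (ε.symm y)
    obtain ⟨c, hc, hcp⟩ := SetLike.not_le_iff_exists.1 (fun hle : X.obj ≤ p.asIdeal => hpT (X.property hle))
    refine ⟨c, hcp, ε.symm.injective ?_⟩
    rw [map_smul, map_zero, ← hv, smul_clsT, clsT_eq_zero_iff]
    exact ⟨X, le_rfl, 0, fun r _ => smul_zero r, (map_zero _).trans (hz c hc).symm⟩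
  · by_cases hia : a ≤ i
    · exact Module.mem_annihilator.1 (Finset.inf_le (f := fun i => Module.annihilator A (Dual2.HDT A T K i))
        (Finset.mem_Icc.2 ⟨hia, hi⟩) hc) y
    · haveI := subsingleton_HDT_of_lt T a hKa (not_le.1 hia)
      exact Subsingleton.elim _ _

section Dualizing

variable {ω : Dual.D A} (hω : Dual.IsDualizing A ω) {K : Dual.D A} (hK : ∀ i : ℤ, Module.Finite A (Dual.HD A K i))
  [∀ p : PrimeSpectrum A, DRing.HasLBaseChange (algebraMap A (Localization.AtPrime p.asIdeal))]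

include hω hK

theorem vanK_of_killed {T' : Set (PrimeSpectrum A)} (hT : StableUnderSpecialization T) {J : Ideal A}
    (hJ : PrimeSpectrum.zeroLocus (J : Set A) ⊆ T') {n : ℤ} (hk : ∀ i ≤ n, ∀ c ∈ J, ∀ y : Dual2.HDT A T K i, c • y = 0)
    {p q : PrimeSpectrum A} (hp : p ∉ T') (hq : q ∈ T) (hpq : p ≤ q) (i : ℤ) (hi : i ≤ n) :
    VanK ω p.asIdeal K (-del hω q - i) := fun x => by
  obtain ⟨C, hKI, hC, ⟨e⟩⟩ := RGammaI.exists_rep K
  haveI := hKI
  obtain ⟨c, hcJ, hcp⟩ := SetLike.not_le_iff_exists.1 (fun h : J ≤ p.asIdeal => hp (hJ h))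
  obtain ⟨N, hN⟩ := killLocal_one_of_killed hC (a := c) (kill_cycles e fun i hi => hk i hi c hcJ) hT (hgt q.asIdeal + 1)
  obtain ⟨t, ht, htx⟩ := (killLocal_iff_killAt hω hK e q i (c ^ N)).1 (hN q hq (Nat.lt_succ_self _) i hi) x
  refine ⟨t * c ^ N, fun h => ?_, by rw [mul_smul]; exact htx⟩
  rcases p.isPrime.mem_or_mem h with h1 | h1
  · exact ht (hpq h1)
  · exact hcp (p.isPrime.mem_of_pow_mem N h1)

theorem exists_killer_of_vanK {T' : Set (PrimeSpectrum A)} (hT' : StableUnderSpecialization T') (a : ℤ)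
    (hKa : ∀ i : ℤ, i < a → Subsingleton (Dual.HD A K i)) (n : ℤ)
    (hvan : ∀ p q : PrimeSpectrum A, p ∉ T' → q ∈ T → p ≤ q → ∀ i ≤ n, VanK ω p.asIdeal K (-del hω q - i)) :
    ∃ J : Ideal A, PrimeSpectrum.zeroLocus (J : Set A) ⊆ T' ∧
      ∀ i ≤ n, ∀ c ∈ J, ∀ y : Dual2.HDT A T K i, c • y = 0 := by
  classical
  obtain ⟨lo, hi, hb⟩ := exists_del_bound hω
  haveI : ∀ j : ℤ, Module.Finite A (K ⟶ ω⟦j⟧) := fun j => DualCxDuality.finite_hom hω K hK j
  let J₀ : Ideal A := (Finset.Icc (-hi - n) (-lo - a)).inf fun j : ℤ => Module.annihilator A (offSub T' (K ⟶ ω⟦j⟧))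
  have hJ₀ : PrimeSpectrum.zeroLocus (J₀ : Set A) ⊆ T' := fun p hp => by
    obtain ⟨j, -, hle⟩ := (p.isPrime.inf_le').1 (show J₀ ≤ p.asIdeal from hp)
    exact zeroLocus_offSub T' _ hle
  have hat : ∀ c ∈ J₀, ∀ q ∈ T, ∀ i : ℤ, a ≤ i → i ≤ n → KillAt hω q K i c := fun c hc q hq i hai hin x => by
    have hj : -del hω q - i ∈ Finset.Icc (-hi - n) (-lo - a) := Finset.mem_Icc.2 (by have := hb q; lia)
    obtain ⟨t, ht, htx⟩ := exists_smul_mem_offSub hT' q.asIdeal x fun p hp hpq => hvan p q hp hq hpq i hin x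
    refine ⟨t, ht, ?_⟩
    rw [smul_comm]
    exact congrArg Subtype.val (Module.mem_annihilator.1 (Finset.inf_le
      (f := fun j : ℤ => Module.annihilator A (offSub T' (K ⟶ ω⟦j⟧))) hj hc) ⟨_, htx⟩)
  obtain ⟨k, hk⟩ := exists_height_bound (ringKrullDim_lt_top hω)
  obtain ⟨C, hKI, hC, ⟨e⟩⟩ := RGammaI.exists_rep K
  haveI := hKI
  refine ⟨Ideal.span ((fun c => c ^ k) '' (J₀ : Set A)), fun p hp => hJ₀ ?_, fun i hin b hb' y => ?_⟩
  · exact fun c hc => p.isPrime.mem_of_pow_mem k (hp (Ideal.subset_span ⟨c, hc, rfl⟩))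
  by_cases hai : a ≤ i
  swap
  · haveI := subsingleton_HDT_of_lt T a hKa (not_le.1 hai)
    exact Subsingleton.elim _ _
  refine Module.mem_annihilator.1 ((Ideal.span_le (I := Module.annihilator A (Dual2.HDT A T K i))).2 ?_ hb') y
  rintro _ ⟨c, hc, rfl⟩
  refine Module.mem_annihilator.2 fun v => ?_
  obtain ⟨ε⟩ := nonempty_hdt_equiv C i T e
  refine ε.symm.injective ?_
  rw [map_smul, map_zero]
  obtain ⟨X, z, hz, hd, hv⟩ := exists_clsT C i (ε.symm v)
  obtain ⟨w, ⟨m, hm⟩, hwz⟩ := pow_smul_mem_bd hC c k hk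
    (fun p hp h1 => (killLocal_iff_killAt hω hK e ⟨p, hp⟩ i c).2 (hat c hc ⟨p, hp⟩ (X.property h1) i hai hin))
    (I := X.obj) (⟨1, fun r hr => hz r (by rwa [pow_one] at hr)⟩) hd
  show c ^ k • ε.symm v = 0
  rw [← hv, smul_clsT, clsT_eq_zero_iff]
  exact ⟨mkIn (X.obj ^ (m + 1)) (pow_in X.obj X.property (m + 1)), Ideal.pow_le_self (Nat.succ_ne_zero m),
    w, fun r hr => hm r (Ideal.pow_le_pow_right (Nat.le_succ m) hr), hwz⟩

omit hK [∀ p : PrimeSpectrum A, DRing.HasLBaseChange (algebraMap A (Localization.AtPrime p.asIdeal))] in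
theorem height_Ici {p q : PrimeSpectrum A} (hpq : p ≤ q) :
    Order.height (⟨q, hpq⟩ : Set.Ici p) = ((del hω p - del hω q).toNat : ℕ∞) := by
  have h1 : Order.krullDim (Set.Iic (⟨q, hpq⟩ : Set.Ici p)) = Order.krullDim (Set.Icc p q) :=
    Order.krullDim_eq_of_orderIso
      { toFun := fun r => ⟨r.1.1, r.1.2, r.2⟩
        invFun := fun r => ⟨⟨r.1, r.2.1⟩, r.2.2⟩
        left_inv := fun r => rfl
        right_inv := fun r => rfl
        map_rel_iff' := Iff.rfl }
  rw [← Order.height_eq_krullDim_Iic, HTLib.krullDim_Icc hω hpq] at h1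
  exact WithBot.coe_injective h1

/-- Vanishing of local cohomology at `p`, shifted by the height of an interval. -/
theorem cond_iff {p q : PrimeSpectrum A} (hpq : p ≤ q) (n : ℤ) :
    (∀ h : ℕ, Order.height (⟨q, hpq⟩ : Set.Ici p) = h → ∀ i : ℤ, i ≤ n - h →
      Subsingleton (Dual2.HDI (Localization.AtPrime p.asIdeal) (IsLocalRing.maximalIdeal (Localization.AtPrime p.asIdeal))
        ((DRing.LBaseChange (algebraMap A (Localization.AtPrime p.asIdeal))).obj K) i)) ↔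
      ∀ i ≤ n, VanK ω p.asIdeal K (-del hω q - i) := by
  have hdel := del_le hω hpq
  have key : ∀ i : ℤ, Subsingleton (Dual2.HDI (Localization.AtPrime p.asIdeal)
      (IsLocalRing.maximalIdeal (Localization.AtPrime p.asIdeal))
      ((DRing.LBaseChange (algebraMap A (Localization.AtPrime p.asIdeal))).obj K) i) ↔
      VanK ω p.asIdeal K (-del hω p - i) := fun i => by
    have h1 := killed_HDI_local_iff hω hK p i 1
    refine Iff.trans ?_ (h1.trans ?_)
    · exact ⟨fun h y => @Subsingleton.elim _ h _ _, fun h => subsingleton_of_forall_eq 0 fun y => by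
        have := h y
        rwa [map_one, one_smul] at this⟩
    · simp only [KillAt, VanK, one_smul]
      rfl
  rw [height_Ici hω hpq]
  refine ⟨fun h i hi => ?_, fun h m hm i hi => ?_⟩
  · have := (key _).1 (h _ rfl (i - (del hω p - del hω q).toNat) (by lia))
    rwa [show -del hω q - i = -del hω p - (i - ((del hω p - del hω q).toNat : ℕ)) by lia]
  · have hm' : (del hω p - del hω q).toNat = m := by exact_mod_cast hm
    refine (key i).2 ?_
    have := h (i + m) (by lia)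
    rwa [show -del hω p - i = -del hω q - (i + m) by lia]

/-- The annihilator theorem for complexes. -/
theorem exists_killer_iff {T' : Set (PrimeSpectrum A)} (hT : StableUnderSpecialization T)
    (hT' : StableUnderSpecialization T') (a : ℤ) (hKa : ∀ i : ℤ, i < a → Subsingleton (Dual.HD A K i)) (n : ℤ) :
    (∃ J : Ideal A, PrimeSpectrum.zeroLocus (J : Set A) ⊆ T' ∧
      ∀ i : ℤ, i ≤ n → ∀ c ∈ J, ∀ x : Dual2.HDT A T K i, c • x = 0) ↔
    ∀ (p q : PrimeSpectrum A) (hpq : p ≤ q), p ∉ T' → q ∈ T → ∀ h : ℕ, Order.height (⟨q, hpq⟩ : Set.Ici p) = h →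
      ∀ i : ℤ, i ≤ n - h → Subsingleton (Dual2.HDI (Localization.AtPrime p.asIdeal)
        (IsLocalRing.maximalIdeal (Localization.AtPrime p.asIdeal))
        ((DRing.LBaseChange (algebraMap A (Localization.AtPrime p.asIdeal))).obj K) i) :=
  ⟨fun ⟨_, hJ, hk⟩ _ _ hpq hp hq => (cond_iff hω hK hpq n).2 (vanK_of_killed hω hK hT hJ hk hp hq hpq),
    fun h => exists_killer_of_vanK hω hK hT' a hKa n fun p q hp hq hpq => (cond_iff hω hK hpq n).1 (h p q hpq hp hq)⟩

end Dualizing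

end

end Groth.Agent.HTLib.Cx
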