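import Mathlib
import Groth.Prelude.Def_DerCA

/-!
An inverse system of Artinian modules with limit an Artinian module is essentially constant.
-/

set_option autoImplicit false

universe u v

namespace Groth.Agent.HTLib

open CategoryTheory Opposite

variable {A : Type u} [CommRing A] (X : ℕᵒᵖ ⥤ ModuleCat.{v} A) {H : ModuleCat.{v} A}
  (c : (Functor.const ℕᵒᵖ).obj H ⟶ X)

theorem tr_tr {l n m : ℕ} (h₁ : l ≤ n) (h₂ : n ≤ m) (y : X.obj (op m)) :
    (ARSys.tr X h₁).hom ((ARSys.tr X h₂).hom y) = (ARSys.tr X (h₁.trans h₂)).hom y := by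
  rw [← ModuleCat.comp_apply, ← Functor.map_comp, ← op_comp]
  rfl

theorem tr_cone {n m : ℕ} (h : n ≤ m) (x : H) : (ARSys.tr X h).hom ((c.app (op m)).hom x) = (c.app (op n)).hom x := by
  have h1 := congrArg (fun φ => φ.hom x) (c.naturality (homOfLE h).op)
  exact h1.symm

theorem isEssConstant_of_artinian (hX : ∀ n, IsArtinian A (X.obj (op n))) [IsArtinian A H]
    (hinj : ∀ x : H, (∀ n : ℕ, (c.app (op n)).hom x = 0) → x = 0)
    (hsurj : ∀ y : (∀ n : ℕ, X.obj (op n)), (∀ (n m : ℕ) (h : n ≤ m), (ARSys.tr X h).hom (y m) = y n) →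
      ∃ x : H, ∀ n : ℕ, (c.app (op n)).hom x = y n) :
    DerCA.IsEssConstant X H c := by
  classical
  -- stable images
  have hst : ∀ n, ∃ m, ∃ h : n ≤ m, ∀ k, ∀ h' : m ≤ k,
      LinearMap.range (ARSys.tr X (h.trans h')).hom = LinearMap.range (ARSys.tr X h).hom := fun n => by
    obtain ⟨m, hm⟩ := IsArtinian.monotone_stabilizes (R := A) (M := X.obj (op n))
      ⟨fun k => OrderDual.toDual (LinearMap.range (ARSys.tr X (le_max_left n k)).hom), fun k k' hkk' => by
        rintro _ ⟨y, rfl⟩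
        exact ⟨(ARSys.tr X (max_le_max_left n hkk')).hom y, tr_tr X _ _ y⟩⟩
    refine ⟨max n m, le_max_left n m, fun k hk => ?_⟩
    have hk' : max n k = k := max_eq_right ((le_max_left n m).trans hk)
    have h2 := congrArg OrderDual.ofDual (hm k ((le_max_right n m).trans hk))
    refine le_antisymm ?_ ((le_of_eq h2).trans ?_)
    · rintro _ ⟨y, rfl⟩
      exact ⟨(ARSys.tr X hk).hom y, tr_tr X _ _ y⟩
    · rintro _ ⟨y, rfl⟩
      exact ⟨(ARSys.tr X hk'.ge).hom y, tr_tr X _ _ y⟩
  choose st hst hstab using hst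
  let E : ∀ n, Submodule A (X.obj (op n)) := fun n => LinearMap.range (ARSys.tr X (hst n)).hom
  have hmemE : ∀ n k (h : n ≤ k) (y : X.obj (op k)), st n ≤ k → (ARSys.tr X h).hom y ∈ E n := fun n k h y hk =>
    (hstab n k hk).le ⟨y, rfl⟩
  have hstep : ∀ n, ∀ e ∈ E n, ∃ e' ∈ E (n + 1), (ARSys.tr X (Nat.le_succ n)).hom e' = e := fun n e he => by
    have he' : e ∈ LinearMap.range (ARSys.tr X ((hst n).trans (le_max_left (st n) (st (n + 1))))).hom :=
      (hstab n _ (le_max_left (st n) (st (n + 1)))).ge he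
    obtain ⟨y, rfl⟩ := he'
    exact ⟨(ARSys.tr X ((hst (n + 1)).trans (le_max_right (st n) (st (n + 1))))).hom y,
      hmemE _ _ _ y (le_max_right _ _), tr_tr X _ _ y⟩
  -- every stable element comes from the limit
  have hlift : ∀ n, ∀ e ∈ E n, ∃ x : H, (c.app (op n)).hom x = e := fun n e he => by
    choose g hg hgt using hstep
    let up : ∀ k, n ≤ k → E k := fun k hk => Nat.leRec (motive := fun k _ => E k) ⟨e, he⟩
      (fun k _ z => ⟨g k z.1 z.2, hg k z.1 z.2⟩) hk
    have hup : ∀ k l (h : n ≤ k) (h' : k ≤ l), (ARSys.tr X h').hom (up l (h.trans h')).1 = (up k h).1 := by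
      intro k l h h'
      induction h' using Nat.leRec with
      | refl =>
        show ((X.map (𝟙 (op k))).hom (up k h).1) = _
        rw [X.map_id]; rfl
      | le_succ_of_le h' ih =>
        rw [← ih, ← tr_tr X h' (Nat.le_succ _)]
        congr 1
        show (ARSys.tr X (Nat.le_succ _)).hom (Subtype.val (Nat.leRec (motive := fun k _ => E k) _ _ _)) = _
        rw [Nat.leRec_succ (motive := fun k _ => E k) _ _ (h.trans h')]
        exact hgt _ _ _
    obtain ⟨x, hx⟩ := hsurj (fun k => (ARSys.tr X (le_max_right n k)).hom (up (max n k) (le_max_left n k)).1)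
      (fun k l hkl => by
        rw [tr_tr, ← hup (max n k) (max n l) (le_max_left n k) (max_le_max_left n hkl), tr_tr])
    refine ⟨x, (hx n).trans ?_⟩
    rw [hup n (max n n) le_rfl (le_max_left n n)]
    show Subtype.val (Nat.leRec (motive := fun k _ => E k) _ _ _) = e
    rw [Nat.leRec_self]
  -- a stage where the limit injects
  obtain ⟨i₀, hi₀⟩ := IsArtinian.monotone_stabilizes (R := A) (M := H)
    ⟨fun n => OrderDual.toDual (LinearMap.ker (c.app (op n)).hom), fun n m h => by
      intro x hx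
      exact (tr_cone X c h x).symm.trans ((congrArg _ (show (c.app (op m)).hom x = 0 from hx)).trans (map_zero _))⟩
  have hker : Function.Injective (c.app (op i₀)).hom := (injective_iff_map_eq_zero _).2 fun x hx => hinj x fun n => by
    have h1 : x ∈ LinearMap.ker (c.app (op (max i₀ n))).hom :=
      ((congrArg OrderDual.ofDual (hi₀ (max i₀ n) (le_max_left _ _))).le) hx
    exact (tr_cone X c (le_max_right i₀ n) x).symm.trans ((congrArg _ h1).trans (map_zero _))
  let e := LinearEquiv.ofInjective _ hker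
  have hr : ∀ y : X.obj (op (st i₀)), (ARSys.tr X (hst i₀)).hom y ∈ LinearMap.range (c.app (op i₀)).hom :=
    fun y => hlift i₀ _ ⟨y, rfl⟩
  let s : X.obj (op (st i₀)) ⟶ H := ModuleCat.ofHom (e.symm.toLinearMap ∘ₗ (ARSys.tr X (hst i₀)).hom.codRestrict _ hr)
  have hs : ∀ y, (c.app (op i₀)).hom (s.hom y) = (ARSys.tr X (hst i₀)).hom y := fun y =>
    congrArg Subtype.val (e.apply_symm_apply ⟨_, hr y⟩)
  refine ⟨st i₀, s, ModuleCat.hom_ext (LinearMap.ext fun x => hker ?_), fun j => ?_⟩
  · exact (hs _).trans (tr_cone X c (hst i₀) x)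
  let J := max j i₀
  refine ⟨max (st i₀) (st J), le_max_left _ _,
    ((le_max_left j i₀).trans (hst J)).trans (le_max_right (st i₀) (st J)),
    ModuleCat.hom_ext (LinearMap.ext fun y => ?_)⟩
  obtain ⟨x, hx⟩ := hlift J _ (hmemE J _ ((hst J).trans (le_max_right (st i₀) (st J))) y (le_max_right _ _))
  have h1 : s.hom ((ARSys.tr X (le_max_left (st i₀) (st J))).hom y) = x := hker (by
    rw [hs, tr_tr, ← tr_cone X c (le_max_right j i₀), hx, tr_tr])
  show _ = (c.app (op j)).hom (s.hom ((ARSys.tr X (le_max_left (st i₀) (st J))).hom y))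
  rw [h1, ← tr_cone X c (le_max_left j i₀), hx, tr_tr]

end Groth.Agent.HTLib
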