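import Mathlib

/-!
`Ext^p(M, N) = Hom(M, Ext^p(R/J, N))` on modules killed by `J`, when the lower degrees vanish.
-/

set_option autoImplicit false

universe u

namespace Groth.Agent.HTLib

open CategoryTheory CategoryTheory.Limits CategoryTheory.Abelian

variable {R : Type u} [CommRing R] [IsNoetherianRing R] (J : Ideal R) (N : ModuleCat.{u} R) (p : ℕ)

/-- The evaluation map. -/
noncomputable abbrev ev {M : Type u} [AddCommGroup M] [Module R M] (u : (R ⧸ J) →ₗ[R] M)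
    (ξ : Ext (ModuleCat.of R M) N p) : Ext (ModuleCat.of R (R ⧸ J)) N p :=
  (Ext.mk₀ (ModuleCat.ofHom u)).comp ξ (zero_add p)

omit [IsNoetherianRing R] in
theorem exists_single {M : Type u} [AddCommGroup M] [Module R M] (hM : ∀ a ∈ J, ∀ m : M, a • m = 0) (m : M) :
    ∃ u : (R ⧸ J) →ₗ[R] M, u (Submodule.Quotient.mk 1) = m :=
  ⟨J.liftQ (LinearMap.toSpanSingleton R M m) fun a ha => hM a ha m, (show (1 : R) • m = m from one_smul R m)⟩

omit [IsNoetherianRing R] in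
theorem hom_ext_one {M : Type u} [AddCommGroup M] [Module R M] {u v : (R ⧸ J) →ₗ[R] M}
    (h : u (Submodule.Quotient.mk 1) = v (Submodule.Quotient.mk 1)) : u = v :=
  Submodule.linearMap_qext _ (LinearMap.ext_ring h)

omit [IsNoetherianRing R] in
theorem self_eq_smul (c : (R ⧸ J) →ₗ[R] R ⧸ J) : ∃ a : R, c = a • LinearMap.id := by
  obtain ⟨a, ha⟩ := Submodule.Quotient.mk_surjective J (c (Submodule.Quotient.mk 1))
  refine ⟨a, hom_ext_one J ?_⟩
  rw [← ha, LinearMap.smul_apply, LinearMap.id_apply, ← Submodule.Quotient.mk_smul, smul_eq_mul, mul_one]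

omit [IsNoetherianRing R] in
theorem comp_self {M : Type u} [AddCommGroup M] [Module R M]
    (g : ((R ⧸ J) →ₗ[R] M) →ₗ[R] Ext (ModuleCat.of R (R ⧸ J)) N p) (u : (R ⧸ J) →ₗ[R] M)
    (c : (R ⧸ J) →ₗ[R] R ⧸ J) : (Ext.mk₀ (ModuleCat.ofHom c)).comp (g u) (zero_add p) = g (u ∘ₗ c) := by
  obtain ⟨a, rfl⟩ := self_eq_smul J c
  rw [LinearMap.comp_smul, LinearMap.comp_id, map_smul]
  have h : ModuleCat.ofHom (a • (LinearMap.id : (R ⧸ J) →ₗ[R] R ⧸ J)) = a • 𝟙 (ModuleCat.of R (R ⧸ J)) := rfl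
  rw [h, Ext.mk₀_smul, Ext.smul_comp, Ext.mk₀_id_comp]

theorem exists_presentation {M : Type u} [AddCommGroup M] [Module R M] [Module.Finite R M]
    (hM : ∀ a ∈ J, ∀ m : M, a • m = 0) :
    ∃ (b : ℕ) (π : (Fin b → R ⧸ J) →ₗ[R] M), Function.Surjective π := by
  obtain ⟨b, x, hx⟩ := Module.Finite.exists_fin (R := R) (M := M)
  choose uu huu using fun k => exists_single J hM (x k)
  refine ⟨b, ∑ k, uu k ∘ₗ LinearMap.proj k, LinearMap.range_eq_top.1 (eq_top_iff.2 (hx ▸ Submodule.span_le.2 ?_))⟩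
  rintro _ ⟨k, rfl⟩
  refine ⟨Pi.single k (Submodule.Quotient.mk 1), ?_⟩
  rw [LinearMap.sum_apply, Finset.sum_eq_single k]
  · simp only [LinearMap.comp_apply, LinearMap.proj_apply, Pi.single_eq_same]
    exact huu k
  · intro l _ hl
    simp [Pi.single_eq_of_ne hl]
  · simp

variable (hvan : ∀ (M : Type u) [AddCommGroup M] [Module R M] [Module.Finite R M], (∀ a ∈ J, ∀ m : M, a • m = 0) →
  ∀ i, i < p → Subsingleton (Ext (ModuleCat.of R M) N i))

omit [IsNoetherianRing R] in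
theorem ext_sum_single {b : ℕ} {Y : Type u} [AddCommGroup Y] [Module R Y] (π : (Fin b → R ⧸ J) →ₗ[R] Y)
    (ξ : Ext (ModuleCat.of R Y) N p) :
    (Ext.mk₀ (ModuleCat.ofHom π)).comp ξ (zero_add p) = ∑ k : Fin b, (Ext.mk₀ (ModuleCat.ofHom
      (LinearMap.proj k : (Fin b → R ⧸ J) →ₗ[R] R ⧸ J))).comp
        (ev J N p (π ∘ₗ LinearMap.single R (fun _ => R ⧸ J) k) ξ) (zero_add p) := by
  have hπ : ModuleCat.ofHom π = ∑ k : Fin b, ModuleCat.ofHom (LinearMap.proj k : (Fin b → R ⧸ J) →ₗ[R] R ⧸ J) ≫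
      ModuleCat.ofHom (π ∘ₗ LinearMap.single R (fun _ => R ⧸ J) k) := by
    refine ModuleCat.hom_ext (LinearMap.ext fun f => ?_)
    rw [ModuleCat.hom_sum, LinearMap.sum_apply]
    conv_lhs => rw [ModuleCat.hom_ofHom, ← Finset.univ_sum_single f, map_sum]
    rfl
  rw [hπ, Ext.mk₀_sum, Ext.sum_comp]
  exact Finset.sum_congr rfl fun k _ => by rw [← Ext.mk₀_comp_mk₀, Ext.comp_assoc_of_second_deg_zero]

include hvan in
theorem comp_injective {F M : Type u} [AddCommGroup F] [Module R F] [Module.Finite R F] [AddCommGroup M] [Module R M]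
    (hF : ∀ a ∈ J, ∀ f : F, a • f = 0) (π : F →ₗ[R] M) (hπ : Function.Surjective π)
    {ξ : Ext (ModuleCat.of R M) N p} (h : (Ext.mk₀ (ModuleCat.ofHom π)).comp ξ (zero_add p) = 0) : ξ = 0 := by
  cases p with
  | zero =>
    obtain ⟨f, rfl⟩ := (Ext.mk₀_bijective _ _).2 ξ
    rw [Ext.mk₀_comp_mk₀, ← Ext.mk₀_zero] at h
    have h1 := (Ext.mk₀_bijective _ _).1 h
    haveI : Epi (ModuleCat.ofHom π) := (ModuleCat.epi_iff_surjective _).2 hπ
    rw [(cancel_epi (ModuleCat.ofHom π)).1 (h1.trans comp_zero.symm), Ext.mk₀_zero]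
  | succ q =>
    let S : ShortComplex (ModuleCat.{u} R) :=
      ShortComplex.mk (ModuleCat.ofHom (LinearMap.ker π).subtype) (ModuleCat.ofHom π)
        (ModuleCat.hom_ext (LinearMap.ext fun x => x.2))
    have hS : S.ShortExact :=
      { exact := (ShortComplex.moduleCat_exact_iff _).2 fun x hx => ⟨⟨x, hx⟩, rfl⟩
        mono_f := (ModuleCat.mono_iff_injective _).2 Subtype.val_injective
        epi_g := (ModuleCat.epi_iff_surjective _).2 hπ }
    obtain ⟨η, hη⟩ := Ext.contravariant_sequence_exact₃ hS N ξ h (n₀ := q) (by omega)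
    haveI := hvan (LinearMap.ker π) (fun a ha x => Subtype.ext (hF a ha x)) q (by omega)
    rw [← hη, show η = 0 from Subsingleton.elim _ _, Ext.comp_zero]

include hvan in
theorem ev_injective {M : Type u} [AddCommGroup M] [Module R M] [Module.Finite R M]
    (hM : ∀ a ∈ J, ∀ m : M, a • m = 0) {ξ : Ext (ModuleCat.of R M) N p}
    (h : ∀ u : (R ⧸ J) →ₗ[R] M, ev J N p u ξ = 0) : ξ = 0 := by
  obtain ⟨b, π, hπ⟩ := exists_presentation J hM
  refine comp_injective J N p hvan (fun a ha f => funext fun k => ?_) π hπ ?_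
  · obtain ⟨r, hr⟩ := Submodule.Quotient.mk_surjective J (f k)
    rw [Pi.smul_apply, ← hr, ← Submodule.Quotient.mk_smul, Pi.zero_apply, Submodule.Quotient.mk_eq_zero]
    exact J.mul_mem_right r ha
  · rw [ext_sum_single J N p π ξ]
    exact Finset.sum_eq_zero fun k _ => by rw [h, Ext.comp_zero]

include hvan in
theorem ev_surjective {M : Type u} [AddCommGroup M] [Module R M] [Module.Finite R M]
    (hM : ∀ a ∈ J, ∀ m : M, a • m = 0) (g : ((R ⧸ J) →ₗ[R] M) →ₗ[R] Ext (ModuleCat.of R (R ⧸ J)) N p) :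
    ∃ ξ : Ext (ModuleCat.of R M) N p, ∀ u, g u = ev J N p u ξ := by
  obtain ⟨b, π, hπ⟩ := exists_presentation J hM
  let uu : Fin b → ((R ⧸ J) →ₗ[R] M) := fun k => π ∘ₗ LinearMap.single R (fun _ => R ⧸ J) k
  let ζ : Ext (ModuleCat.of R (Fin b → R ⧸ J)) N p := ∑ k : Fin b, (Ext.mk₀ (ModuleCat.ofHom
      (LinearMap.proj k : (Fin b → R ⧸ J) →ₗ[R] R ⧸ J))).comp (g (uu k)) (zero_add p)
  have hF : ∀ a ∈ J, ∀ f : Fin b → R ⧸ J, a • f = 0 := fun a ha f => funext fun k => by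
    obtain ⟨r, hr⟩ := Submodule.Quotient.mk_surjective J (f k)
    rw [Pi.smul_apply, ← hr, ← Submodule.Quotient.mk_smul, Pi.zero_apply, Submodule.Quotient.mk_eq_zero]
    exact J.mul_mem_right r ha
  have key : ∀ w : (R ⧸ J) →ₗ[R] (Fin b → R ⧸ J), ev J N p w ζ = g (π ∘ₗ w) := fun w => by
    rw [ev, Ext.comp_sum]
    have hw : π ∘ₗ w = ∑ k : Fin b, uu k ∘ₗ (LinearMap.proj k ∘ₗ w) := LinearMap.ext fun x => by
      rw [LinearMap.sum_apply, LinearMap.comp_apply]
      conv_lhs => rw [← Finset.univ_sum_single (w x), map_sum]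
      rfl
    rw [hw, map_sum]
    exact Finset.sum_congr rfl fun k _ => by
      rw [← Ext.comp_assoc_of_second_deg_zero, Ext.mk₀_comp_mk₀, ← ModuleCat.ofHom_comp, comp_self]
  let S : ShortComplex (ModuleCat.{u} R) :=
    ShortComplex.mk (ModuleCat.ofHom (LinearMap.ker π).subtype) (ModuleCat.ofHom π)
      (ModuleCat.hom_ext (LinearMap.ext fun x => x.2))
  have hS : S.ShortExact :=
    { exact := (ShortComplex.moduleCat_exact_iff _).2 fun x hx => ⟨⟨x, hx⟩, rfl⟩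
      mono_f := (ModuleCat.mono_iff_injective _).2 Subtype.val_injective
      epi_g := (ModuleCat.epi_iff_surjective _).2 hπ }
  have h0 : (Ext.mk₀ S.f).comp ζ (zero_add p) = 0 :=
    ev_injective J N p hvan (fun a ha x => Subtype.ext (hF a ha x)) fun v => by
      show (Ext.mk₀ (ModuleCat.ofHom v)).comp ((Ext.mk₀ S.f).comp ζ (zero_add p)) (zero_add p) = 0
      rw [← Ext.comp_assoc_of_second_deg_zero, Ext.mk₀_comp_mk₀]
      refine (key ((LinearMap.ker π).subtype ∘ₗ v)).trans ?_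
      rw [show π ∘ₗ ((LinearMap.ker π).subtype ∘ₗ v) = 0 from LinearMap.ext fun x => (v x).2, map_zero]
  obtain ⟨ξ, hξ⟩ := Ext.contravariant_sequence_exact₂ hS N ζ h0
  refine ⟨ξ, fun u => ?_⟩
  obtain ⟨f, hf⟩ := hπ (u (Submodule.Quotient.mk 1))
  obtain ⟨w, hw⟩ := exists_single J hF f
  have hu : π ∘ₗ w = u := hom_ext_one J (by rw [LinearMap.comp_apply, hw, hf])
  rw [← hu, ← key w, ev, ← hξ, ← Ext.comp_assoc_of_second_deg_zero, Ext.mk₀_comp_mk₀]
  rfl

end Groth.Agent.HTLib
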