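import Groth.Agent.DualFlat.Apps
import Groth.Agent.DualCx.Apps
import Groth.Agent.QGorD.Basic

/-!
Depth of `B ⊗ M` for a flat map carrying a dualizing complex to a dualizing complex.
-/

set_option autoImplicit false
set_option maxHeartbeats 1000000
set_option linter.style.haveILetI false
universe u

namespace Groth.Agent.HTLib

open CategoryTheory DualCx TensorProduct

attribute [local instance] HasDerivedCategory.standard

noncomputable section

theorem toNat_aux₁ {x y : ℤ} {j : ℕ} (hj : j < (x - y).toNat) : -x < -y - (j : ℤ) := by omega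

theorem toNat_aux₂ {x y : ℤ} (h : y ≤ x) {j n : ℕ} (hj : j < n + (x - y).toNat) (hc : ¬ j < (x - y).toNat) :
    ∃ k : ℕ, k < n ∧ -y - (j : ℤ) = -x - (k : ℤ) :=
  ⟨j - (x - y).toNat, by omega, by omega⟩

theorem toNat_aux₃ {x y : ℤ} (h : y ≤ x) (n : ℕ) :
    -y - ((n + (x - y).toNat : ℕ) : ℤ) = -x - (n : ℤ) := by omega

variable {A : Type u} [CommRing A] [IsNoetherianRing A] {B : Type u} [CommRing B] [IsNoetherianRing B]
  [Algebra A B] [Module.Flat A B] {K : Dual.D A}
  (hK : Dual.IsDualizing A K) (hB : Dual.IsDualizing B (DualFlat.KB B K))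

include hK in
omit [IsNoetherianRing B] in
theorem van_KB_iff {M : Type u} [AddCommGroup M] [Module A M] [Module.Finite A M] (P : PrimeSpectrum B)
    (p : PrimeSpectrum A) (hp : PrimeSpectrum.comap (algebraMap A B) P = p) (i : ℤ) :
    Van (DualFlat.KB B K) P.asIdeal (DualFlat.EM (A := A) B M) i ↔ Van K p.asIdeal M i := by
  obtain ⟨a, b, hab⟩ := bounded_of_dualizing hK
  have hb := DualFlat.bT_bijective B K (fun j hj => hab j (Or.inl hj)) M i
  subst hp
  constructor
  · intro h x
    by_contra hx
    push Not at hx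
    obtain ⟨u, hu, hux⟩ := h (DualFlat.bT B K M i ((1 : B) ⊗ₜ[A] x))
    rw [← map_smul, ← map_zero (DualFlat.bT B K M i)] at hux
    have h1 := hb.1 hux
    rw [TensorProduct.smul_tmul', smul_eq_mul, mul_one] at h1
    let f : A →ₗ[A] T K M i := LinearMap.toSpanSingleton A _ x
    have hex : Function.Exact (LinearMap.ker f).subtype f := f.exact_subtype_ker_map
    have h2 := Module.Flat.lTensor_exact B hex
    obtain ⟨z, hz⟩ := (h2 (u ⊗ₜ[A] (1 : A))).1 (by
      rw [LinearMap.lTensor_tmul, show f 1 = x from one_smul A x]; exact h1)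
    refine hu ?_
    have hmem : ∀ z : B ⊗[A] LinearMap.ker f,
        TensorProduct.rid A B ((LinearMap.ker f).subtype.lTensor B z) ∈ P.asIdeal := by
      intro z
      induction z using TensorProduct.induction_on with
      | zero => simp
      | add z w hz hw => rw [map_add, map_add]; exact add_mem hz hw
      | tmul c y =>
        rw [LinearMap.lTensor_tmul, TensorProduct.rid_tmul, Algebra.smul_def]
        refine P.asIdeal.mul_mem_right _ ?_
        show (y : A) ∈ P.asIdeal.comap (algebraMap A B)
        by_contra hy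
        exact hx y hy y.2
    have := hmem z
    rwa [hz, TensorProduct.rid_tmul, one_smul] at this
  · intro h y
    obtain ⟨z, rfl⟩ := hb.2 y
    suffices H : ∃ v : B, v ∉ P.asIdeal ∧ v • z = 0 by
      obtain ⟨v, hv, hvz⟩ := H
      exact ⟨v, hv, by rw [← map_smul, hvz, map_zero]⟩
    induction z using TensorProduct.induction_on with
    | zero => exact ⟨1, fun h1 => P.isPrime.ne_top ((Ideal.eq_top_iff_one _).2 h1), smul_zero _⟩
    | tmul c x =>
      obtain ⟨v, hv, hvx⟩ := h x
      exact ⟨algebraMap A B v, hv, by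
        rw [algebraMap_smul, ← TensorProduct.tmul_smul, hvx, TensorProduct.tmul_zero]⟩
    | add z w hz hw =>
      obtain ⟨v, hv, hvz⟩ := hz
      obtain ⟨t, ht, htw⟩ := hw
      refine ⟨v * t, P.isPrime.mul_mem_iff_mem_or_mem.not.2 (by tauto), ?_⟩
      rw [smul_add, mul_smul, mul_smul, htw, smul_zero, add_zero, smul_comm, hvz, smul_zero]

omit [IsNoetherianRing A] [IsNoetherianRing B] [Module.Flat A B] in
theorem smul_EM_eq_zero {M : Type u} [AddCommGroup M] [Module A M] {a : A} (ha : ∀ m : M, a • m = 0)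
    (z : DualFlat.EM (A := A) B M) : algebraMap A B a • z = 0 := by
  apply (DualFlat.tens (A := A) B M).injective
  rw [map_smul, map_zero, algebraMap_smul]
  induction (DualFlat.tens (A := A) B M) z using TensorProduct.induction_on with
  | zero => exact smul_zero _
  | tmul c m => rw [← TensorProduct.tmul_smul, ha, TensorProduct.tmul_zero]
  | add z w hz hw => rw [smul_add, hz, hw, add_zero]

omit [IsNoetherianRing A] [IsNoetherianRing B] [Module.Flat A B] in
theorem finite_EM (M : Type u) [AddCommGroup M] [Module A M] [Module.Finite A M] :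
    Module.Finite B (DualFlat.EM (A := A) B M) :=
  Module.Finite.equiv (DualFlat.tens (A := A) B M).symm

omit [IsNoetherianRing A] [IsNoetherianRing B] [Module.Flat A B] in
theorem exists_minimal_over (P : PrimeSpectrum B) :
    ∃ P₀ : PrimeSpectrum B, P₀ ≤ P ∧
      PrimeSpectrum.comap (algebraMap A B) P₀ = PrimeSpectrum.comap (algebraMap A B) P ∧
      P₀.asIdeal ∈ ((P.asIdeal.comap (algebraMap A B)).map (algebraMap A B)).minimalPrimes := by
  obtain ⟨P₀, hP₀, hle⟩ := Ideal.exists_minimalPrimes_le (Ideal.map_comap_le (f := algebraMap A B) (K := P.asIdeal))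
  exact ⟨⟨P₀, hP₀.1.1⟩, hle, PrimeSpectrum.ext (le_antisymm (Ideal.comap_mono hle)
    (Ideal.map_le_iff_le_comap.1 hP₀.1.2)), hP₀⟩

omit [IsNoetherianRing A] [IsNoetherianRing B] in
theorem comap_minimal (p : PrimeSpectrum A) (P : PrimeSpectrum B)
    (hP : P.asIdeal ∈ (p.asIdeal.map (algebraMap A B)).minimalPrimes) :
    PrimeSpectrum.comap (algebraMap A B) P = p := by
  let r := PrimeSpectrum.comap (algebraMap A B) P
  have hle : p.asIdeal ≤ r.asIdeal := Ideal.map_le_iff_le_comap.1 hP.1.2
  haveI : P.asIdeal.LiesOver r.asIdeal := ⟨rfl⟩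
  obtain ⟨Q, hQP, hQ, hQp⟩ := Ideal.exists_ideal_le_liesOver_of_le (p := p.asIdeal) (q := r.asIdeal) P.asIdeal hle
  have hPQ : P.asIdeal ≤ Q := hP.2 ⟨hQ, Ideal.map_le_iff_le_comap.2 hQp.over.le⟩ hQP
  refine PrimeSpectrum.ext (le_antisymm ?_ hle)
  rw [hQp.over]
  exact Ideal.comap_mono hPQ

include hK hB in
theorem del_eq_of_minimal (p : PrimeSpectrum A) (P : PrimeSpectrum B)
    (hP : P.asIdeal ∈ (p.asIdeal.map (algebraMap A B)).minimalPrimes) : del hB P = del hK p := by
  haveI := finite_EM (A := A) (B := B) (A ⧸ p.asIdeal)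
  have h := mt (van_KB_iff hK P p (comap_minimal p P hP) _).1 (not_van_del hK p)
  have := eq_of_not_van_minimal hB (p := P) (fun r hr hrP => ?_) h
  · exact (neg_inj.1 this).symm
  refine PrimeSpectrum.ext (le_antisymm hrP (hP.2 ⟨r.isPrime, ?_⟩ hrP))
  refine Ideal.map_le_iff_le_comap.2 fun a ha => Module.annihilator_le_of_mem_support hr ?_
  rw [Module.mem_annihilator]
  refine smul_EM_eq_zero fun m => ?_
  obtain ⟨c, rfl⟩ := Ideal.Quotient.mk_surjective m
  rw [Algebra.smul_def, Ideal.Quotient.algebraMap_eq, ← map_mul]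
  exact Ideal.Quotient.eq_zero_iff_mem.2 (Ideal.mul_mem_right _ _ ha)

include hK hB in
theorem del_le_comap (P : PrimeSpectrum B) :
    del hB P ≤ del hK (PrimeSpectrum.comap (algebraMap A B) P) := by
  obtain ⟨P₀, hle, -, hP₀⟩ := exists_minimal_over (A := A) P
  have h := del_eq_of_minimal hK hB (PrimeSpectrum.comap (algebraMap A B) P) P₀ hP₀
  exact (del_le hB hle).trans h.le

include hK hB in
/-- Depth along a flat map respecting dualizing complexes. -/
theorem depth_EM (M : Type u) [AddCommGroup M] [Module A M] [Module.Finite A M] (P : PrimeSpectrum B)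
    (p : PrimeSpectrum A) (hp : PrimeSpectrum.comap (algebraMap A B) P = p) :
    LocCoh.depth (Localization.AtPrime P.asIdeal) (LocalizedModule P.asIdeal.primeCompl (DualFlat.EM (A := A) B M)) =
      LocCoh.depth (Localization.AtPrime p.asIdeal) (LocalizedModule p.asIdeal.primeCompl M) +
        (((del hK p - del hB P).toNat : ℕ) : ℕ∞) := by
  haveI := finite_EM (A := A) (B := B) M
  have hle : del hB P ≤ del hK p := hp ▸ del_le_comap hK hB P
  by_cases hs : p ∈ Module.support A M
  · obtain ⟨n, hn, h1, h2⟩ := exists_depth hK hs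
    rw [hn, ← Nat.cast_add]
    have e1 : ∀ j : ℕ, j < (del hK p - del hB P).toNat → -del hK p < -del hB P - (j : ℤ) :=
      fun j hj => toNat_aux₁ hj
    refine (depth_eq_iff hB P _).2 ⟨fun j hj => ?_, ?_⟩
    · rw [van_KB_iff hK P p hp]
      by_cases hc : j < (del hK p - del hB P).toNat
      · exact van_gt hK (e1 j hc)
      · obtain ⟨k, hk, hkj⟩ := toNat_aux₂ hle hj hc
        rw [hkj]
        exact h1 k hk
    · rw [van_KB_iff hK P p hp, toNat_aux₃ hle n]
      exact h2
  · haveI h1 : Subsingleton (LocalizedModule p.asIdeal.primeCompl M) := Module.notMem_support_iff.1 hs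
    haveI h2 : Subsingleton (LocalizedModule P.asIdeal.primeCompl (DualFlat.EM (A := A) B M)) := by
      refine LocalizedModule.subsingleton_iff.2 fun z => ?_
      suffices H : ∀ w : B ⊗[A] M, ∃ v ∈ P.asIdeal.primeCompl, v • w = 0 by
        obtain ⟨v, hv, hvz⟩ := H ((DualFlat.tens (A := A) B M) z)
        exact ⟨v, hv, (DualFlat.tens (A := A) B M).injective (by rw [map_smul, hvz, map_zero])⟩
      intro w
      induction w using TensorProduct.induction_on with
      | zero => exact ⟨1, one_mem _, smul_zero _⟩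
      | tmul c m =>
        obtain ⟨v, hv, hvm⟩ := LocalizedModule.subsingleton_iff.1 h1 m
        refine ⟨algebraMap A B v, fun hv' => hv ?_, by
          rw [algebraMap_smul, ← TensorProduct.tmul_smul, hvm, TensorProduct.tmul_zero]⟩
        rw [← hp]; exact hv'
      | add x y hx hy =>
        obtain ⟨v, hv, hvx⟩ := hx
        obtain ⟨t, ht, hty⟩ := hy
        refine ⟨v * t, mul_mem hv ht, ?_⟩
        rw [smul_add, mul_smul, mul_smul, hty, smul_zero, add_zero, smul_comm, hvx, smul_zero]
    rw [FlatDepth.depth_eq_top, FlatDepth.depth_eq_top, top_add]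

end

end Groth.Agent.HTLib
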