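import Groth.Agent.HTLib.UCx
import Groth.Agent.DualCx.Coherent
import Groth.Agent.DualCx.Hom

/-!
`colim_n Hom_D(I^n M, ω[j]) = 0` from `H^j(Hom(M, Ω) / Γ_I) = 0`.
-/

set_option autoImplicit false
set_option maxHeartbeats 1000000
set_option linter.style.haveILetI false
set_option backward.isDefEq.respectTransparency false
universe u

namespace Groth.Agent.HTLib

open CategoryTheory Limits DerivedCategory DualCx

attribute [local instance] HasDerivedCategory.standard

noncomputable section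

variable {A : Type u} [CommRing A] {ω : Dual.D A} (R : Rep ω) {M N : Type u} [AddCommGroup M] [Module A M]
  [AddCommGroup N] [Module A N] {j : ℤ}

theorem theta_pre (f : M →ₗ[A] N) (x : T ω N j) :
    R.theta M j (pre ω j f x) =
      DerivedCategory.Q.map ((HomologicalComplex.single (ModuleCat.{u} A) (ComplexShape.up ℤ) j).map (ModuleCat.ofHom f)) ≫
        R.theta N j x := by
  let e1 := (DerivedCategory.singleFunctors (ModuleCat.{u} A)).shiftIso (-j) j 0 (by lia)
  let e2 := DerivedCategory.singleFunctorIsoCompQ (ModuleCat.{u} A) j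
  let c := (shiftFunctorCompIsoId (Dual.D A) j (-j) (by lia)).hom.app ω
  show (((e2.inv.app _ ≫ e1.inv.app _) ≫ (shiftFunctor (Dual.D A) (-j)).map
      ((DerivedCategory.singleFunctor (ModuleCat.{u} A) 0).map (ModuleCat.ofHom f) ≫ x)) ≫ c) ≫ R.iso.inv =
    DerivedCategory.Q.map ((HomologicalComplex.single (ModuleCat.{u} A) (ComplexShape.up ℤ) j).map (ModuleCat.ofHom f)) ≫
      (((e2.inv.app _ ≫ e1.inv.app _) ≫ (shiftFunctor (Dual.D A) (-j)).map x) ≫ c) ≫ R.iso.inv
  have h1 : (DerivedCategory.singleFunctor (ModuleCat.{u} A) j).map (ModuleCat.ofHom f) ≫ e1.inv.app (ModuleCat.of A N) =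
      e1.inv.app (ModuleCat.of A M) ≫ (shiftFunctor (Dual.D A) (-j)).map
        ((DerivedCategory.singleFunctor (ModuleCat.{u} A) 0).map (ModuleCat.ofHom f)) :=
    e1.inv.naturality (ModuleCat.ofHom f)
  have h2 : DerivedCategory.Q.map ((HomologicalComplex.single (ModuleCat.{u} A) (ComplexShape.up ℤ) j).map (ModuleCat.ofHom f)) ≫
      e2.inv.app (ModuleCat.of A N) =
      e2.inv.app (ModuleCat.of A M) ≫ (DerivedCategory.singleFunctor (ModuleCat.{u} A) j).map (ModuleCat.ofHom f) :=
    e2.inv.naturality (ModuleCat.ofHom f)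
  simp only [Functor.map_comp, Category.assoc]
  rw [reassoc_of% h2, reassoc_of% h1]

theorem theta_toT (z : R.Z N j) : R.theta N j (R.toT N j z) = DerivedCategory.Q.map (R.ofCycle N j z) :=
  (LinearEquiv.ofBijective (R.theta N j) (R.theta_bijective N j)).apply_symm_apply _

theorem ofCycle_dmap (f : M →ₗ[A] N) (z : R.Z N j) (z' : R.Z M j) (h : z'.1 = (R.dmap f).f j z.1) :
    R.ofCycle M j z' =
      (HomologicalComplex.single (ModuleCat.{u} A) (ComplexShape.up ℤ) j).map (ModuleCat.ofHom f) ≫ R.ofCycle N j z := by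
  refine HomologicalComplex.from_single_hom_ext ?_
  simp only [Rep.ofCycle, HomologicalComplex.comp_f, HomologicalComplex.mkHomFromSingle_f,
    HomologicalComplex.single_map_f_self, Category.assoc, Iso.inv_hom_id_assoc]
  rw [h]
  rfl

theorem toT_dmap (f : M →ₗ[A] N) (z : R.Z N j) (z' : R.Z M j) (h : z'.1 = (R.dmap f).f j z.1) :
    R.toT M j z' = pre ω j f (R.toT N j z) := by
  refine (R.theta_bijective M j).1 ?_
  rw [theta_pre, theta_toT, theta_toT, ← Functor.map_comp, ofCycle_dmap R f z z' h]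

theorem exists_cycle (x : T ω N j) : ∃ z : R.Z N j, R.toT N j z = x := by
  haveI := R.isKInjective
  obtain ⟨φ, hφ⟩ := DRingKP.exists_lift_inj (R.theta N j x)
  refine ⟨⟨(HomologicalComplex.singleObjXSelf (ComplexShape.up ℤ) j _).inv ≫ φ.f j, ?_⟩, ?_⟩
  · show (_ ≫ φ.f j) ≫ R.J.d j (j + 1) = 0
    rw [Category.assoc, φ.comm, (HomologicalComplex.isZero_single_obj_X (ComplexShape.up ℤ) j (ModuleCat.of A N) (j + 1)
      (by lia)).eq_of_tgt ((sgl N j).d j (j + 1)) 0, zero_comp, comp_zero]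
  · refine (R.theta_bijective N j).1 ?_
    rw [theta_toT]
    rw [← hφ]
    congr 1
    refine HomologicalComplex.from_single_hom_ext ?_
    simp only [Rep.ofCycle, HomologicalComplex.mkHomFromSingle_f, Iso.hom_inv_id_assoc]

theorem toT_boundary {i : ℤ} (hi : i + 1 = j) (z : R.Z N j) (w : (R.D N).X i) (h : (R.D N).d i j w = z.1) :
    R.toT N j z = 0 := by
  refine (R.theta_bijective N j).1 ?_
  rw [theta_toT, map_zero]
  let S := sgl (A := A) N j
  let hh : ∀ a b, (ComplexShape.up ℤ).Rel b a → (S.X a ⟶ R.J.X b) := fun a b hab =>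
    if ha : a = j then
      eqToHom (congrArg S.X ha) ≫ (HomologicalComplex.singleObjXSelf (ComplexShape.up ℤ) j _).hom ≫
        (show ModuleCat.of A N ⟶ R.J.X i from w) ≫ eqToHom (congrArg R.J.X (show i = b by
          have : b + 1 = a := hab
          lia))
    else 0
  have hf0 : R.ofCycle N j z = Homotopy.nullHomotopicMap' hh := by
    refine HomologicalComplex.from_single_hom_ext ?_
    rw [Homotopy.nullHomotopicMap'_f (k₂ := i) (k₁ := j) (k₀ := j + 1) hi (by simp),
      (HomologicalComplex.isZero_single_obj_X (ComplexShape.up ℤ) j (ModuleCat.of A N) (j + 1) (by lia)).eq_of_tgt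
        (S.d j (j + 1)) 0, zero_comp, zero_add]
    simp only [hh, dif_pos, Rep.ofCycle, HomologicalComplex.mkHomFromSingle_f]
    rw [eqToHom_refl, eqToHom_refl, Category.id_comp, Category.comp_id, Category.assoc]
    congr 1
    exact h.symm
  rw [hf0]
  exact (DerivedCategory.Q_map_eq_of_homotopy _ (Homotopy.nullHomotopy' hh)).trans (DerivedCategory.Q.map_zero _ _)

/-- every class on `I^n M` dies on some `I^k M` -/
theorem exists_res_eq_zero (I : Ideal A) (h : UVan I (R.D M) j) (n : ℕ)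
    (x : T ω ↥(I ^ n • (⊤ : Submodule A M)) j) :
    ∃ (k : ℕ) (hk : n ≤ k), pre ω j (Submodule.inclusion
      (Submodule.smul_mono_left (Ideal.pow_le_pow_right hk) : I ^ k • (⊤ : Submodule A M) ≤ I ^ n • ⊤)) x = 0 := by
  haveI := R.inj j
  obtain ⟨z, rfl⟩ := exists_cycle R x
  let ι : ↥(I ^ n • (⊤ : Submodule A M)) →ₗ[A] M := (I ^ n • (⊤ : Submodule A M)).subtype
  haveI : Mono (ModuleCat.ofHom ι) := (ModuleCat.mono_iff_injective _).2 Subtype.val_injective
  let φ : ModuleCat.of A M ⟶ R.J.X j := Injective.factorThru (show ModuleCat.of A _ ⟶ R.J.X j from z.1) (ModuleCat.ofHom ι)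
  have hφ : ModuleCat.ofHom ι ≫ φ = z.1 := Injective.comp_factorThru _ _
  obtain ⟨w, k, hw⟩ := h (j - 1) (j + 1) (by lia) rfl φ ⟨n, fun a ha => by
    show a • (φ ≫ R.J.d j (j + 1)) = 0
    refine ModuleCat.hom_ext (LinearMap.ext fun m => ?_)
    show a • (φ ≫ R.J.d j (j + 1)).hom m = 0
    rw [← map_smul]
    have hz : ModuleCat.ofHom ι ≫ φ ≫ R.J.d j (j + 1) = 0 := by
      rw [← Category.assoc, hφ]
      exact z.2
    exact congrArg (fun g => g.hom ⟨a • m, Submodule.smul_mem_smul ha Submodule.mem_top⟩) hz⟩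
  refine ⟨max n k, le_max_left _ _, ?_⟩
  let inc : ↥(I ^ max n k • (⊤ : Submodule A M)) →ₗ[A] ↥(I ^ n • (⊤ : Submodule A M)) :=
    Submodule.inclusion (Submodule.smul_mono_left (Ideal.pow_le_pow_right (le_max_left n k)))
  let z' : R.Z ↥(I ^ max n k • (⊤ : Submodule A M)) j := ⟨(R.dmap inc).f j z.1, by
    show (R.D _).d j (j + 1) ((R.dmap inc).f j z.1) = 0
    rw [← ModuleCat.comp_apply, (R.dmap inc).comm, ModuleCat.comp_apply,
      show (R.D ↥(I ^ n • (⊤ : Submodule A M))).d j (j + 1) z.1 = 0 from z.2, map_zero]⟩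
  show pre ω j inc _ = 0
  rw [← toT_dmap R inc z z' rfl]
  refine toT_boundary R (show j - 1 + 1 = j by lia) z' ((R.dmap (ι.comp inc)).f (j - 1) w) ?_
  refine ModuleCat.hom_ext (LinearMap.ext fun m => ?_)
  have key : ∀ m₀ ∈ I ^ k • (⊤ : Submodule A M),
      (show ModuleCat.of A M ⟶ R.J.X j from w ≫ R.J.d (j - 1) j).hom m₀ = φ.hom m₀ := by
    intro m₀ hm
    refine Submodule.smul_induction_on hm (fun a ha y _ => ?_) fun y y' hy hy' => by rw [map_add, map_add, hy, hy']
    have h0 := congrArg (fun g : ModuleCat.of A M ⟶ R.J.X j => g.hom y) (hw a ha)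
    change a • (φ.hom y - (w ≫ R.J.d (j - 1) j).hom y) = 0 at h0
    rw [smul_sub, sub_eq_zero, ← map_smul, ← map_smul] at h0
    exact h0.symm
  have h1 := key (ι (inc m)) (Submodule.smul_mono_left (Ideal.pow_le_pow_right (le_max_right n k)) m.2)
  refine h1.trans ?_
  exact congrArg (fun g => g.hom (inc m)) hφ

end

end Groth.Agent.HTLib
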