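import Groth.Agent.HTLib.ULocal
import Groth.Agent.HTLib.UGlobal
import Groth.Agent.HTLib.CplDepth

/-!
Local-to-global bridge: at `q ∈ T` every class in `Hom_D(I^n M, ω[j])`, `j ≥ -δ(q) - s - 1`, dies on some
`I^k M` after localisation at `q`.
-/

set_option autoImplicit false
set_option maxHeartbeats 1000000
set_option linter.style.haveILetI false
set_option backward.isDefEq.respectTransparency false
universe u

namespace Groth.Agent.HTLib

open CategoryTheory Limits DerivedCategory DualCx IsLocalRing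
open scoped TensorProduct

attribute [local instance] HasDerivedCategory.standard

noncomputable section

theorem toNat_add_aux {x y z : ℤ} (h1 : y ≤ x) (h2 : z ≤ y) :
    (x - z).toNat = (x - y).toNat + (y - z).toNat := by omega

theorem cond_aux {D : ℕ∞} {k a b d s : ℕ} (hk : k = a + b)
    (h : (s : ℕ∞) ≤ D ∨ ((d + s : ℕ) : WithBot ℕ∞) < (D : WithBot ℕ∞) + ((k : ℕ) : WithBot ℕ∞)) :
    (s : ℕ∞) ≤ D + (a : ℕ∞) ∨
      (((d + s : ℕ) : ℕ∞) : WithBot ℕ∞) < ((D + (a : ℕ∞) : ℕ∞) : WithBot ℕ∞) + ((b : ℕ) : WithBot ℕ∞) := by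
  subst hk
  rcases h with h | h
  · exact Or.inl (h.trans le_self_add)
  · refine Or.inr (lt_of_lt_of_eq h ?_)
    push_cast
    rw [add_assoc]

variable {A : Type u} [CommRing A]

/-- the inclusion `I^k M → I^n M` -/
def resI (I : Ideal A) (M : Type u) [AddCommGroup M] [Module A M] {n k : ℕ} (h : n ≤ k) :
    ↥(I ^ k • (⊤ : Submodule A M)) →ₗ[A] ↥(I ^ n • (⊤ : Submodule A M)) :=
  Submodule.inclusion (Submodule.smul_mono_left (Ideal.pow_le_pow_right h))

theorem resI_comp (I : Ideal A) (M : Type u) [AddCommGroup M] [Module A M] {n k l : ℕ} (h : n ≤ k) (h' : k ≤ l) :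
    (resI I M h).comp (resI I M h') = resI I M (h.trans h') := rfl

variable [IsNoetherianRing A] {ω : Dual.D A}

theorem range_Ef_le (B : Type u) [CommRing B] [Algebra A B] [Module.Flat A B] (I : Ideal A) {M : Type u}
    [AddCommGroup M] [Module A M] (n : ℕ) (z : DualFlat.EM (A := A) B ↥(I ^ n • (⊤ : Submodule A M))) :
    DualFlat.Ef B (I ^ n • (⊤ : Submodule A M)).subtype z ∈
      (I.map (algebraMap A B)) ^ n • (⊤ : Submodule B (DualFlat.EM (A := A) B M)) := by
  obtain ⟨w, rfl⟩ := (DualFlat.tens (A := A) B ↥(I ^ n • (⊤ : Submodule A M))).symm.surjective z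
  induction w using TensorProduct.induction_on with
  | zero => rw [map_zero, map_zero]; exact zero_mem _
  | add v w hv hw => rw [map_add, map_add]; exact add_mem hv hw
  | tmul b x =>
    rw [show b ⊗ₜ[A] x = b • ((1 : B) ⊗ₜ[A] x) by rw [TensorProduct.smul_tmul', smul_eq_mul, mul_one],
      map_smul, map_smul, DualFlat.map_tens_one]
    refine Submodule.smul_mem _ _ ?_
    obtain ⟨x, hx⟩ := x
    show (DualFlat.tens (A := A) B M).symm ((1 : B) ⊗ₜ[A] x) ∈ _
    refine Submodule.smul_induction_on hx (fun a ha y _ => ?_) fun y y' hy hy' => ?_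
    · rw [TensorProduct.tmul_smul, ← algebraMap_smul B a, map_smul]
      refine Submodule.smul_mem_smul ?_ Submodule.mem_top
      rw [← Ideal.map_pow]
      exact Ideal.mem_map_of_mem _ ha
    · rw [TensorProduct.tmul_add, map_add]; exact add_mem hy hy'

theorem le_range_Ef (B : Type u) [CommRing B] [Algebra A B] [Module.Flat A B] (I : Ideal A) (M : Type u)
    [AddCommGroup M] [Module A M] (n : ℕ) :
    (I.map (algebraMap A B)) ^ n • (⊤ : Submodule B (DualFlat.EM (A := A) B M)) ≤
      LinearMap.range (DualFlat.Ef B (I ^ n • (⊤ : Submodule A M)).subtype) := by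
  refine Submodule.smul_le.2 fun c hc y hy => ?_
  clear hy
  rw [← Ideal.map_pow] at hc
  induction hc using Submodule.span_induction with
  | zero => rw [zero_smul]; exact zero_mem _
  | add v w _ _ hv hw => rw [add_smul]; exact add_mem hv hw
  | smul b v _ hv => rw [smul_assoc]; exact Submodule.smul_mem _ _ hv
  | mem c hc =>
    obtain ⟨a, ha, rfl⟩ := hc
    obtain ⟨w, rfl⟩ := (DualFlat.tens (A := A) B M).symm.surjective y
    induction w using TensorProduct.induction_on with
    | zero => rw [map_zero, smul_zero]; exact zero_mem _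
    | add v w hv hw => rw [map_add, smul_add]; exact add_mem hv hw
    | tmul b m =>
      refine ⟨b • (DualFlat.tens (A := A) B _).symm ((1 : B) ⊗ₜ[A]
        (⟨a • m, Submodule.smul_mem_smul ha Submodule.mem_top⟩ : ↥(I ^ n • (⊤ : Submodule A M)))), ?_⟩
      rw [map_smul, DualFlat.map_tens_one, ← map_smul, ← map_smul]
      refine congrArg _ ?_
      show b • ((1 : B) ⊗ₜ[A] (a • m)) = algebraMap A B a • (b ⊗ₜ[A] m)
      rw [TensorProduct.smul_tmul', smul_eq_mul, mul_one, algebraMap_smul, TensorProduct.tmul_smul]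

theorem injective_Ef (B : Type u) [CommRing B] [Algebra A B] [Module.Flat A B] {M : Type u} [AddCommGroup M]
    [Module A M] (N : Submodule A M) : Function.Injective (DualFlat.Ef B N.subtype) := by
  haveI : Mono (ModuleCat.ofHom N.subtype) := (ModuleCat.mono_iff_injective _).2 Subtype.val_injective
  exact (ModuleCat.mono_iff_injective _).1 (inferInstance : Mono ((DualFlat.E B).map (ModuleCat.ofHom N.subtype)))

theorem nontrivial_CB (I : Ideal A) (q : PrimeSpectrum A) (hIq : I ≤ q.asIdeal) : Nontrivial (CB I q) := by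
  by_contra hn
  haveI : Subsingleton (CB I q) := not_nontrivial_iff_subsingleton.1 hn
  have h := congrArg (AdicCompletion.evalₐ (I.map (algebraMap A (Localization.AtPrime q.asIdeal))) 1)
    (Subsingleton.elim (1 : CB I q) 0)
  rw [map_one, map_zero] at h
  rw [← map_one (Ideal.Quotient.mk _), Ideal.Quotient.eq_zero_iff_mem, pow_one] at h
  refine (maximalIdeal.isMaximal (Localization.AtPrime q.asIdeal)).ne_top ((Ideal.eq_top_iff_one _).2 ?_)
  rw [← Localization.AtPrime.map_eq_maximalIdeal]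
  exact Ideal.map_mono hIq h

theorem isLocalRing_CB (I : Ideal A) (q : PrimeSpectrum A) (hIq : I ≤ q.asIdeal) : IsLocalRing (CB I q) := by
  haveI := nontrivial_CB I q hIq
  obtain ⟨n, hn⟩ := Ideal.exists_maximal (CB I q)
  exact IsLocalRing.of_unique_max_ideal ⟨n, hn, fun n' hn' => maximal_CB_unique I q n' n hn' hn⟩

theorem isAdicComplete_CB (I : Ideal A) (q : PrimeSpectrum A) :
    IsAdicComplete (I.map (algebraMap A (CB I q))) (CB I q) := by
  haveI : IsNoetherianRing (Localization.AtPrime q.asIdeal) :=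
    IsLocalization.isNoetherianRing q.asIdeal.primeCompl _ inferInstance
  haveI : IsAdicComplete (I.map (algebraMap A (Localization.AtPrime q.asIdeal))) (CB I q) :=
    AdicCompletion.isAdicComplete (IsNoetherian.noetherian _)
  rw [IsScalarTower.algebraMap_eq A (Localization.AtPrime q.asIdeal) (CB I q), ← Ideal.map_map]
  exact (IsAdicComplete.map_algebraMap_iff _ _).2 inferInstance

omit [IsNoetherianRing A] in
theorem exists_smul_eq_zero_of_tmul_eq_zero (B : Type u) [CommRing B] [Algebra A B] [Module.Flat A B]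
    (p : PrimeSpectrum A) (P : PrimeSpectrum B) (hP : PrimeSpectrum.comap (algebraMap A B) P = p) {X : Type*}
    [AddCommGroup X] [Module A X] (x : X) (h : (1 : B) ⊗ₜ[A] x = 0) : ∃ t : A, t ∉ p.asIdeal ∧ t • x = 0 := by
  subst hP
  by_contra hx
  push Not at hx
  let f : A →ₗ[A] X := LinearMap.toSpanSingleton A _ x
  have h2 := Module.Flat.lTensor_exact B (f.exact_subtype_ker_map : Function.Exact (LinearMap.ker f).subtype f)
  obtain ⟨z, hz⟩ := (h2 ((1 : B) ⊗ₜ[A] (1 : A))).1 (by
    rw [LinearMap.lTensor_tmul, show f 1 = x from one_smul A x]; exact h)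
  have hmem : ∀ z : B ⊗[A] LinearMap.ker f,
      TensorProduct.rid A B ((LinearMap.ker f).subtype.lTensor B z) ∈ P.asIdeal := by
    intro z
    induction z using TensorProduct.induction_on with
    | zero => simp
    | add z w hz hw => rw [map_add, map_add]; exact add_mem hz hw
    | tmul c y =>
      rw [LinearMap.lTensor_tmul, TensorProduct.rid_tmul, Algebra.smul_def]
      refine P.asIdeal.mul_mem_right _ ?_
      show (y : A) ∈ P.asIdeal.comap (algebraMap A B)
      by_contra hy
      exact hx y hy y.2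
  have := hmem z
  rw [hz, TensorProduct.rid_tmul, one_smul] at this
  exact P.isPrime.ne_top ((Ideal.eq_top_iff_one _).2 this)

variable (hω : Dual.IsDualizing A ω) (I : Ideal A)

include hω in
/-- At `q ∈ T` every class in the range dies on some `I^k M` up to a multiplier outside `q`. -/
theorem exists_tors_res (M : Type u) [AddCommGroup M] [Module A M] [Module.Finite A M] {d : ℕ}
    (hcd : LocCoh.CdLE A I d) (T : Set (PrimeSpectrum A)) (hTI : T ⊆ PrimeSpectrum.zeroLocus (I : Set A)) (s : ℕ)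
    (h4 : ∀ p r q : PrimeSpectrum A, p ≤ r → r ≤ q → ¬ I ≤ p.asIdeal → I ≤ r.asIdeal → r ∉ T → q ∈ T →
      (s : ℕ∞) ≤ LocCoh.depth (Localization.AtPrime p.asIdeal) (LocalizedModule p.asIdeal.primeCompl M) ∨
      ((d + s : ℕ) : WithBot ℕ∞) < (LocCoh.depth (Localization.AtPrime p.asIdeal)
        (LocalizedModule p.asIdeal.primeCompl M) : WithBot ℕ∞) + Formal2.dimBetween A p.asIdeal q.asIdeal)
    (h6 : ∀ q : PrimeSpectrum A, q ∈ T → ∀ p' : PrimeSpectrum (CB I q),
      ¬ (I.map (algebraMap A (CB I q))) ≤ p'.asIdeal →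
      (∀ q' : PrimeSpectrum (CB I q), p' ≤ q' → (I.map (algebraMap A (CB I q))) ≤ q'.asIdeal → q'.asIdeal.IsMaximal) →
      (s : ℕ∞) < LocCoh.depth (Localization.AtPrime p'.asIdeal) (LocalizedModule p'.asIdeal.primeCompl
        (AdicCompletion (I.map (algebraMap A (Localization.AtPrime q.asIdeal))) (LocalizedModule q.asIdeal.primeCompl M))))
    (q : PrimeSpectrum A) (hq : q ∈ T) (j : ℤ) (hj : -del hω q - s - 1 ≤ j) (n : ℕ)
    (x : DualCx.T ω ↥(I ^ n • (⊤ : Submodule A M)) j) :
    ∃ (k : ℕ) (hk : n ≤ k) (t : A), t ∉ q.asIdeal ∧ t • pre ω j (resI I M hk) x = 0 := by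
  classical
  have hIq : I ≤ q.asIdeal := hTI hq
  haveI := flat_CB I q
  haveI := isNoetherianRing_CB I q
  haveI := isLocalRing_CB I q hIq
  haveI := finite_EM (A := A) (B := CB I q) M
  have hB := isDualizing_CB hω I q
  obtain ⟨gs, hgs⟩ := IsNoetherian.noetherian I
  let s' : Finset (CB I q) := gs.image (algebraMap A (CB I q))
  have hs' : Ideal.span (s' : Set (CB I q)) = I.map (algebraMap A (CB I q)) := by
    rw [Finset.coe_image, ← Ideal.map_span]
    exact congrArg (Ideal.map _) hgs
  haveI : IsAdicComplete (Ideal.span (s' : Set (CB I q))) (CB I q) := hs'.symm ▸ isAdicComplete_CB I q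
  let n₀ : PrimeSpectrum (CB I q) := closedPoint (CB I q)
  have hn₀ : n₀.asIdeal.IsMaximal := maximalIdeal.isMaximal _
  obtain ⟨hn1, hn2⟩ := maximal_CB I q n₀.asIdeal hn₀
  have hδn : del hB n₀ = del hω q :=
    del_eq_of_minimal hω _ q n₀ ⟨⟨n₀.isPrime, hn2.le⟩, fun Q hQ _ => hn2.ge.trans hQ.2⟩
  obtain ⟨e⟩ := nonempty_MB I q M
  obtain ⟨R⟩ := nonempty_rep hB
  have hv : UVan (I.map (algebraMap A (CB I q))) (R.D (DualFlat.EM (A := A) (CB I q) M)) j := by
    rw [← hs']
    refine local_uvan hB s' (hs'.symm ▸ cdLE_baseChange (CB I q) hcd) (DualFlat.EM (A := A) (CB I q) M) s ?_ ?_ R j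
      (by rw [show closedPoint (CB I q) = n₀ from rfl, hδn]; exact hj)
    · intro p' hp' _
      rw [hs'] at hp'
      obtain ⟨p, hp⟩ : ∃ p, PrimeSpectrum.comap (algebraMap A (CB I q)) p' = p := ⟨_, rfl⟩
      have hpq := le_of_comap I q hp
      have hIp : ¬ I ≤ p.asIdeal := fun hle => hp' (Ideal.map_le_iff_le_comap.2 (by rw [← hp] at hle; exact hle))
      have hp'n : p' ≤ n₀ := IsLocalRing.le_maximalIdeal p'.isPrime.ne_top
      rw [depth_EM hω hB M p' p hp]
      have hdim : ringKrullDim (CB I q ⧸ p'.asIdeal) =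
          (((del hB p' - del hω q).toNat : ℕ) : WithBot ℕ∞) := by
        rw [ringKrullDim_quotient, ← hδn, ← krullDim_Icc hB hp'n]
        refine Order.krullDim_eq_of_orderIso (OrderIso.setCongr _ _ ?_)
        ext r
        exact ⟨fun hr => ⟨hr, IsLocalRing.le_maximalIdeal r.isPrime.ne_top⟩, fun hr => hr.1⟩
      rw [hdim]
      by_cases hr : ∃ r : PrimeSpectrum A, p ≤ r ∧ r ≤ q ∧ I ≤ r.asIdeal ∧ r ∉ T
      · obtain ⟨r, hpr, hrq, hIr, hrT⟩ := hr
        have h := h4 p r q hpr hrq hIp hIr hrT hq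
        rw [dimBetween_eq hω hpq] at h
        refine cond_aux (toNat_add_aux ?_ (hδn ▸ del_le hB hp'n)) h
        exact hp ▸ del_le_comap hω hB p'
      · push Not at hr
        exact Or.inl (((depth_gt_of_completions hω I M s T h6 p q hpq hIp hIq hr).le).trans le_self_add)
    · intro p' hp' hno
      rw [hs'] at hp' hno
      refine lt_of_lt_of_eq (h6 q hq p' hp' fun q' hq' hIq' => ?_) ?_
      · by_contra hmax
        exact hno ⟨q', hq', hIq', fun h => hmax (h ▸ hn₀)⟩
      · exact LocH.idealDepth_congr ((IsLocalizedModule.linearEquiv p'.asIdeal.primeCompl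
          (LocalizedModule.mkLinearMap p'.asIdeal.primeCompl _)
          ((LocalizedModule.mkLinearMap p'.asIdeal.primeCompl (DualFlat.EM (A := A) (CB I q) M)).comp
            e.toLinearMap)).extendScalarsOfIsLocalization p'.asIdeal.primeCompl _) _
  -- move the class to `B`
  let y := DualFlat.tMap (CB I q) ω _ j x
  let ιn := DualFlat.Ef (CB I q) (I ^ n • (⊤ : Submodule A M)).subtype
  let en := LinearEquiv.ofInjective ιn (injective_Ef (CB I q) _)
  let hn : ↥((I.map (algebraMap A (CB I q))) ^ n • (⊤ : Submodule (CB I q) (DualFlat.EM (A := A) (CB I q) M))) →ₗ[CB I q]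
      DualFlat.EM (A := A) (CB I q) ↥(I ^ n • (⊤ : Submodule A M)) :=
    en.symm.toLinearMap.comp (Submodule.inclusion (le_range_Ef (CB I q) I M n))
  obtain ⟨k, hk, hkz⟩ := exists_res_eq_zero R (I.map (algebraMap A (CB I q))) hv n (pre (DualFlat.KB (CB I q) ω) j hn y)
  refine ⟨k, hk, ?_⟩
  let g := LinearMap.codRestrict _ (DualFlat.Ef (CB I q) (I ^ k • (⊤ : Submodule A M)).subtype)
    (range_Ef_le (CB I q) I (M := M) k)
  have hfac : hn.comp ((Submodule.inclusion (Submodule.smul_mono_left (Ideal.pow_le_pow_right hk))).comp g) =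
      DualFlat.Ef (CB I q) (resI I M hk) := by
    refine LinearMap.ext fun z => injective_Ef (CB I q) _ ?_
    show ιn (en.symm _) = _
    rw [LinearEquiv.ofInjective_symm_apply]
    show DualFlat.Ef (CB I q) (I ^ k • (⊤ : Submodule A M)).subtype z = _
    rw [← LinearMap.comp_apply (DualFlat.Ef (CB I q) (I ^ n • (⊤ : Submodule A M)).subtype), DualFlat.Ef,
      DualFlat.Ef, DualFlat.Ef, ← ModuleCat.hom_comp, ← Functor.map_comp]
    rfl
  have h0 : DualFlat.tMap (CB I q) ω _ j (pre ω j (resI I M hk) x) = 0 := by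
    rw [DualFlat.tMap_pre, ← hfac, pre_comp, pre_comp, hkz, map_zero]
  obtain ⟨a, b, hab⟩ := bounded_of_dualizing hω
  have h1 : (1 : CB I q) ⊗ₜ[A] pre ω j (resI I M hk) x = 0 :=
    (DualFlat.bT_bijective (CB I q) ω (fun i hi => hab i (Or.inl hi)) _ j).1
      (by rw [DualFlat.bT_one, h0, map_zero])
  exact exists_smul_eq_zero_of_tmul_eq_zero (CB I q) q n₀ (PrimeSpectrum.ext hn1) _ h1

end

end Groth.Agent.HTLib
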