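import Groth.Agent.RGammaI.Acyclic
import Mathlib

/-!
Vanishing of the cohomology of `C / Γ_I C` for complexes `C` computing `RΓ_I`.
-/

set_option autoImplicit false
set_option maxHeartbeats 1000000
set_option linter.style.haveILetI false
set_option backward.isDefEq.respectTransparency false
set_option backward.isDefEq.respectTransparency.types false
universe u

namespace Groth.Agent.HTLib

open CategoryTheory Limits HomologicalComplex CochainComplex

attribute [local instance] HasDerivedCategory.standard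

noncomputable section

variable {A : Type u} [CommRing A] (I : Ideal A)

/-- `H^j(C / Γ_I C) = 0`. -/
def UVan (C : DRing.Cx A) (j : ℤ) : Prop :=
  ∀ i k : ℤ, i + 1 = j → j + 1 = k → ∀ x : C.X j, C.d j k x ∈ DRing.torsionSub I (C.X k) →
    ∃ w : C.X i, x - C.d i j w ∈ DRing.torsionSub I (C.X j)

variable {I} {C₁ C₂ : DRing.Cx A} (f : C₁ ⟶ C₂)

/-- `(y, x)` in the cone -/
def cel (i k : ℤ) (h : i + 1 = k) (y : C₁.X k) (x : C₂.X i) : (mappingCone f).X i :=
  (mappingCone.inl f).v k i (by lia) y + (mappingCone.inr f).f i x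

theorem cel_fst (i k : ℤ) (h : i + 1 = k) (y : C₁.X k) (x : C₂.X i) :
    (mappingCone.fst f).1.v i k h (cel f i k h y x) = y := by
  rw [cel, map_add, ← ModuleCat.comp_apply, ← ModuleCat.comp_apply]
  erw [mappingCone.inl_v_fst_v f k i h, mappingCone.inr_f_fst_v f i k h]
  simp

theorem cel_snd (i k : ℤ) (h : i + 1 = k) (y : C₁.X k) (x : C₂.X i) :
    (mappingCone.snd f).v i i (add_zero i) (cel f i k h y x) = x := by
  rw [cel, map_add, ← ModuleCat.comp_apply, ← ModuleCat.comp_apply]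
  erw [mappingCone.inl_v_snd_v f k i (by lia), mappingCone.inr_f_snd_v f i]
  simp

theorem fst_d (i j k : ℤ) (hij : i + 1 = j) (hjk : j + 1 = k) (c : (mappingCone f).X i) :
    (mappingCone.fst f).1.v j k hjk ((mappingCone f).d i j c) =
      - C₁.d j k ((mappingCone.fst f).1.v i j hij c) := by
  have h := congrArg (fun φ => φ.hom c) (mappingCone.d_fst_v f i j k hij hjk)
  simpa using h

theorem snd_d (i j : ℤ) (hij : i + 1 = j) (c : (mappingCone f).X i) :
    (mappingCone.snd f).v j j (add_zero _) ((mappingCone f).d i j c) =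
      f.f j ((mappingCone.fst f).1.v i j hij c) + C₂.d i j ((mappingCone.snd f).v i i (add_zero i) c) := by
  have h := congrArg (fun φ => φ.hom c) (mappingCone.d_snd_v f i j hij)
  simpa using h

theorem mem_cone_iff (i k : ℤ) (h : i + 1 = k) (c : (mappingCone f).X i) :
    c ∈ DRing.torsionSub I ((mappingCone f).X i) ↔
      (mappingCone.fst f).1.v i k h c ∈ DRing.torsionSub I (C₁.X k) ∧
      (mappingCone.snd f).v i i (add_zero i) c ∈ DRing.torsionSub I (C₂.X i) := by
  refine ⟨fun hc => ⟨DRing.map_mem_torsionSub I _ hc, DRing.map_mem_torsionSub I _ hc⟩, fun hc => ?_⟩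
  have hid := congrArg (fun φ => φ.hom c) (mappingCone.id_X f i k h)
  simp only [ModuleCat.hom_add, LinearMap.add_apply, ModuleCat.hom_comp, LinearMap.comp_apply,
    ModuleCat.hom_id, LinearMap.id_apply] at hid
  rw [← hid]
  exact add_mem (DRing.map_mem_torsionSub I _ hc.1) (DRing.map_mem_torsionSub I _ hc.2)

theorem d_mem_iff (i k l : ℤ) (hik : i + 1 = k) (hkl : k + 1 = l) (c : (mappingCone f).X i) :
    (mappingCone f).d i k c ∈ DRing.torsionSub I ((mappingCone f).X k) ↔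
      C₁.d k l ((mappingCone.fst f).1.v i k hik c) ∈ DRing.torsionSub I (C₁.X l) ∧
      f.f k ((mappingCone.fst f).1.v i k hik c) + C₂.d i k ((mappingCone.snd f).v i i (add_zero i) c) ∈
        DRing.torsionSub I (C₂.X k) := by
  rw [mem_cone_iff f k l hkl, fst_d f i k l hik hkl, snd_d f i k hik, neg_mem_iff]

/-- the target from the source and the cone -/
theorem uvan_tgt {j : ℤ} (h₁ : UVan I C₁ j) (hc : UVan I (mappingCone f) j) : UVan I C₂ j := by
  intro i k hi hk x hx
  obtain ⟨w, hw⟩ := hc i k hi hk (cel f j k hk 0 x) ((d_mem_iff f j k (k + 1) hk rfl _).2 ⟨by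
    rw [cel_fst, map_zero]
    exact zero_mem _, by
    rw [cel_fst, cel_snd, map_zero, zero_add]
    exact hx⟩)
  obtain ⟨hw₁, hw₂⟩ := (mem_cone_iff f j k hk _).1 hw
  rw [map_sub, fst_d f i j k hi hk, cel_fst, zero_sub, neg_neg] at hw₁
  rw [map_sub, snd_d f i j hi, cel_snd] at hw₂
  obtain ⟨v, hv⟩ := h₁ i k hi hk ((mappingCone.fst f).1.v i j hi w) hw₁
  refine ⟨(mappingCone.snd f).v i i (add_zero _) w + f.f i v, ?_⟩
  have h3 := add_mem hw₂ (DRing.map_mem_torsionSub I (f.f j).hom hv)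
  have hcomm : f.f j (C₁.d i j v) = C₂.d i j (f.f i v) :=
    (congrArg (fun φ => φ.hom v) (f.comm i j)).symm
  rw [map_sub, hcomm] at h3
  rw [map_add]
  convert h3 using 1
  abel

/-- the source from the target and the cone -/
theorem uvan_src {j : ℤ} (h₂ : UVan I C₂ j) (hc : UVan I (mappingCone f) (j - 1)) : UVan I C₁ j := by
  intro i k hi hk y hy
  obtain rfl : i = j - 1 := by lia
  have hcomm : C₂.d j k (f.f j y) = f.f k (C₁.d j k y) :=
    congrArg (fun φ => φ.hom y) (f.comm j k)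
  obtain ⟨w, hw⟩ := h₂ (j - 1) k hi hk (f.f j y) (hcomm ▸ DRing.map_mem_torsionSub I (f.f k).hom hy)
  obtain ⟨v, hv⟩ := hc (j - 1 - 1) j (by lia) hi (cel f (j - 1) j hi y (-w)) ((d_mem_iff f (j - 1) j k hi hk _).2 ⟨by
    rw [cel_fst]; exact hy, by
    rw [cel_fst, cel_snd, map_neg, ← sub_eq_add_neg]
    exact hw⟩)
  obtain ⟨hv₁, -⟩ := (mem_cone_iff f (j - 1) j hi _).1 hv
  rw [map_sub, fst_d f (j - 1 - 1) (j - 1) j (by lia) hi, cel_fst, sub_neg_eq_add] at hv₁
  refine ⟨-(mappingCone.fst f).1.v (j - 1 - 1) (j - 1) (by lia) v, ?_⟩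
  rwa [map_neg, sub_neg_eq_add]

/-- the cone from source and target -/
theorem uvan_cone {j : ℤ} (h₁ : UVan I C₁ (j + 1)) (h₂ : UVan I C₂ j) : UVan I (mappingCone f) j := by
  intro i k hi hk c hc
  obtain rfl : k = j + 1 := hk.symm
  obtain ⟨hc₁, hc₂⟩ := (d_mem_iff f j (j + 1) (j + 1 + 1) rfl rfl _).1 hc
  obtain ⟨v, hv⟩ := h₁ j (j + 1 + 1) rfl rfl _ hc₁
  have hcomm : f.f (j + 1) (C₁.d j (j + 1) v) = C₂.d j (j + 1) (f.f j v) :=
    (congrArg (fun φ => φ.hom v) (f.comm j (j + 1))).symm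
  obtain ⟨w, hw⟩ := h₂ i (j + 1) hi rfl ((mappingCone.snd f).v j j (add_zero j) c + f.f j v) (by
    rw [map_add, ← hcomm]
    have := sub_mem hc₂ (DRing.map_mem_torsionSub I (f.f (j + 1)).hom hv)
    rw [map_sub] at this
    convert this using 1
    abel)
  refine ⟨cel f i j hi (-v) w, (mem_cone_iff f j (j + 1) rfl _).2 ⟨?_, ?_⟩⟩
  · rw [map_sub, fst_d f i j (j + 1) hi rfl, cel_fst, map_neg, neg_neg]
    exact hv
  · rw [map_sub, snd_d f i j hi, cel_fst, cel_snd, map_neg]
    convert hw using 1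
    abel

theorem exists_boundary {C : DRing.Cx A} (hC : C.Acyclic) {i j k : ℤ} (hi : i + 1 = j) (hk : j + 1 = k) (x : C.X j)
    (hx : C.d j k x = 0) : ∃ w : C.X i, C.d i j w = x := by
  obtain rfl : i = j - 1 := by lia
  obtain rfl : k = j + 1 := hk.symm
  obtain ⟨c, hc⟩ := FlatCx.exists_cycles C (k := j + 1) (by simp) x hx
  have h0 : C.homologyπ j c = 0 := (ModuleCat.subsingleton_of_isZero (hC j).isZero_homology).elim _ _
  obtain ⟨w, hw⟩ := (FlatCx.homologyπ_eq_zero_iff C (i := j - 1) (by simp) c).1 h0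
  exact ⟨w, by rw [hw, hc]⟩

/-- exact complexes -/
theorem uvan_of_acyclic {C : DRing.Cx A} (hg : RGammaI.Good I C) (hC : C.Acyclic) (j : ℤ) : UVan I C j := by
  intro i k hi hk x hx
  obtain rfl : j = k - 1 := by lia
  obtain ⟨y', hy', hy⟩ := hg.1 k _ hx x rfl
  obtain ⟨w, hw⟩ := exists_boundary hC hi hk (x - y') (by rw [map_sub, hy, sub_self])
  exact ⟨w, by rw [hw, sub_sub_cancel]; exact hy'⟩

theorem uvan_iff_of_cone {j : ℤ} (hc : ∀ i, UVan I (mappingCone f) i) : UVan I C₁ j ↔ UVan I C₂ j :=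
  ⟨fun h => uvan_tgt f h (hc j), fun h => uvan_src f h (hc (j - 1))⟩

theorem good_of_acyclic {s : Finset A} {C : DRing.Cx A} (hs : RGammaI.AC s C) (hC : C.Acyclic) :
    RGammaI.Good (Ideal.span (s : Set A)) C :=
  hs.good fun a _ k x hx => by
    obtain ⟨w, hw⟩ := exists_boundary hC (i := k - 1) (by lia) rfl x hx
    exact ⟨0, w, by rw [hw, pow_zero, one_smul]⟩

theorem uvan_iff_of_ac {s : Finset A} (h₁ : RGammaI.AC s C₁) (h₂ : RGammaI.AC s C₂) [QuasiIso f] {j : ℤ} :
    UVan (Ideal.span (s : Set A)) C₁ j ↔ UVan (Ideal.span (s : Set A)) C₂ j := by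
  have hC : (mappingCone f).Acyclic := (DerPlus.quasiIso_iff_acyclic_mappingCone f).1 inferInstance
  exact uvan_iff_of_cone f fun i => uvan_of_acyclic (good_of_acyclic (h₁.cone h₂ f) hC) hC i

theorem uvan_iff_of_quasiIso [IsNoetherianRing A] (h₁ : RGammaI.TI C₁) (h₂ : RGammaI.TI C₂) [QuasiIso f] {j : ℤ} :
    UVan I C₁ j ↔ UVan I C₂ j := by
  obtain ⟨s, hs⟩ := IsNoetherian.noetherian I
  subst hs
  exact uvan_iff_of_ac f (RGammaI.ac_of_ti s h₁) (RGammaI.ac_of_ti s h₂)

end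

end Groth.Agent.HTLib
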