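import Groth.Agent.HTLib.UCx
import Groth.Agent.HTLib.CompBoot
import Groth.Agent.KInj.Ops
import Groth.Agent.CechX.LocCoh

/-!
Devissage for the vanishing of `H^j(U, K)`.
-/

set_option autoImplicit false
set_option maxHeartbeats 1000000
set_option linter.style.haveILetI false
set_option backward.isDefEq.respectTransparency false
set_option backward.isDefEq.respectTransparency.types false
universe u

namespace Groth.Agent.HTLib

open CategoryTheory Limits Pretriangulated HomologicalComplex CochainComplex DerivedCategory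

attribute [local instance] HasDerivedCategory.standard

noncomputable section

variable {A : Type u} [CommRing A] [IsNoetherianRing A] (s : Finset A)

/-- `H^j(U, K) = 0` for `U` the complement of `V(s)`. -/
def UD (K : Dual.D A) (j : ℤ) : Prop :=
  ∀ C : DRing.Cx A, C.IsKInjective → RGammaI.TI C → Nonempty (DerivedCategory.Q.obj C ≅ K) →
    UVan (Ideal.span (s : Set A)) C j

theorem exists_rep_Q (K : Dual.D A) :
    ∃ C : DRing.Cx A, C.IsKInjective ∧ RGammaI.TI C ∧ Nonempty (DerivedCategory.Q.obj C ≅ K) := by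
  obtain ⟨J, u, h1, h2, h3⟩ := RGammaI.exists_kinj (DerivedCategory.Q.objPreimage K)
  exact ⟨J, h1, h3, ⟨(asIso (DerivedCategory.Q.map u)).symm ≪≫ DerivedCategory.Q.objObjPreimageIso K⟩⟩

/-- lift an isomorphism in `D(A)` -/
theorem exists_quasiIso {C J : DRing.Cx A} [J.IsKInjective]
    (e : DerivedCategory.Q.obj C ≅ DerivedCategory.Q.obj J) : ∃ f : C ⟶ J, QuasiIso f := by
  obtain ⟨f, hf⟩ := KInj.Q_map_surjective e.hom
  exact ⟨f, (DerivedCategory.isIso_Q_map_iff_quasiIso _ f).1 (by rw [hf]; infer_instance)⟩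

variable {s} {K L : Dual.D A} {j : ℤ}

theorem UD.apply (h : UD s K j) {C : DRing.Cx A} (hC : RGammaI.AC s C)
    (e : DerivedCategory.Q.obj C ≅ K) : UVan (Ideal.span (s : Set A)) C j := by
  obtain ⟨J, u, h1, h2, h3⟩ := RGammaI.exists_kinj C
  exact (uvan_iff_of_ac u hC (RGammaI.ac_of_ti s h3)).2 (h J h1 h3 ⟨(asIso (DerivedCategory.Q.map u)).symm ≪≫ e⟩)

theorem ud_of_rep {C : DRing.Cx A} (hC : RGammaI.TI C) (e : DerivedCategory.Q.obj C ≅ K)
    (h : UVan (Ideal.span (s : Set A)) C j) : UD s K j := fun J hJ hJ' ⟨e'⟩ => by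
  haveI := hJ
  obtain ⟨f, hf⟩ := exists_quasiIso (C := C) (J := J) (e ≪≫ e'.symm)
  exact (uvan_iff_of_quasiIso f hC hJ').1 h

theorem ud_of_iso (e : K ≅ L) (h : UD s K j) : UD s L j := fun C hC hC' ⟨e'⟩ => h C hC hC' ⟨e' ≪≫ e.symm⟩

theorem ud_of_isZero (hK : IsZero K) (j : ℤ) : UD s K j := fun C _ hC ⟨e⟩ => by
  haveI : QuasiIso (0 : C ⟶ C) := (DerivedCategory.isIso_Q_map_iff_quasiIso _ _).1
    ((hK.of_iso e).isIso (hK.of_iso e) _)
  refine uvan_of_acyclic (good_of_acyclic (RGammaI.ac_of_ti s hC) ?_) ?_ j <;>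
    exact fun i => (exactAt_iff_isZero_homology _ _).2
      (((DerivedCategory.homologyFunctor (ModuleCat.{u} A) i).map_isZero (hK.of_iso e)).of_iso
        ((DerivedCategory.homologyFunctorFactors (ModuleCat.{u} A) i).app C).symm)

/-- middle term of a triangle -/
theorem ud_middle {X L B : Dual.D A} {u : X ⟶ L} {g : L ⟶ B} {δ : B ⟶ X⟦(1 : ℤ)⟧}
    (hT : Triangle.mk u g δ ∈ distTriang (Dual.D A)) (hX : UD s X j) (hB : UD s B j) : UD s L j := by
  obtain ⟨J₁, h₁, h₁', ⟨e₁⟩⟩ := exists_rep_Q X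
  intro J₂ h₂ h₂' he
  obtain ⟨e₂⟩ := he
  obtain ⟨f, hf⟩ := KInj.Q_map_surjective (I := J₂) (e₁.hom ≫ u ≫ e₂.inv)
  let e := isoTriangleOfIso₁₂ _ _ (DerivedCategory.mappingCone_triangle_distinguished f) hT e₁ e₂ (by
    show DerivedCategory.Q.map f ≫ e₂.hom = e₁.hom ≫ u
    rw [hf]; simp)
  exact uvan_tgt f (hX J₁ h₁ h₁' ⟨e₁⟩)
    (hB.apply ((RGammaI.ac_of_ti s h₁').cone (RGammaI.ac_of_ti s h₂') f) (Triangle.π₃.mapIso e))

/-- third term of a triangle -/
theorem ud_third {X L B : Dual.D A} {u : X ⟶ L} {g : L ⟶ B} {δ : B ⟶ X⟦(1 : ℤ)⟧}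
    (hT : Triangle.mk u g δ ∈ distTriang (Dual.D A)) (hX : UD s X (j + 1)) (hL : UD s L j) : UD s B j := by
  obtain ⟨J₁, h₁, h₁', ⟨e₁⟩⟩ := exists_rep_Q X
  obtain ⟨J₂, h₂, h₂', ⟨e₂⟩⟩ := exists_rep_Q L
  haveI := h₂
  obtain ⟨f, hf⟩ := KInj.Q_map_surjective (I := J₂) (e₁.hom ≫ u ≫ e₂.inv)
  let e := isoTriangleOfIso₁₂ _ _ (DerivedCategory.mappingCone_triangle_distinguished f) hT e₁ e₂ (by
    show DerivedCategory.Q.map f ≫ e₂.hom = e₁.hom ≫ u
    rw [hf]; simp)
  obtain ⟨J₃, v, h₃, hv, h₃'⟩ := RGammaI.exists_kinj (mappingCone f)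
  refine ud_of_rep h₃' ((asIso (DerivedCategory.Q.map v)).symm ≪≫ Triangle.π₃.mapIso e) ?_
  exact (uvan_iff_of_ac v ((RGammaI.ac_of_ti s h₁').cone (RGammaI.ac_of_ti s h₂') f) (RGammaI.ac_of_ti s h₃')).1
    (uvan_cone f (hX J₁ h₁ h₁' ⟨e₁⟩) (hL J₂ h₂ h₂' ⟨e₂⟩))

theorem ud_shift (n : ℤ) (h : UD s K (j + n)) : UD s (K⟦n⟧) j := by
  obtain ⟨C, hC, hC', ⟨e⟩⟩ := exists_rep_Q K
  refine ud_of_rep (C := C⟦n⟧) (fun i => hC' (i + n))
    ((DerivedCategory.Q.commShiftIso n).app C ≪≫ (CategoryTheory.shiftFunctor (Dual.D A) n).mapIso e) ?_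
  intro i k hi hk x hx
  have hx' : C.d (j + n) (k + n) x ∈ DRing.torsionSub (Ideal.span (s : Set A)) (C.X (k + n)) := by
    rw [CochainComplex.shiftFunctor_obj_d'] at hx
    rcases Int.units_eq_one_or n.negOnePow with h' | h' <;> rw [h'] at hx
    · simpa using hx
    · simpa using hx
  obtain ⟨w, hw⟩ := h C hC hC' ⟨e⟩ (i + n) (k + n) (by lia) (by lia) x hx'
  rcases Int.units_eq_one_or n.negOnePow with h' | h'
  · refine ⟨w, ?_⟩
    rw [CochainComplex.shiftFunctor_obj_d', h', one_smul]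
    exact hw
  · refine ⟨-w, ?_⟩
    rw [CochainComplex.shiftFunctor_obj_d', h', map_neg]
    simpa using hw

/-- a module placed in degree zero -/
theorem ud_inD (N : Type u) [AddCommGroup N] [Module A N] (a : ℤ)
    (h : a < 0 ∨ LocCoh.IsPowerTorsion (Ideal.span (s : Set A)) N ∨
      (0 < a ∧ Subsingleton (LocCoh.H (Ideal.span (s : Set A)) (a + 1).toNat N))) :
    UD s (Dual.inD A N) a := by
  obtain ⟨res⟩ : Nonempty (InjectiveResolution (ModuleCat.of A N)) := HasInjectiveResolution.out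
  have hTI : RGammaI.TI res.cochainComplex := fun p => inferInstanceAs (Injective (res.cochainComplex.X p))
  haveI : QuasiIso res.ι' := inferInstance
  refine ud_of_rep hTI (asIso (DerivedCategory.Q.map res.ι')).symm ?_
  intro i k hi hk x hx
  rcases h with h | h | ⟨ha, h⟩
  · refine ⟨0, ?_⟩
    rw [(ModuleCat.subsingleton_of_isZero
      (CochainComplex.isZero_of_isStrictlyGE res.cochainComplex 0 a h)).elim x 0, map_zero, sub_zero]
    exact zero_mem _
  · have hg : RGammaI.Good (Ideal.span (s : Set A)) res.cochainComplex := by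
      refine RGammaI.good_of_kills hTI fun c hc => RGammaI.kills_of_torsion (fun q => ?_) hc
      have e : res.cochainComplex.homology q ≅
          ((CochainComplex.singleFunctor (ModuleCat.{u} A) 0).obj (ModuleCat.of A N)).homology q :=
        (asIso (HomologicalComplex.homologyMap res.ι' q)).symm
      intro m
      by_cases hq : q = 0
      · subst hq
        let e' := e ≪≫ (HomologicalComplex.singleObjHomologySelfIso (ComplexShape.up ℤ) 0 (ModuleCat.of A N))
        obtain ⟨n, hn⟩ := h (e'.hom m)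
        refine ⟨n, fun b hb => e'.toLinearEquiv.injective ?_⟩
        rw [map_smul, map_zero]
        exact hn b hb
      · refine ⟨0, fun b _ => ?_⟩
        haveI := ModuleCat.subsingleton_of_isZero
          ((HomologicalComplex.isZero_single_obj_homology (ComplexShape.up ℤ) 0 (ModuleCat.of A N) q hq).of_iso e)
        exact Subsingleton.elim _ _
    obtain rfl : a = k - 1 := by lia
    obtain ⟨y', hy', hy⟩ := hg.1 k _ hx x rfl
    obtain rfl : i = k - 1 - 1 := by lia
    have hz : res.cochainComplex.d (k - 1) (k - 1 + 1) (x - y') = 0 := by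
      generalize hl : k - 1 + 1 = l
      obtain rfl : l = k := by lia
      rw [map_sub, hy, sub_self]
    obtain ⟨w, hw⟩ := hg.2 (k - 1) (x - y') hz
    refine ⟨w, ?_⟩
    have := add_mem hw hy'
    convert this using 1
    abel
  · obtain rfl : a = k - 1 := by lia
    obtain ⟨n, hn⟩ := Int.eq_ofNat_of_zero_le (show 0 ≤ k by lia)
    subst hn
    obtain ⟨e⟩ := CechX.nonempty_homology_gam_equiv res (Ideal.span (s : Set A)) n
    haveI : Subsingleton (LocCoh.H (Ideal.span (s : Set A)) n N) := by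
      rwa [show ((n : ℤ) - 1 + 1).toNat = n by lia] at h
    haveI : Subsingleton ((RGammaI.gc (Ideal.span (s : Set A)) res.cochainComplex).homology (n : ℤ)) :=
      e.toEquiv.subsingleton
    let y : (RGammaI.gc (Ideal.span (s : Set A)) res.cochainComplex).X (n : ℤ) := ⟨res.cochainComplex.d ((n : ℤ) - 1) n x, hx⟩
    have hy : (RGammaI.gc (Ideal.span (s : Set A)) res.cochainComplex).d (n : ℤ) ((n : ℤ) + 1) y = 0 :=
      Subtype.ext (RGammaI.dd_apply res.cochainComplex ((n : ℤ) - 1) n (n + 1) x)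
    obtain ⟨c, hc⟩ := FlatCx.exists_cycles _ (k := (n : ℤ) + 1) (by simp) y hy
    obtain ⟨y', hy'⟩ := (FlatCx.homologyπ_eq_zero_iff _ (i := (n : ℤ) - 1) (by simp) c).1
      (Subsingleton.elim _ _)
    rw [hc] at hy'
    have hy'' : res.cochainComplex.d ((n : ℤ) - 1) n y'.1 = res.cochainComplex.d ((n : ℤ) - 1) n x :=
      congrArg Subtype.val hy'
    have hz : res.cochainComplex.d ((n : ℤ) - 1) n (x - y'.1) = 0 := by rw [map_sub, hy'', sub_self]
    obtain ⟨c', hc'⟩ := FlatCx.exists_cycles _ (k := (n : ℤ)) (by simp) (x - y'.1) hz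
    haveI : Subsingleton (res.cochainComplex.homology ((n : ℤ) - 1)) :=
      ModuleCat.subsingleton_of_isZero
        ((HomologicalComplex.isZero_single_obj_homology (ComplexShape.up ℤ) 0 (ModuleCat.of A N) ((n : ℤ) - 1)
          (by lia)).of_iso (asIso (HomologicalComplex.homologyMap res.ι' ((n : ℤ) - 1))).symm)
    obtain ⟨w, hw⟩ := (FlatCx.homologyπ_eq_zero_iff _ (i := i) (by simp; lia) c').1 (Subsingleton.elim _ _)
    refine ⟨w, ?_⟩
    rw [hw, hc', sub_sub_cancel]
    exact y'.2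

end

end Groth.Agent.HTLib
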