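import Groth.Agent.HTLib.UDevT

/-!
Stable images in `H^i_T` of a system of modules.
-/

set_option autoImplicit false
set_option maxHeartbeats 1000000
set_option linter.style.haveILetI false
set_option backward.isDefEq.respectTransparency false
set_option backward.isDefEq.respectTransparency.types false

namespace Groth.Agent.HTLib

universe u

open CategoryTheory CategoryTheory.Limits Groth.Agent.LocH

variable {R : Type u} [CommRing R] [IsNoetherianRing R]

theorem map_localizedIso (S : Submonoid R) {X Y : Type u} [AddCommGroup X] [Module R X] [AddCommGroup Y] [Module R Y]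
    (f : X →ₗ[R] Y) :
    (locFunctor S).map (ModuleCat.ofHom f) ≫ (localizedIso S Y).hom =
      (localizedIso S X).hom ≫ ModuleCat.ofHom (LocalizedModule.map S f) := by
  refine ModuleCat.hom_ext (LinearMap.ext fun w => ?_)
  haveI := ModuleCat.localizedModule_isLocalizedModule (ModuleCat.of R X) S
  haveI := ModuleCat.localizedModule_isLocalizedModule (ModuleCat.of R Y) S
  obtain ⟨⟨y, s⟩, hs⟩ := IsLocalizedModule.surj S (ModuleCat.localizedModuleMkLinearMap (ModuleCat.of R X) S) w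
  rw [Submonoid.smul_def, ← algebraMap_smul (Localization S)] at hs
  refine (IsLocalization.map_units (Localization S) s).smul_left_cancel.1 ?_
  erw [← map_smul, ← map_smul, hs]
  show (Shrink.linearEquiv (Localization S) (LocalizedModule S Y)) _ =
    LocalizedModule.map S f ((Shrink.linearEquiv (Localization S) (LocalizedModule S X)) _)
  refine (congrArg (Shrink.linearEquiv (Localization S) (LocalizedModule S Y))
    (IsLocalizedModule.map_apply S (ModuleCat.localizedModuleMkLinearMap (ModuleCat.of R X) S)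
      (ModuleCat.localizedModuleMkLinearMap (ModuleCat.of R Y) S) f y)).trans ?_
  show (equivShrink (LocalizedModule S Y)).symm (equivShrink (LocalizedModule S Y) (LocalizedModule.mk (f y) 1)) =
    LocalizedModule.map S f ((equivShrink (LocalizedModule S X)).symm (equivShrink (LocalizedModule S X) (LocalizedModule.mk y 1)))
  rw [Equiv.symm_apply_apply, Equiv.symm_apply_apply, LocalizedModule.map_mk]

/-- Composition of maps of resolutions. -/
noncomputable def homComp {M N P : ModuleCat.{u} R} {f : M ⟶ N} {g : N ⟶ P} {J : InjectiveResolution M}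
    {J' : InjectiveResolution N} {J'' : InjectiveResolution P} (φ : InjectiveResolution.Hom J J' f)
    (ψ : InjectiveResolution.Hom J' J'' g) : InjectiveResolution.Hom J J'' (f ≫ g) where
  hom := φ.hom ≫ ψ.hom
  ι_f_zero_comp_hom_f_zero := by simp

/-- The chosen map of resolutions. -/
noncomputable def descHom {X Y : Type u} [AddCommGroup X] [Module R X] [AddCommGroup Y] [Module R Y] (f : X →ₗ[R] Y) :
    InjectiveResolution.Hom (injectiveResolution (ModuleCat.of R X)) (injectiveResolution (ModuleCat.of R Y))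
      (ModuleCat.ofHom f) where
  hom := InjectiveResolution.desc (ModuleCat.ofHom f) (injectiveResolution (ModuleCat.of R Y))
    (injectiveResolution (ModuleCat.of R X))
  ι_f_zero_comp_hom_f_zero := by
    rw [InjectiveResolution.desc_commutes_zero]
    simp

theorem exists_pow_maximal_le {p : Ideal R} [p.IsPrime] {K : Ideal R} (hp : p ∈ K.minimalPrimes) :
    ∃ N : ℕ, IsLocalRing.maximalIdeal (Localization p.primeCompl) ^ N ≤
      K.map (algebraMap R (Localization p.primeCompl)) := by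
  obtain ⟨N, hN⟩ := Ideal.exists_pow_le_of_le_radical_of_fg
    (I := p.map (algebraMap R (Localization p.primeCompl)))
    (J := K.map (algebraMap R (Localization p.primeCompl)))
    (IsLocalization.AtPrime.radical_map_of_mem_minimalPrimes (Localization p.primeCompl) p K hp).ge
    (IsNoetherian.noetherian _)
  exact ⟨N, by rwa [← IsLocalization.AtPrime.map_eq_maximalIdeal p (Localization p.primeCompl)]⟩

theorem floc_mem_max {M : ModuleCat.{u} R} (J : InjectiveResolution M) {p : Ideal R} [p.IsPrime] {K : Ideal R}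
    (hp : p ∈ K.minimalPrimes) {i : ℕ} {x : J.cocomplex.X i} (hx : x ∈ DRing.torsionSub K (J.cocomplex.X i)) :
    floc p.primeCompl J i x ∈ DRing.torsionSub (IsLocalRing.maximalIdeal (Localization p.primeCompl))
      ((J.cocomplex.X i).localizedModule p.primeCompl) := by
  obtain ⟨N, hN⟩ := exists_pow_maximal_le hp
  obtain ⟨k, hk⟩ := floc_mem p.primeCompl J hx
  refine ⟨N * k, fun a ha => hk a ?_⟩
  rw [pow_mul] at ha
  exact Ideal.pow_right_mono hN k ha

theorem floc_mem_boundary_max {M : ModuleCat.{u} R} (J : InjectiveResolution M) {p : Ideal R} [p.IsPrime] {K : Ideal R}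
    (hp : p ∈ K.minimalPrimes) : ∀ {i : ℕ} {x : J.cocomplex.X i}, x ∈ boundary J K i →
    floc p.primeCompl J i x ∈
      boundary (localizeRes p.primeCompl J) (IsLocalRing.maximalIdeal (Localization p.primeCompl)) i
  | 0, x, hx => by
    rw [(Submodule.mem_bot R).1 hx, map_zero]
    exact Submodule.zero_mem _
  | k + 1, x, ⟨y, hy, e⟩ =>
    ⟨floc p.primeCompl J k y, floc_mem_max J hp hy, (dloc_floc p.primeCompl J k (k + 1) y).trans (congrArg _ e)⟩

/-- The local class of a torsion element that is a cycle at `p`, and when its image vanishes. -/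
theorem exists_locClass {p : Ideal R} [p.IsPrime] {K : Ideal R} (hp : p ∈ K.minimalPrimes) {X : Type u}
    [AddCommGroup X] [Module R X] (J : InjectiveResolution (ModuleCat.of R X)) {i : ℕ} {x : J.cocomplex.X i}
    (hx : x ∈ DRing.torsionSub K (J.cocomplex.X i))
    (hd : floc p.primeCompl J (i + 1) (J.cocomplex.d i (i + 1) x) = 0) :
    ∃ Z : ↑((localCohomology (IsLocalRing.maximalIdeal (Localization.AtPrime p)) i).obj
        (ModuleCat.of (Localization.AtPrime p) (LocalizedModule p.primeCompl X))),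
      ∀ (Y : Type u) [AddCommGroup Y] [Module R Y] (f : X →ₗ[R] Y) (J' : InjectiveResolution (ModuleCat.of R Y))
        (φ : InjectiveResolution.Hom J J' (ModuleCat.ofHom f)),
        (localCohomology (IsLocalRing.maximalIdeal (Localization.AtPrime p)) i).map
            (ModuleCat.ofHom (LocalizedModule.map p.primeCompl f)) Z = 0 ↔
          floc p.primeCompl J' i (φ.hom.f i x) ∈
            boundary (localizeRes p.primeCompl J') (IsLocalRing.maximalIdeal (Localization p.primeCompl)) i := by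
  let S := p.primeCompl
  let 𝔪 := IsLocalRing.maximalIdeal (Localization.AtPrime p)
  obtain ⟨z, hz⟩ := exists_cycle (I := 𝔪) (localizeRes S J) i _ (floc_mem_max J hp hx)
    ((dloc_floc S J i (i + 1) x).trans hd)
  refine ⟨(localCohomology 𝔪 i).map (localizedIso S X).hom (cyclesToH (localizeRes S J) i z),
    fun Y _ _ f J' φ => ?_⟩
  obtain ⟨z', hz', hmap⟩ := exists_cyclesToH_map (locHom S φ) 𝔪 i z
  rw [← ConcreteCategory.comp_apply, ← Functor.map_comp, ← map_localizedIso, Functor.map_comp,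
    ConcreteCategory.comp_apply, hmap]
  have hval : cycleVal (localizeRes S J') i z' = floc S J' i (φ.hom.f i x) := by
    rw [hz', hz]
    exact locMap_floc S φ i x
  rw [← hval]
  refine Iff.trans ?_ (cyclesToH_eq_zero_iff_mem (localizeRes S J') i z')
  exact ⟨fun h => ((localCohomology 𝔪 i).mapIso (localizedIso S Y)).toLinearEquiv.injective (h.trans (map_zero _).symm),
    fun h => by rw [h, map_zero]⟩

theorem exists_mul_correction {M : ModuleCat.{u} R} (J : InjectiveResolution M) (K : Ideal R) {i : ℕ}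
    (x : J.cocomplex.X i)
    (h : ∀ (p : Ideal R) [p.IsPrime], p ∈ K.minimalPrimes →
      floc p.primeCompl J i x ∈
        boundary (localizeRes p.primeCompl J) (IsLocalRing.maximalIdeal (Localization p.primeCompl)) i)
    (hx : x ∈ DRing.torsionSub K (J.cocomplex.X i)) :
    ∃ b : R, (∀ p ∈ K.minimalPrimes, b ∉ p) ∧ ∃ c ∈ boundary J K i,
      x - c ∈ DRing.torsionSub (K ⊔ Ideal.span {b}) (J.cocomplex.X i) := by
  classical
  have hfin : K.minimalPrimes.Finite := Ideal.finite_minimalPrimes_of_isNoetherianRing R K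
  let 𝔟 : Ideal R := (boundary J K i).comap (LinearMap.toSpanSingleton R _ x)
  obtain ⟨b, hb, hbS⟩ := not_le_of_forall_not_mem (S := hfin.toFinset)
    (fun p hp => (hfin.mem_toFinset.1 hp).1.1) 𝔟 fun p hp hle => by
      have hp' := hfin.mem_toFinset.1 hp
      haveI := hp'.1.1
      have h' := h p hp'
      rw [← IsLocalization.AtPrime.map_eq_maximalIdeal p (Localization p.primeCompl)] at h'
      obtain ⟨u, hu⟩ := exists_smul_mem_boundary p.primeCompl J h'
      exact u.2 (hle (show (u : R) ∈ 𝔟 from boundary_anti J hp'.1.2 i hu))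
  obtain ⟨c, hc, m, hm⟩ := exists_boundary_killed_correction J (show b • x ∈ boundary J K i from hb)
  exact ⟨b, fun p hp => hbS p (hfin.mem_toFinset.2 hp), c, hc,
    mem_torsionSub_sup_span J K b (Submodule.sub_mem _ hx (boundary_le_torsionSub J K i hc)) hm⟩

omit [IsNoetherianRing R] in
theorem locMap_comp (S : Submonoid R) {X Y W : Type u} [AddCommGroup X] [Module R X] [AddCommGroup Y] [Module R Y]
    [AddCommGroup W] [Module R W] (f : X →ₗ[R] Y) (g : Y →ₗ[R] W) :
    LocalizedModule.map S (g ∘ₗ f) = (LocalizedModule.map S g) ∘ₗ (LocalizedModule.map S f) := by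
  refine LinearMap.ext fun x => ?_
  induction x using LocalizedModule.induction_on with
  | h m s => simp [LocalizedModule.map_mk]

variable {T : Set (PrimeSpectrum R)}

/-- One step for stable images. -/
theorem exists_step_stable (i : ℕ) {L L' B B' : Type u} [AddCommGroup L] [Module R L] [AddCommGroup L'] [Module R L']
    [AddCommGroup B] [Module R B] [AddCommGroup B'] [Module R B'] (f : L →ₗ[R] L') (g : L' →ₗ[R] B) (h : B →ₗ[R] B')
    (hf : ∀ p : PrimeSpectrum R, p ∈ T → ∀ Z : ↑((localCohomology (IsLocalRing.maximalIdeal (Localization.AtPrime p.asIdeal)) i).obj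
        (ModuleCat.of (Localization.AtPrime p.asIdeal) (LocalizedModule p.asIdeal.primeCompl L))),
      (localCohomology (IsLocalRing.maximalIdeal (Localization.AtPrime p.asIdeal)) i).map
          (ModuleCat.ofHom (LocalizedModule.map p.asIdeal.primeCompl (g ∘ₗ f))) Z = 0 →
        (localCohomology (IsLocalRing.maximalIdeal (Localization.AtPrime p.asIdeal)) i).map
          (ModuleCat.ofHom (LocalizedModule.map p.asIdeal.primeCompl f)) Z = 0)
    (hh : 0 < i → ∀ p : PrimeSpectrum R, p ∈ T → LocZero p.asIdeal (i - 1) h)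
    (K : Ideal R) (hK : PrimeSpectrum.zeroLocus (K : Set R) ⊆ T)
    (y : ↑((localCohomology K i).obj (ModuleCat.of R L)))
    (hy : (localCohomology K i).map (ModuleCat.ofHom (g ∘ₗ f)) y = 0) :
    ∃ (K' : Ideal R) (hK' : PrimeSpectrum.zeroLocus (K' : Set R) ⊆ T)
      (y' : ↑((localCohomology K' i).obj (ModuleCat.of R L'))),
      (∀ p : PrimeSpectrum R, K' ≤ p.asIdeal → ∃ p₀ : PrimeSpectrum R, K ≤ p₀.asIdeal ∧ p₀ < p) ∧
      theta K' hK' i _ y' =
        (localCohomology.ofDiagram (Dual2.idealsInDiagram T) i).map (ModuleCat.ofHom f) (theta K hK i _ y) ∧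
      (localCohomology K' i).map (ModuleCat.ofHom (h ∘ₗ g)) y' = 0 := by
  classical
  let J := injectiveResolution (ModuleCat.of R L)
  let J₁ := injectiveResolution (ModuleCat.of R L')
  let J₂ := injectiveResolution (ModuleCat.of R B)
  let J₃ := injectiveResolution (ModuleCat.of R B')
  let φ := descHom f
  let ψ := descHom g
  let χ := descHom h
  let gf : InjectiveResolution.Hom J J₂ (ModuleCat.ofHom (g ∘ₗ f)) := homComp φ ψ
  let hg : InjectiveResolution.Hom J₁ J₃ (ModuleCat.ofHom (h ∘ₗ g)) := homComp ψ χ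
  obtain ⟨z, rfl⟩ := cyclesToH_surjective J i y
  have hz : cycleVal J i z ∈ DRing.torsionSub K (J.cocomplex.X i) := cycleVal_mem J i z
  have hdz := d_cycleVal J i z
  obtain ⟨z₁, hz₁, hmap₁⟩ := exists_cyclesToH_map φ K i z
  obtain ⟨z₂, hz₂, hmap₂⟩ := exists_cyclesToH_map gf K i z
  rw [hy] at hmap₂
  have hb₂ : ψ.hom.f i (φ.hom.f i (cycleVal J i z)) ∈ boundary J₂ K i := by
    have h1 := (cyclesToH_eq_zero_iff_mem J₂ i z₂).1 hmap₂.symm
    rw [hz₂] at h1
    exact h1
  have hFz : φ.hom.f i (cycleVal J i z) ∈ DRing.torsionSub K (J₁.cocomplex.X i) := hz₁ ▸ cycleVal_mem J₁ i z₁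
  have hdF : J₁.cocomplex.d i (i + 1) (φ.hom.f i (cycleVal J i z)) = 0 := hz₁ ▸ d_cycleVal J₁ i z₁
  obtain ⟨b, hb, c, hc, hFc⟩ := exists_mul_correction J₁ K (φ.hom.f i (cycleVal J i z)) (fun p _ hp => by
    obtain ⟨Z, hZ⟩ := exists_locClass hp J hz (by rw [hdz, map_zero])
    exact (hZ L' f J₁ φ).1 (hf ⟨p, ‹p.IsPrime›⟩ (hK hp.1.2) Z
      ((hZ B (g ∘ₗ f) J₂ gf).2 (floc_mem_boundary_max J₂ hp hb₂)))) hFz
  have hdc : J₁.cocomplex.d i (i + 1) (φ.hom.f i (cycleVal J i z) - c) = 0 := by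
    rw [map_sub, hdF, d_boundary J₁ K hc, sub_zero]
  -- the new bound
  obtain ⟨b₂, hb₂', hbd⟩ : ∃ b₂ : R, (∀ p ∈ K.minimalPrimes, b₂ ∉ p) ∧
      χ.hom.f i (ψ.hom.f i (φ.hom.f i (cycleVal J i z) - c)) ∈ boundary J₃ (K ⊔ Ideal.span {b * b₂}) i := by
    cases i with
    | zero =>
      refine ⟨1, fun p hp h1 => hp.1.1.ne_top ((Ideal.eq_top_iff_one p).2 h1), ?_⟩
      rw [(Submodule.mem_bot R).1 hc, sub_zero, (Submodule.mem_bot R).1 hb₂, map_zero]
      exact Submodule.zero_mem _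
    | succ j =>
      obtain ⟨w, hw, ew⟩ := hb₂
      obtain ⟨v, hv, rfl⟩ := hc
      let w₁ := w - ψ.hom.f j v
      have hψv : ψ.hom.f j v ∈ DRing.torsionSub K (J₂.cocomplex.X j) :=
        DRing.map_mem_torsionSub K (ψ.hom.f j).hom hv
      have hw₁ : w₁ ∈ DRing.torsionSub K (J₂.cocomplex.X j) := Submodule.sub_mem _ hw hψv
      have hcomm : J₂.cocomplex.d j (j + 1) (ψ.hom.f j v) = ψ.hom.f (j + 1) (J₁.cocomplex.d j (j + 1) v) :=
        congrArg (fun q => q.hom v) (ψ.hom.comm j (j + 1))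
      have hdw : J₂.cocomplex.d j (j + 1) w₁ =
          ψ.hom.f (j + 1) (φ.hom.f (j + 1) (cycleVal J (j + 1) z) - J₁.cocomplex.d j (j + 1) v) := by
        rw [map_sub, map_sub, hcomm]
        exact congrArg (· - _) ew
      have hdwT : J₂.cocomplex.d j (j + 1) w₁ ∈ DRing.torsionSub (K ⊔ Ideal.span {b}) (J₂.cocomplex.X (j + 1)) := by
        rw [hdw]
        exact DRing.map_mem_torsionSub _ (ψ.hom.f (j + 1)).hom hFc
      obtain ⟨b₂, hb₂', c₂, hc₂, hχ⟩ := exists_mul_correction J₃ K (χ.hom.f j w₁) (fun p _ hp => by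
        obtain ⟨Z, hZ⟩ := exists_locClass hp J₂ hw₁
          (floc_eq_zero J₂ (Submodule.mem_sup_right (Ideal.mem_span_singleton_self b)) (hb p hp) hdwT)
        refine (hZ B' h J₃ χ).1 ?_
        have h0 := hh (Nat.succ_pos j) ⟨p, ‹p.IsPrime›⟩ (hK hp.1.2)
        exact congrArg (fun q => q.hom Z) h0) (DRing.map_mem_torsionSub K (χ.hom.f j).hom hw₁)
      refine ⟨b₂, hb₂', χ.hom.f j w₁ - c₂, ?_, ?_⟩
      · refine torsionSub_anti (sup_le_sup le_rfl ?_) _ hχ
        rw [Ideal.span_singleton_le_span_singleton]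
        exact dvd_mul_left b₂ b
      · show J₃.cocomplex.d j (j + 1) (χ.hom.f j w₁ - c₂) = _
        rw [map_sub, d_boundary J₃ K hc₂, sub_zero, ← hdw]
        exact congrArg (fun q => q.hom w₁) (χ.hom.comm j (j + 1))
  let K' := K ⊔ Ideal.span {b * b₂}
  have hle : K' ≤ K ⊔ Ideal.span {b} := sup_le_sup le_rfl (by
    rw [Ideal.span_singleton_le_span_singleton]
    exact dvd_mul_right b b₂)
  obtain ⟨z', hz'⟩ := exists_cycle (I := K') J₁ i _ (torsionSub_anti hle _ hFc) hdc
  obtain ⟨z₃, hz₃⟩ := exists_cycle (I := K) J₁ i _ (Submodule.sub_mem _ hFz (boundary_le_torsionSub J₁ K i hc)) hdc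
  have hK' : PrimeSpectrum.zeroLocus (K' : Set R) ⊆ T :=
    (PrimeSpectrum.zeroLocus_anti_mono (SetLike.coe_subset_coe.2 le_sup_left)).trans hK
  refine ⟨K', hK', cyclesToH J₁ i z', fun p hp => ?_, ?_, ?_⟩
  · obtain ⟨p₀, hp₀, hle'⟩ := Ideal.exists_minimalPrimes_le (le_sup_left.trans hp)
    refine ⟨⟨p₀, hp₀.1.1⟩, hp₀.1.2, lt_of_le_of_ne hle' fun he => ?_⟩
    have hm : b * b₂ ∈ p.asIdeal := hp (Submodule.mem_sup_right (Ideal.mem_span_singleton_self _))
    rw [← he] at hm
    exact (hp₀.1.1.mem_or_mem hm).elim (hb p₀ hp₀) (hb₂' p₀ hp₀)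
  · rw [← theta_HmapOfLE _ hK' hK le_sup_left, HmapOfLE_cyclesToH (le_sup_left) J₁ i z' z₃ (hz₃.trans hz'.symm),
      ← theta_map, hmap₁]
    refine congrArg _ (sub_eq_zero.1 ?_)
    rw [← map_sub, cyclesToH_eq_zero_iff_mem]
    rw [show cycleVal J₁ i (z₃ - z₁) = cycleVal J₁ i z₃ - cycleVal J₁ i z₁ from
      (congrArg _ (map_sub _ z₃ z₁)).trans (map_sub _ _ _), hz₃, hz₁, sub_sub_cancel_left]
    exact Submodule.neg_mem _ hc
  · obtain ⟨z₄, hz₄, hmap₄⟩ := exists_cyclesToH_map hg K' i z'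
    rw [hmap₄, cyclesToH_eq_zero_iff_mem, hz₄, hz']
    exact hbd

theorem exists_dim_le (hA : ringKrullDim R < ⊤) (T : Set (PrimeSpectrum R)) :
    ∃ e : ℕ, Order.krullDim ↥T ≤ (e : WithBot ℕ∞) := by
  have h1 : Order.krullDim ↥T ≤ ringKrullDim R :=
    Order.krullDim_le_of_strictMono Subtype.val fun _ _ h => h
  rcases hd : ringKrullDim R with _ | d
  · exact ⟨0, h1.trans (by rw [hd]; exact bot_le)⟩
  · rcases d with _ | n
    · exact absurd (hd ▸ hA) (lt_irrefl _)
    · exact ⟨n, h1.trans (le_of_eq hd)⟩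

/-- Stable images inject. -/
theorem exists_stable (hA : ringKrullDim R < ⊤) (T : Set (PrimeSpectrum R))
    (M : ℕ → Type u) [∀ n, AddCommGroup (M n)] [∀ n, Module R (M n)] (φ : ∀ k m : ℕ, m ≤ k → (M k →ₗ[R] M m))
    (hφ : ∀ (k l m : ℕ) (h₁ : m ≤ l) (h₂ : l ≤ k), φ k m (h₁.trans h₂) = φ l m h₁ ∘ₗ φ k l h₂) (i : ℕ)
    (m' : ℕ → ℕ) (hm' : ∀ m, m ≤ m' m)
    (h1 : 0 < i → ∀ p : PrimeSpectrum R, p ∈ T → ∀ (m k : ℕ) (h : m ≤ k), m' m ≤ k → LocZero p.asIdeal (i - 1) (φ k m h))
    (h23 : ∀ p : PrimeSpectrum R, p ∈ T → ∀ (m k : ℕ) (h : m ≤ k), m' m ≤ k →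
      ∀ Z : ↑((localCohomology (IsLocalRing.maximalIdeal (Localization.AtPrime p.asIdeal)) i).obj
        (ModuleCat.of (Localization.AtPrime p.asIdeal) (LocalizedModule p.asIdeal.primeCompl (M k)))),
      (localCohomology (IsLocalRing.maximalIdeal (Localization.AtPrime p.asIdeal)) i).map
          (ModuleCat.ofHom (LocalizedModule.map p.asIdeal.primeCompl (φ k 0 (Nat.zero_le k)))) Z = 0 →
        (localCohomology (IsLocalRing.maximalIdeal (Localization.AtPrime p.asIdeal)) i).map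
          (ModuleCat.ofHom (LocalizedModule.map p.asIdeal.primeCompl (φ k m h))) Z = 0) :
    ∃ m₀ : ℕ, ∀ m : ℕ, ∀ hm : m₀ ≤ m, ∃ m'' : ℕ, m ≤ m'' ∧ ∀ (k : ℕ) (h : m ≤ k), m'' ≤ k →
      ∀ x : ↑((localCohomology.ofDiagram (Dual2.idealsInDiagram T) i).obj (ModuleCat.of R (M m))),
        x ∈ LinearMap.range ((localCohomology.ofDiagram (Dual2.idealsInDiagram T) i).map (ModuleCat.ofHom (φ k m h))).hom →
        ((localCohomology.ofDiagram (Dual2.idealsInDiagram T) i).map (ModuleCat.ofHom (φ m m₀ hm))).hom x = 0 → x = 0 := by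
  obtain ⟨e, he⟩ := exists_dim_le hA T
  refine ⟨(m'^[e + 1]) 0, fun m hm => ⟨(m'^[e + 1]) m, Function.id_le_iterate_of_id_le hm' _ m, ?_⟩⟩
  intro k h hk x hx hx0
  obtain ⟨w, rfl⟩ := hx
  let H := localCohomology.ofDiagram (Dual2.idealsInDiagram T) i
  have hcomp : ∀ (a b c : ℕ) (h₁ : c ≤ b) (h₂ : b ≤ a) (v : ↑(H.obj (ModuleCat.of R (M a)))),
      H.map (ModuleCat.ofHom (φ a c (h₁.trans h₂))) v =
        H.map (ModuleCat.ofHom (φ b c h₁)) (H.map (ModuleCat.ofHom (φ a b h₂)) v) := fun a b c h₁ h₂ v => by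
    rw [hφ a b c h₁ h₂, ModuleCat.ofHom_comp, Functor.map_comp]
    rfl
  have hbot : ∀ s, s ≤ e + 1 → (m'^[s]) 0 ≤ (m'^[e + 1]) 0 := fun s hs =>
    Function.monotone_iterate_of_id_le hm' hs 0
  have htop : ∀ s, s ≤ e + 1 → (m'^[s]) 0 ≤ (m'^[s]) m := fun s hs =>
    ((hbot s hs).trans hm).trans (Function.id_le_iterate_of_id_le hm' s m)
  suffices hP : ∀ r : ℕ, r ≤ e + 1 → ∀ (hkr : (m'^[e + 1 - r]) m ≤ k),
      ∃ (K : Ideal R) (hK : PrimeSpectrum.zeroLocus (K : Set R) ⊆ T)
        (y : ↑((localCohomology K i).obj (ModuleCat.of R (M ((m'^[e + 1 - r]) m))))),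
        (∀ p : PrimeSpectrum R, (hp : K ≤ p.asIdeal) → (r : ℕ∞) ≤ Order.height (⟨p, hK hp⟩ : ↥T)) ∧
        theta K hK i _ y = H.map (ModuleCat.ofHom (φ k ((m'^[e + 1 - r]) m) hkr)) w ∧
        (localCohomology K i).map
          (ModuleCat.ofHom (φ ((m'^[e + 1 - r]) m) ((m'^[e + 1 - r]) 0) (htop _ (Nat.sub_le _ _)))) y = 0 by
    obtain ⟨K, hK, y, hh, hy, -⟩ := hP (e + 1) le_rfl
      ((Function.monotone_iterate_of_id_le hm' (Nat.sub_le _ _) m).trans hk)
    have hK0 : PrimeSpectrum.zeroLocus (K : Set R) = ∅ := by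
      refine Set.eq_empty_of_forall_notMem fun p hp => ?_
      have h1 : ((e + 1 : ℕ) : WithBot ℕ∞) ≤ (e : WithBot ℕ∞) := by
        refine le_trans ?_ ((Order.height_le_krullDim (⟨p, hK hp⟩ : ↥T)).trans he)
        exact WithBot.coe_le_coe.2 (hh p hp)
      exact absurd (by exact_mod_cast h1) (Nat.not_succ_le_self e)
    rw [eq_zero_of_zeroLocus_empty i K hK0 _ y, map_zero] at hy
    have hm0 : (m'^[e + 1 - (e + 1)]) m = m := by rw [Nat.sub_self]; rfl
    have key : ∀ (a : ℕ) (ha : a ≤ k) (_ : a = m), H.map (ModuleCat.ofHom (φ k a ha)) w = 0 →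
        H.map (ModuleCat.ofHom (φ k m h)) w = 0 := fun a ha e h0 => by subst e; exact h0
    exact key _ _ hm0 hy.symm
  intro r hr
  induction r with
  | zero =>
    intro hkr
    have hx1 : H.map (ModuleCat.ofHom (φ k ((m'^[e + 1 - 0]) 0) ((htop _ (Nat.sub_le _ _)).trans hkr))) w = 0 := by
      exact (hcomp k m ((m'^[e + 1]) 0) hm h w).trans hx0
    rw [hcomp k ((m'^[e + 1 - 0]) m) _ (htop _ (Nat.sub_le _ _)) hkr w] at hx1
    obtain ⟨K, hK, y, hy⟩ := exists_theta i _ (H.map (ModuleCat.ofHom (φ k ((m'^[e + 1 - 0]) m) hkr)) w)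
    rw [← hy, ← theta_map] at hx1
    obtain ⟨K', hK', hle, h0⟩ := theta_eq_zero K hK i _ _ hx1
    refine ⟨K', hK', (Dual2.HmapOfLE hle i).app _ y, fun p hp => ?_, ?_, ?_⟩
    · rw [Nat.cast_zero]; exact zero_le
    · rw [theta_HmapOfLE K hK hK' hle, hy]
    · refine Eq.trans ?_ h0
      exact (congrArg (fun g => g.hom y) ((Dual2.HmapOfLE hle i).naturality
        (ModuleCat.ofHom (φ ((m'^[e + 1 - 0]) m) ((m'^[e + 1 - 0]) 0) (htop _ (Nat.sub_le _ _)))))).symm
  | succ r ih =>
    intro hkr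
    have hs : e + 1 - r = e + 1 - (r + 1) + 1 := by lia
    have hit : ∀ a : ℕ, (m'^[e + 1 - r]) a = m' ((m'^[e + 1 - (r + 1)]) a) := fun a => by
      rw [hs, Function.iterate_succ_apply']
    obtain ⟨K, hK, y, hh, hy, hy0⟩ := ih (Nat.le_of_succ_le hr)
      ((Function.monotone_iterate_of_id_le hm' (Nat.sub_le _ _) m).trans hk)
    have hLL : (m'^[e + 1 - (r + 1)]) m ≤ (m'^[e + 1 - r]) m := (hm' _).trans (hit m).ge
    have hBB : (m'^[e + 1 - (r + 1)]) 0 ≤ (m'^[e + 1 - r]) 0 := (hm' _).trans (hit 0).ge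
    have hLB : (m'^[e + 1 - r]) 0 ≤ (m'^[e + 1 - (r + 1)]) m :=
      ((hbot _ (Nat.sub_le _ _)).trans hm).trans (Function.id_le_iterate_of_id_le hm' _ m)
    obtain ⟨K', hK', y', hlt, hy', hy0'⟩ := exists_step_stable i (φ _ _ hLL) (φ _ _ hLB) (φ _ _ hBB)
      (fun p hp Z hZ => h23 p hp _ _ hLL (hit m).ge Z (by
        rw [← hφ _ _ _ hLB hLL] at hZ
        have h2 := congrArg (fun g => (localCohomology (IsLocalRing.maximalIdeal (Localization.AtPrime p.asIdeal)) i).map
          (ModuleCat.ofHom (LocalizedModule.map p.asIdeal.primeCompl g)) Z)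
          (hφ _ _ _ (Nat.zero_le ((m'^[e + 1 - r]) 0)) (htop _ (Nat.sub_le (e + 1) r)))
        refine h2.trans ?_
        rw [show LocalizedModule.map p.asIdeal.primeCompl (φ ((m'^[e + 1 - r]) 0) 0 (Nat.zero_le _) ∘ₗ
              φ ((m'^[e + 1 - r]) m) ((m'^[e + 1 - r]) 0) (htop _ (Nat.sub_le (e + 1) r))) =
            (LocalizedModule.map p.asIdeal.primeCompl (φ ((m'^[e + 1 - r]) 0) 0 (Nat.zero_le _))) ∘ₗ
              (LocalizedModule.map p.asIdeal.primeCompl (φ ((m'^[e + 1 - r]) m) ((m'^[e + 1 - r]) 0)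
                (htop _ (Nat.sub_le (e + 1) r)))) from locMap_comp _ _ _,
          ModuleCat.ofHom_comp, Functor.map_comp, ConcreteCategory.comp_apply, hZ, map_zero]))
      (fun hi p hp => h1 hi p hp _ _ hBB (hit 0).ge) K hK y (by rw [← hφ _ _ _ hLB hLL]; exact hy0)
    refine ⟨K', hK', y', fun p hp => ?_, ?_, ?_⟩
    · obtain ⟨p₀, hp₀, hp₀p⟩ := hlt p hp
      refine le_trans ?_ (Order.height_add_one_le (a := (⟨p₀, hK hp₀⟩ : ↥T)) hp₀p)
      rw [Nat.cast_add_one]
      exact add_le_add (hh p₀ hp₀) le_rfl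
    · rw [hy', hy]
      exact (hcomp k _ _ hLL _ w).symm
    · rw [← hφ _ _ _ hBB hLB] at hy0'
      exact hy0'

end Groth.Agent.HTLib
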