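import Groth.Agent.HTLib.UDev
import Groth.Agent.HTLib.HlvtComplete
import Groth.Agent.DualCx.Coherent
import Groth.Agent.DualCx.Depth
import Groth.Agent.LocH.Grothendieck
import Groth.Agent.LocH.TopDegree

/-!
`H^j(U, RHom(M, ω)) = 0` for `j ≥ -δ(m) - s - 1` over a local ring complete along `I`.
-/

set_option autoImplicit false
set_option maxHeartbeats 1000000
set_option linter.style.haveILetI false
set_option backward.isDefEq.respectTransparency false
set_option backward.isDefEq.respectTransparency.types false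
universe u

namespace Groth.Agent.HTLib

open CategoryTheory Limits Pretriangulated HomologicalComplex DerivedCategory DualCx IsLocalRing

attribute [local instance] HasDerivedCategory.standard

noncomputable section

variable {A : Type u} [CommRing A]

theorem divModTors_hom (a : A) (K : Ideal A) (M : Type u) [AddCommGroup M] [Module A M] [Module.Finite A M]
    [IsNoetherianRing A] (X : ModuleCat.{u} A) [Injective X] :
    LocH.DivModTors a ↥(DRing.torsionSub K (ModuleCat.of A M ⟶ X)) := by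
  haveI : Module.Injective A X := Module.injective_module_of_injective_object A _ (inj := inferInstance)
  rintro n ⟨φ, k, hk⟩
  let N : ℕ →o Submodule A M := ⟨fun m => LinearMap.ker (LinearMap.lsmul A M (a ^ m)), fun m₁ m₂ hm x hx => by
    obtain ⟨c, rfl⟩ := Nat.exists_eq_add_of_le hm
    simp only [LinearMap.mem_ker, LinearMap.lsmul_apply] at hx ⊢
    rw [pow_add, mul_comm, mul_smul, hx, smul_zero]⟩
  haveI : IsNoetherian A M := isNoetherian_of_isNoetherianRing_of_finite A M
  obtain ⟨m, hm⟩ := monotone_stabilizes_iff_noetherian.2 ‹IsNoetherian A M› N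
  -- `ψ ∘ a^n = φ` modulo `a^m`
  let W : Submodule A X :=
    { carrier := {x | ∀ b ∈ K ^ k, b • x = 0}
      zero_mem' := fun b _ => smul_zero b
      add_mem' := fun hx hy b hb => by rw [smul_add, hx b hb, hy b hb, add_zero]
      smul_mem' := fun c x hx b hb => by rw [smul_comm, hx b hb, smul_zero] }
  haveI : Module.Injective A ↥(DRing.torsionSub K X) := by
    have h := InjHull.injective_iSup_torsionBySet (R := A) X K
    have e : (⨆ n : ℕ, Submodule.torsionBySet A X ((K ^ n : Ideal A) : Set A)) = DRing.torsionSub K X :=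
      Submodule.ext fun x => InjHull.mem_iSup_torsionBySet_iff K x
    rwa [e] at h
  let φ' : M →ₗ[A] DRing.torsionSub K X := φ.hom.codRestrict _ fun x => ⟨k, fun b hb =>
    congrArg (fun g : ModuleCat.of A M ⟶ X => g.hom x) (hk b hb)⟩
  let α : M ⧸ N m →ₗ[A] DRing.torsionSub K X := (N m).liftQ (a ^ m • φ') fun x hx => by
    rw [LinearMap.mem_ker, LinearMap.smul_apply, ← map_smul]
    rw [show a ^ m • x = 0 from hx, map_zero]
  let μ : M ⧸ N m →ₗ[A] M ⧸ N m := LinearMap.lsmul A _ (a ^ (m + n))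
  have hμ : Function.Injective μ := by
    refine (injective_iff_map_eq_zero μ).2 fun y hy => ?_
    obtain ⟨x, rfl⟩ := (N m).mkQ_surjective y
    have hy' : a ^ (m + n) • x ∈ N m := (Submodule.Quotient.mk_eq_zero _).1 ((map_smul (N m).mkQ _ x).trans hy)
    refine (Submodule.Quotient.mk_eq_zero _).2 ?_
    rw [hm (m + (m + n)) (Nat.le_add_right _ _)]
    show a ^ (m + (m + n)) • x = 0
    rw [pow_add, mul_smul]
    exact hy'
  obtain ⟨ψ, hψ⟩ := Module.Injective.out μ hμ α
  let w := (DRing.torsionSub K X).subtype ∘ₗ ψ ∘ₗ (N m).mkQ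
  have hw : ∃ k', ∀ b ∈ K ^ k', b • w = 0 := by
    obtain ⟨t, ht⟩ := Module.Finite.fg_top (R := A) (M := M)
    choose e he using fun x : M => (ψ ((N m).mkQ x)).2
    classical
    refine ⟨t.sup e, fun b hb => LinearMap.ext_on ht fun x hx => ?_⟩
    exact he x b (Ideal.pow_le_pow_right (Finset.le_sup hx) hb)
  obtain ⟨k', hk'⟩ := hw
  refine ⟨⟨ModuleCat.ofHom w, k', fun b hb => ModuleCat.hom_ext (hk' b hb)⟩, m,
    Subtype.ext (ModuleCat.hom_ext (LinearMap.ext fun x => ?_))⟩
  show a ^ m • (a ^ n • w x - φ.hom x) = (0 : X)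
  rw [smul_sub, smul_smul, ← pow_add, sub_eq_zero]
  have h := congrArg Subtype.val (hψ ((N m).mkQ x))
  have e : ψ (μ ((N m).mkQ x)) = a ^ (m + n) • ψ ((N m).mkQ x) := map_smul ψ _ _
  rw [e] at h
  exact h

variable [IsNoetherianRing A] {ω : Dual.D A}

theorem ac_D (R : Rep ω) (M : Type u) [AddCommGroup M] [Module A M] [Module.Finite A M] (s : Finset A) :
    RGammaI.AC s (R.D M) := fun i t _ a _ =>
  haveI := R.inj i
  divModTors_hom a _ M (R.J.X i)

variable {s : Finset A}

/-- devissage along the cohomology of a bounded object -/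
theorem ud_bounded (hi j : ℤ) : ∀ (k : ℕ) (a : ℤ) (L : Dual.D A), L.IsGE a → L.IsLE hi → hi + 1 ≤ a + k →
    (∀ i : ℤ, UD s ((Dual.inD A (Dual.HD A L i))⟦-i⟧) j) → UD s L j
  | 0, a, L, hL, hL', hk, _ => by
    haveI := hL
    haveI := hL'
    exact ud_of_isZero ((IsZero.iff_id_eq_zero L).2
      (DerivedCategory.TStructure.t.zero (𝟙 L) hi a (by push_cast at hk; lia))) j
  | k + 1, a, L, hL, hL', hk, h => by
    haveI := hL
    haveI := hL'
    obtain ⟨X, B, hX, hB, u, g, δ, hT⟩ :=
      (DerivedCategory.TStructure.t (C := ModuleCat.{u} A)).exists_triangle L a (a + 1) rfl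
    haveI : X.IsLE a := ⟨hX⟩
    haveI : B.IsGE (a + 1) := ⟨hB⟩
    haveI : X.IsGE a := (DerivedCategory.isGE_iff X a).2 fun i hi =>
      (DerivedCategory.HomologySequence.exact₁ _ hT (i - 1) i (by lia)).isZero_of_both_zeros
        ((DerivedCategory.isZero_of_isGE B (a + 1) (i - 1) (by lia)).eq_of_src _ _)
        ((DerivedCategory.isZero_of_isGE L a i hi).eq_of_tgt _ _)
    let hF := fun i => DerivedCategory.homologyFunctor (ModuleCat.{u} A) i
    haveI : Mono ((hF a).map u) := (DerivedCategory.HomologySequence.mono_homologyMap_mor₁_iff _ hT (a - 1) a (by lia)).2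
      ((DerivedCategory.isZero_of_isGE B (a + 1) (a - 1) (by lia)).eq_of_src _ _)
    haveI : Epi ((hF a).map u) := (DerivedCategory.HomologySequence.epi_homologyMap_mor₁_iff _ hT a).2
      ((DerivedCategory.isZero_of_isGE B (a + 1) a (by lia)).eq_of_tgt _ _)
    haveI := isIso_of_mono_of_epi ((hF a).map u)
    obtain ⟨Y, ⟨eY⟩⟩ := DerivedCategory.exists_iso_singleFunctor_obj_of_isGE_of_isLE X a
    let eH : Y ≅ (hF a).obj L := ((DerivedCategory.singleFunctorCompHomologyFunctorIso (ModuleCat.{u} A) a).app Y).symm ≪≫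
      ((hF a).mapIso eY).symm ≪≫ asIso ((hF a).map u)
    let eX : X ≅ (Dual.inD A (Dual.HD A L a))⟦-a⟧ := eY ≪≫ (DerivedCategory.singleFunctor (ModuleCat.{u} A) a).mapIso eH ≪≫
      (((DerivedCategory.singleFunctors (ModuleCat.{u} A)).shiftIso (-a) a 0 (neg_add_cancel a)).app ((hF a).obj L)).symm
    refine ud_middle hT (ud_of_iso eX.symm (h a)) ?_
    haveI : B.IsLE hi := (DerivedCategory.isLE_iff B hi).2 fun i hi' => by
      by_cases hia : i ≤ a
      · exact DerivedCategory.isZero_of_isGE B (a + 1) i (by lia)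
      exact (DerivedCategory.HomologySequence.exact₃ _ hT i (i + 1) rfl).isZero_of_both_zeros
        ((DerivedCategory.isZero_of_isLE L hi i hi').eq_of_src _ _)
        ((DerivedCategory.isZero_of_isLE X a (i + 1) (by lia)).eq_of_tgt _ _)
    refine ud_bounded hi j k (a + 1) B inferInstance inferInstance (by push_cast at hk; lia) fun i => ?_
    by_cases hia : i ≤ a
    · refine ud_of_isZero (Functor.map_isZero _ (Functor.map_isZero _ ?_)) j
      exact (DerivedCategory.isZero_of_isGE B (a + 1) i (by lia)).of_iso (Iso.refl _)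
    haveI : Epi ((hF i).map g) := (DerivedCategory.HomologySequence.epi_homologyMap_mor₂_iff _ hT i (i + 1) rfl).2
      ((DerivedCategory.isZero_of_isLE X a (i + 1) (by lia)).eq_of_tgt _ _)
    haveI : Mono ((hF i).map g) := (DerivedCategory.HomologySequence.mono_homologyMap_mor₂_iff _ hT i).2
      ((DerivedCategory.isZero_of_isLE X a i (by lia)).eq_of_src _ _)
    haveI := isIso_of_mono_of_epi ((hF i).map g)
    exact ud_of_iso ((shiftFunctor (Dual.D A) (-i)).mapIso
      ((DerivedCategory.singleFunctor (ModuleCat.{u} A) 0).mapIso (asIso ((hF i).map g)))) (h i)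

/-- devissage of a finite module -/
theorem ud_finite (a : ℤ) (N : Type u) [AddCommGroup N] [Module A N] [Module.Finite A N]
    (h : ∀ P : PrimeSpectrum A, P ∈ Module.support A N → UD s (Dual.inD A (A ⧸ P.asIdeal)) a) :
    UD s (Dual.inD A N) a := by
  revert h
  induction (inferInstance : Module.Finite A N) using IsNoetherianRing.induction_on_isQuotientEquivQuotientPrime A with
  | subsingleton N =>
    intro _
    exact ud_of_isZero (Functor.map_isZero _ (ModuleCat.isZero_of_subsingleton (ModuleCat.of A N))) a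
  | quotient N P e =>
    intro h
    refine ud_of_iso ((DerivedCategory.singleFunctor (ModuleCat.{u} A) 0).mapIso e.symm.toModuleIso) (h P ?_)
    rw [e.support_eq]
    exact LocH.mem_support_quotient_iff.2 le_rfl
  | exact N₁ N₂ N₃ f g hf hg hfg ih₁ ih₃ =>
    intro h
    have hS : (ShortComplex.mk (ModuleCat.ofHom f) (ModuleCat.ofHom g)
        (ModuleCat.hom_ext hfg.linearMap_comp_eq_zero)).ShortExact :=
      { exact := (ShortComplex.ShortExact.moduleCat_exact_iff_function_exact _).2 hfg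
        mono_f := (ModuleCat.mono_iff_injective _).2 hf
        epi_g := (ModuleCat.epi_iff_surjective _).2 hg }
    have hs : Module.support A N₂ = Module.support A N₁ ∪ Module.support A N₃ := Module.support_of_exact hfg hf hg
    exact ud_middle hS.singleTriangle_distinguished (ih₁ fun P hP => h P (hs ▸ Or.inl hP))
      (ih₃ fun P hP => h P (hs ▸ Or.inr hP))

theorem nat_arith {d s D n δ : ℕ} (h : d + s < D + δ) (hD : D ≤ n) : d + s + 1 ≤ n + δ := by lia

variable [IsLocalRing A]

theorem subsingleton_quot (s : Finset A) (P : PrimeSpectrum A) (δ : ℕ) (hdim : ringKrullDim (A ⧸ P.asIdeal) = (δ : WithBot ℕ∞))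
    (e : ℕ) (he : δ < e) : Subsingleton (LocCoh.H (Ideal.span (s : Set A)) e (A ⧸ P.asIdeal)) := by
  obtain ⟨φ, -⟩ := LocH.exists_semilinearEquiv (R := A) (R' := A ⧸ P.asIdeal) (I := Ideal.span (s : Set A)) e (A ⧸ P.asIdeal)
  haveI := LocH.cdLE_of_ringKrullDim_le ((Ideal.span (s : Set A)).map (Ideal.Quotient.mk P.asIdeal)) δ hdim.le (A ⧸ P.asIdeal) e he
  exact φ.symm.toEquiv.subsingleton

theorem one_le_cd (s : Finset A) {d : ℕ} (hd : LocCoh.CdLE A (Ideal.span (s : Set A)) d) (P : PrimeSpectrum A)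
    (hP : ¬ Ideal.span (s : Set A) ≤ P.asIdeal) (hr : ∃ r : PrimeSpectrum A, P ≤ r ∧ Ideal.span (s : Set A) ≤ r.asIdeal) :
    1 ≤ d := by
  by_contra h0
  obtain ⟨r, hPr, hIr⟩ := hr
  obtain ⟨r₀, hr₀, hle⟩ := Ideal.exists_minimalPrimes_le (sup_le (show P.asIdeal ≤ r.asIdeal from hPr) hIr)
  let π := Ideal.Quotient.mk P.asIdeal
  haveI := hr₀.1.1
  have hker : RingHom.ker π ≤ r₀ := by rw [Ideal.mk_ker]; exact le_sup_left.trans hr₀.1.2
  haveI : (r₀.map π).IsPrime := Ideal.map_isPrime_of_surjective Ideal.Quotient.mk_surjective hker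
  have hmin : r₀.map π ∈ ((Ideal.span (s : Set A)).map π).minimalPrimes := by
    refine ⟨⟨inferInstance, Ideal.map_mono (le_sup_right.trans hr₀.1.2)⟩, fun Q hQ hQr => ?_⟩
    haveI := hQ.1
    have hc : (r₀.map π).comap π = r₀ := by
      rw [Ideal.comap_map_of_surjective _ Ideal.Quotient.mk_surjective, ← RingHom.ker_eq_comap_bot, sup_eq_left.2 hker]
    have h1 : r₀ ≤ Q.comap π := hr₀.2 ⟨Ideal.IsPrime.comap π, sup_le (Ideal.mk_ker.ge.trans (Ideal.comap_mono bot_le))
      (Ideal.map_le_iff_le_comap.1 hQ.2)⟩ (hc ▸ Ideal.comap_mono hQr)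
    rw [← Ideal.map_comap_of_surjective π Ideal.Quotient.mk_surjective Q]
    exact Ideal.map_mono h1
  have hq : LocCoh.CdLE (A ⧸ P.asIdeal) ((Ideal.span (s : Set A)).map π) d := fun N _ _ i hi => by
    letI : Module A N := Module.compHom N π
    haveI : IsScalarTower A (A ⧸ P.asIdeal) N := ⟨fun r x m => by rw [Algebra.smul_def, mul_smul]; rfl⟩
    obtain ⟨φ, -⟩ := LocH.exists_semilinearEquiv (R := A) (R' := A ⧸ P.asIdeal) (I := Ideal.span (s : Set A)) i N
    haveI : Subsingleton ↑((CategoryTheory.Functor.obj (localCohomology (Ideal.span (s : Set A)) i)) (ModuleCat.of A N)) :=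
      hd N i hi
    exact φ.toEquiv.subsingleton
  have h1 := LocH.height_le_of_cdLE hq hmin
  obtain rfl : d = 0 := by lia
  have h2 : (r₀.map π).height = 0 := nonpos_iff_eq_zero.1 (by exact_mod_cast h1)
  rw [Ideal.height_eq_zero_iff] at h2
  have h3 : r₀.map π = ⊥ := le_bot_iff.1 (h2.2 ⟨Ideal.isPrime_bot, le_rfl⟩ bot_le)
  refine hP ((le_sup_right.trans hr₀.1.2).trans fun x hx => ?_)
  rw [← Ideal.Quotient.eq_zero_iff_mem]
  exact (Submodule.mem_bot _).1 (h3 ▸ Ideal.mem_map_of_mem π hx)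

theorem local_uvan (hω : Dual.IsDualizing A ω) (s : Finset A) [IsAdicComplete (Ideal.span (s : Set A)) A] {d : ℕ}
    (hd : LocCoh.CdLE A (Ideal.span (s : Set A)) d) (M : Type u) [AddCommGroup M] [Module A M] [Module.Finite A M] (n : ℕ)
    (h4 : ∀ p : PrimeSpectrum A, ¬ Ideal.span (s : Set A) ≤ p.asIdeal →
      (∃ r : PrimeSpectrum A, p ≤ r ∧ Ideal.span (s : Set A) ≤ r.asIdeal ∧ r.asIdeal ≠ maximalIdeal A) →
      (n : ℕ∞) ≤ LocCoh.depth (Localization.AtPrime p.asIdeal) (LocalizedModule p.asIdeal.primeCompl M) ∨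
      (((d + n : ℕ) : ℕ∞) : WithBot ℕ∞) < ((LocCoh.depth (Localization.AtPrime p.asIdeal)
        (LocalizedModule p.asIdeal.primeCompl M) : ℕ∞) : WithBot ℕ∞) + ringKrullDim (A ⧸ p.asIdeal))
    (h6 : ∀ p : PrimeSpectrum A, ¬ Ideal.span (s : Set A) ≤ p.asIdeal →
      ¬ (∃ r : PrimeSpectrum A, p ≤ r ∧ Ideal.span (s : Set A) ≤ r.asIdeal ∧ r.asIdeal ≠ maximalIdeal A) →
      (n : ℕ∞) < LocCoh.depth (Localization.AtPrime p.asIdeal) (LocalizedModule p.asIdeal.primeCompl M))
    (R : Rep ω) (j : ℤ) (hj : -del hω (closedPoint A) - n - 1 ≤ j) :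
    UVan (Ideal.span (s : Set A)) (R.D M) j := by
  classical
  refine UD.apply (K := DerivedCategory.Q.obj (R.D M)) ?_ (ac_D R M s) (Iso.refl _)
  haveI hGE : (DerivedCategory.Q.obj (R.D M)).IsGE R.a :=
    (DerivedCategory.isGE_iff _ _).2 fun i hi => R.isZero_homology_out M i (Or.inl hi)
  haveI hLE : (DerivedCategory.Q.obj (R.D M)).IsLE R.b :=
    (DerivedCategory.isLE_iff _ _).2 fun i hi => R.isZero_homology_out M i (Or.inr hi)
  refine ud_bounded R.b j (R.b + 1 - R.a).toNat R.a _ hGE hLE (by lia) fun i => ud_shift (-i) ?_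
  haveI := finite_T hω M i
  haveI : Module.Finite A ((R.D M).homology i) := R.finite_homology M i inferInstance
  refine ud_of_iso ((DerivedCategory.singleFunctor (ModuleCat.{u} A) 0).mapIso (R.homologyIso M i).symm) ?_
  refine ud_finite _ ((R.D M).homology i) fun P hP => ?_
  -- `P` is in the support of `T ω M i`
  have hnv : ¬ Van ω P.asIdeal M i := fun hv => by
    obtain ⟨S, g, hg⟩ := R.exists_homology_quot M i
    obtain ⟨y, hy⟩ := Module.mem_support_iff'.1 hP
    obtain ⟨z, rfl⟩ := hg y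
    obtain ⟨u, hu, huz⟩ := hv z.1
    exact hy u hu (by rw [← map_smul, show u • z = 0 from Subtype.ext huz, map_zero])
  by_cases hPI : Ideal.span (s : Set A) ≤ P.asIdeal
  · refine ud_inD (A ⧸ P.asIdeal) _ (Or.inr (Or.inl fun x => ⟨1, fun b hb => ?_⟩))
    obtain ⟨c, rfl⟩ := Ideal.Quotient.mk_surjective x
    rw [pow_one] at hb
    rw [Algebra.smul_def, Ideal.Quotient.algebraMap_eq, ← map_mul]
    exact Ideal.Quotient.eq_zero_iff_mem.2 (Ideal.mul_mem_right _ _ (hPI hb))
  by_cases ha : j + -i < 0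
  · exact ud_inD (A ⧸ P.asIdeal) _ (Or.inl ha)
  have hPc : P ≤ closedPoint A := le_maximalIdeal P.isPrime.ne_top
  have hdi : -del hω P ≥ i := by
    by_contra hlt
    exact hnv (van_gt hω (by lia))
  have hδ0 := del_le hω hPc
  obtain ⟨δ, hδ⟩ := Int.eq_ofNat_of_zero_le (show 0 ≤ del hω P - del hω (closedPoint A) by lia)
  obtain ⟨n', hn'⟩ := Int.eq_ofNat_of_zero_le (show (0 : ℤ) ≤ -del hω P - i by lia)
  have hdim : ringKrullDim (A ⧸ P.asIdeal) = (δ : WithBot ℕ∞) := by
    have h1 := krullDim_Icc hω hPc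
    rw [hδ, Int.toNat_natCast] at h1
    rw [← h1]
    exact (ringKrullDim_quotient _).trans (Order.krullDim_eq_of_orderIso
      { toFun := fun w => ⟨w.1, w.2, le_maximalIdeal w.1.isPrime.ne_top⟩
        invFun := fun w => ⟨w.1, w.2.1⟩
        left_inv := fun _ => rfl
        right_inv := fun _ => rfl
        map_rel_iff' := Iff.rfl })
  have hdepth := (DualCx.depth_le_iff hω (M := M) P n').2 ⟨n', le_rfl, by
    rwa [show -del hω P - (n' : ℤ) = i by lia]⟩
  haveI : IsLocalRing (A ⧸ P.asIdeal) := IsLocalRing.of_surjective' _ Ideal.Quotient.mk_surjective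
  let π := Ideal.Quotient.mk P.asIdeal
  by_cases hr : ∃ r : PrimeSpectrum A, P ≤ r ∧ Ideal.span (s : Set A) ≤ r.asIdeal ∧ r.asIdeal ≠ maximalIdeal A
  swap
  · have h := h6 P hPI hr
    have hlt : n < n' := by exact_mod_cast h.trans_le hdepth
    have hne : P ≠ closedPoint A := fun h1 => hPI (h1 ▸ (IsAdicComplete.le_jacobson_bot _).trans
      (IsLocalRing.jacobson_eq_maximalIdeal (⊥ : Ideal A) bot_ne_top).le)
    have hδ1 := del_lt hω (lt_of_le_of_ne hPc hne)
    refine ud_inD (A ⧸ P.asIdeal) _ (Or.inr (Or.inr ⟨?_, ?_⟩))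
    · lia
    · exact subsingleton_quot s P δ hdim _ (by lia)
  obtain ⟨r, hPr, hIr, hrm⟩ := hr
  have hδ2 : 2 ≤ δ := by
    have h1 : P < r := lt_of_le_of_ne hPr fun h => hPI (h ▸ hIr)
    have h2 : r < closedPoint A := lt_of_le_of_ne (le_maximalIdeal r.isPrime.ne_top) fun h => hrm (congrArg PrimeSpectrum.asIdeal h)
    have := del_lt hω h1
    have := del_lt hω h2
    lia
  have h := h4 P hPI ⟨r, hPr, hIr, hrm⟩
  rw [hdim] at h
  generalize LocCoh.depth (Localization.AtPrime P.asIdeal) (LocalizedModule P.asIdeal.primeCompl M) = D at hdepth h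
  obtain ⟨Dn, rfl⟩ := ENat.ne_top_iff_exists.1 (ne_top_of_le_ne_top (ENat.coe_ne_top n') hdepth)
  have hDn : Dn ≤ n' := by exact_mod_cast hdepth
  rcases h with h | h
  · have hsD : n ≤ Dn := by exact_mod_cast h
    refine ud_inD (A ⧸ P.asIdeal) _ (Or.inr (Or.inr ⟨by lia, ?_⟩))
    rcases lt_or_eq_of_le (show δ ≤ (j + -i + 1).toNat by lia) with hlt | he
    · exact subsingleton_quot s P δ hdim _ hlt
    rw [← he]
    haveI : IsAdicComplete ((Ideal.span (s : Set A)).map π) (A ⧸ P.asIdeal) :=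
      (IsAdicComplete.map_algebraMap_iff _ (A ⧸ P.asIdeal)).2 (FinAdic.isAdicComplete_of_finite _ (A ⧸ P.asIdeal))
    let r' : PrimeSpectrum (A ⧸ P.asIdeal) := ⟨r.asIdeal.map π,
      Ideal.map_isPrime_of_surjective Ideal.Quotient.mk_surjective (by rw [Ideal.mk_ker]; exact hPr)⟩
    obtain ⟨φ, -⟩ := LocH.exists_semilinearEquiv (R := A) (R' := A ⧸ P.asIdeal) (I := Ideal.span (s : Set A)) δ (A ⧸ P.asIdeal)
    haveI := HTLib.subsingleton_H_top ((Ideal.span (s : Set A)).map π) hdim r' (Ideal.map_mono hIr) fun heq => hrm (by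
      have h6 := congrArg (Ideal.comap π) heq
      rw [Ideal.comap_map_of_surjective _ Ideal.Quotient.mk_surjective, ← RingHom.ker_eq_comap_bot, Ideal.mk_ker,
        sup_eq_left.2 hPr] at h6
      exact h6.trans (IsLocalRing.eq_maximalIdeal (Ideal.comap_isMaximal_of_surjective _ Ideal.Quotient.mk_surjective)))
    exact φ.symm.toEquiv.subsingleton
  · have h' : d + n < Dn + δ := by exact_mod_cast h
    have h'' := nat_arith h' hDn
    have hd1 : 1 ≤ d := one_le_cd s hd P hPI ⟨r, hPr, hIr⟩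
    exact ud_inD (A ⧸ P.asIdeal) _ (Or.inr (Or.inr ⟨by lia, hd (A ⧸ P.asIdeal) _ (by lia)⟩))

end

end Groth.Agent.HTLib
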